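import Cfsg.Agent.Mrg.Omega.IId.FourSide
import Cfsg.Agent.Mrg.Omega.IId.Match
import Cfsg.Agent.Mrg.Omega.IId.TriOf
import Cfsg.Agent.Mrg.Omega.Mix.Entry
import Cfsg.Agent.Mrg.Omega.Mix.OfFrame
import Cfsg.Agent.Mrg.Omega.BTwo.Entry
import Cfsg.Agent.Mrg.Omega.IId.BtsOf
import Cfsg.Agent.Mrg.Omega.IId.Cv.Half
import Cfsg.Agent.Mrg.Omega.IId.Cv.Cut
import Cfsg.Agent.Mrg.Omega.IId.ExcKill
import Cfsg.Agent.Mrg.Omega.NatPair.Pair
import Cfsg.Agent.Mrg.Omega.All.Basic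
import Cfsg.Agent.Mrg.Omega.NatPair.Quad

section


/-!
# II.d, CASE 1, `q ≥ 4`: the entry (#16554 (b) and glue)

* `pre M i : PreMod F (fac M i)`, `Nm_stab` : `stab M i` normalises the `SL₂(F)`;
* `Four.syl_fac` : `stab M i` is a Sylow 2-subgroup of `N_G(fac M i)`;
* `Ent` : the data of the unmixed case, `BTS V₁ (pt N)`, `V₂ ≤ CenX V₁ (pt N)`;
* `MixedFalse` : the socket of the mixed case (helper330);
* `entry` : from the hypotheses of `WrMain4` and `MixedFalse` to `Ent`.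
-/

set_option autoImplicit false
set_option linter.unusedSectionVars false

namespace Cfsg.Agent.Omega.IId.FourSide

open Subgroup Cfsg Cfsg.Agent.ZN.ChoiceBase
open Cfsg.Agent.ZN (o2 zc zl)
open Cfsg.Agent.Omega.MinPar Cfsg.Agent.Omega.FFThm Cfsg.Agent.Omega.Frame
open Cfsg.Agent.Lib.SL2Mat
open Cfsg.Agent.Omega.NatPair (ap ap_mul ap_one ap_inv_ap ap_ap_inv exists_ap ap_add NatMod PreMod)
open scoped commutatorElement

universe u

/-! ### The module -/

section pre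

variable {G : Type u} [Group G] {F : Type} [Field F] {S P : Subgroup G} {k : ℕ}

/-- `fac M i` as a module for `SL₂(F)`. -/
noncomputable def pre (M : NatK F S P (zl S P) ⊥ k) (i : Fin k) : PreMod F (fac M i) where
  e x := (exists_fac M i x).choose
  e_add x y := by
    refine ext_fac M (exists_fac M i _).choose_spec.1
      (mul_mem (exists_fac M i x).choose_spec.1 (exists_fac M i y).choose_spec.1) ?_
    rw [M.mul _ (exists_fac M i x).choose_spec.1.1 _ (exists_fac M i y).choose_spec.1.1, Pi.add_apply,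
      (exists_fac M i x).choose_spec.2, (exists_fac M i y).choose_spec.2, (exists_fac M i (x + y)).choose_spec.2]
  e_inj x y h := by
    rw [← (exists_fac M i x).choose_spec.2, ← (exists_fac M i y).choose_spec.2]
    exact congrArg (fun g => M.e g i) h
  mem_iff g := by
    constructor
    · intro hg
      exact ⟨M.e g i, ext_fac M (exists_fac M i _).choose_spec.1 hg (exists_fac M i _).choose_spec.2⟩
    · rintro ⟨x, rfl⟩
      exact (exists_fac M i x).choose_spec.1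
  lift A := by
    obtain ⟨g, hg, hA⟩ := Lns.exists_lift M i A
    refine ⟨g, fun x => ext_fac M (Lns.grp_conj_fac hg (exists_fac M i x).choose_spec.1)
      (exists_fac M i _).choose_spec.1 ?_⟩
    rw [hA _ (exists_fac M i x).choose_spec.1.1, (exists_fac M i x).choose_spec.2,
      (exists_fac M i (ap A x)).choose_spec.2]

theorem pre_e (M : NatK F S P (zl S P) ⊥ k) (i : Fin k) (x : Fin 2 → F) : M.e ((pre M i).e x) i = x :=
  (exists_fac M i x).choose_spec.2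

/-- `stab M i` normalises the `SL₂(F)` on `fac M i`. -/
theorem Nm_stab (hSP : S ≤ P) (M : NatK F S P (zl S P) ⊥ k) (i : Fin k) : ∀ t ∈ stab M i, (pre M i).Nm t := by
  intro t ht h A hA
  obtain ⟨g, hg, hgA⟩ := Lns.exists_lift M i A
  -- `g` and `h` act in the same way
  have hgi : (pre M i).Ind g A := by
    intro x
    refine ext_fac M (Lns.grp_conj_fac hg ((pre M i).e_mem x)) ((pre M i).e_mem _) ?_
    rw [hgA _ ((pre M i).e_mem x).1, pre_e, pre_e]
  have htg : t * g * t⁻¹ ∈ grp M {i} := (mem_normalizer_iff.1 (stab_normalizes_grp M hSP i ht) g).1 hg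
  obtain ⟨B, hB⟩ := Lns.grp_act htg
  refine ⟨B, fun x => ?_⟩
  have htn := stab_normalizes M i ht
  -- `t⁻¹ v t ∈ fac M i`
  obtain ⟨y, hy⟩ := ((pre M i).mem_iff _).1 ((mem_normalizer_iff.1 (inv_mem htn) _).1 ((pre M i).e_mem x))
  rw [inv_inv] at hy
  have e1 : t * h * t⁻¹ * (pre M i).e x * (t * h * t⁻¹)⁻¹ = t * g * t⁻¹ * (pre M i).e x * (t * g * t⁻¹)⁻¹ := by
    calc t * h * t⁻¹ * (pre M i).e x * (t * h * t⁻¹)⁻¹ = t * (h * (t⁻¹ * (pre M i).e x * t) * h⁻¹) * t⁻¹ := by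
          group
      _ = t * (g * (t⁻¹ * (pre M i).e x * t) * g⁻¹) * t⁻¹ := by rw [← hy, hA, hgi]
      _ = t * g * t⁻¹ * (pre M i).e x * (t * g * t⁻¹)⁻¹ := by group
  rw [e1]
  refine ext_fac M (Lns.grp_conj_fac htg ((pre M i).e_mem x)) ((pre M i).e_mem _) ?_
  rw [hB _ ((pre M i).e_mem x).1, pre_e, pre_e]

end pre

/-! ### `T` is a Sylow 2-subgroup of `N_G(V₁)` -/

section syl

variable {G : Type u} [Group G] [Finite G] {F : Type} [Field F] [Finite F] [CharP F 2]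
  {S : Sylow 2 G} {P : Subgroup G} {M : NatK F (S : Subgroup G) P (zl (S : Subgroup G) P) ⊥ 2} {i j : Fin 2}

/-- The line `line M i` is the only subgroup of order `q` of `V₁` which is normalised by `T`. -/
theorem Four.eq_line (h : Four M i) {X : Subgroup G} (hX : X ≤ fac M i) (hc : Nat.card X = Nat.card F)
    (hn : stab M i ≤ normalizer (X : Set G)) : X = line M i := by
  by_cases hle : X ≤ line M i
  · exact Subgroup.eq_of_le_of_card_ge hle (by rw [hc, card_line])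
  obtain ⟨x, hx, hxl⟩ := Set.not_subset.1 hle
  have hx1 : M.e x i 1 ≠ 0 := fun h0 => hxl ((mem_line M).2 ⟨hX hx, h0⟩)
  refine (Subgroup.eq_of_le_of_card_ge (fun r hr => ?_) (by rw [hc, card_line])).symm
  obtain ⟨u, hu, hug, h1⟩ := exists_unip M h.le i (M.e r i 0 / M.e x i 1)
  have h2 : u * x * u⁻¹ ∈ X := (mem_normalizer_iff.1 (hn hu) x).1 hx
  have h3 : r = u * x * u⁻¹ * x⁻¹ := by
    refine ext_fac M (line_le M i hr) (mul_mem (hX h2) (inv_mem (hX hx))) ?_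
    rw [M.mul _ (hX h2).1 _ (inv_mem (hX hx).1), Pi.add_apply, e_inv M (hX hx).1, Pi.neg_apply,
      h1.1 x (hX hx).1 i, Function.update_self]
    apply NatPair.ext2
    · rw [Pi.add_apply, NatPair.ap_zero', up_00, up_01, Pi.neg_apply]
      field_simp
      ring
    · rw [Pi.add_apply, NatPair.ap_one', up_10, up_11, Pi.neg_apply, ((mem_line M).1 hr).2]
      ring
  rw [h3]
  exact mul_mem h2 (inv_mem hx)

/-- **`T` is a Sylow 2-subgroup of `N_G(V₁)`.** -/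
theorem Four.syl_fac (h : Four M i) : ¬ 2 ∣ (stab M i).relIndex (normalizer (fac M i : Set G)) := by
  have : Fact (Nat.Prime 2) := ⟨Nat.prime_two⟩
  obtain ⟨Q, hTQ, hQN, hQ2, hQs⟩ := Half.exists_sylow_le h.T2 (stab_normalizes M i)
  have hQT : Q = stab M i := by
    by_contra hne
    have hlt : stab M i < Q := lt_of_le_of_ne hTQ (Ne.symm hne)
    have hlt' := Lib.GoldschmidtFusion.lt_inf_normalizer hQ2 hlt
    refine hlt'.not_ge (h.le_T (hQ2.to_le inf_le_left) hlt'.le fun t ht => ?_)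
    -- `t` normalises `T` and `V₁`, so it normalises the line
    rw [mem_normalizer_iff_cj]
    refine h.eq_line ?_ (by rw [card_cj, card_line]) ?_
    · intro x hx
      rw [mem_cj_iff] at hx
      have h1 := (mem_normalizer_iff.1 (hQN ht.1) _).1 (line_le M i hx)
      have e : t * (t⁻¹ * x * t) * t⁻¹ = x := by group
      rwa [e] at h1
    · have h1 := cj_mono t (stab_normalizes_line M h.le i)
      rw [cj_normalizer, cj_eq_of_mem_normalizer ht.2] at h1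
      exact h1
  rwa [hQT] at hQs

end syl

/-! ### The entry -/

/-- The data of the unmixed case: `T = stab M i`, `V₁ = fac M i`, `R = line M i`, `V₂ = fac M j`. -/
structure Ent (K : Cls.{u}) {G : Type u} [Group G] [Finite G] (S : Sylow 2 G) (P : Subgroup G) {F : Type} [Field F]
    [Finite F] [CharP F 2] (M : NatK F (S : Subgroup G) P (zl (S : Subgroup G) P) ⊥ 2) (i j : Fin 2)
    (N : NatMod F (fac M i)) : Prop where
  hyp : Hyp K S
  four : Four M i
  ne : i ≠ j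
  /-- the coordinates -/
  e : ∀ x, M.e (N.e x) i = x
  line : N.line ![1, 0] = line M i
  /-- `T` is a Sylow 2-subgroup of `N_G(V₁)` -/
  syl : ¬ 2 ∣ (stab M i).relIndex (normalizer (fac M i : Set G))
  bts : BTwo.BTS (fac M i) (BTwo.pt N)
  cen : fac M j ≤ BTwo.CenX (fac M i) (BTwo.pt N)

/-- The unmixed case. -/
theorem exists_ent {K : Cls.{u}} {G : Type u} [Group G] [Finite G] {S : Sylow 2 G} {P : Subgroup G} {F : Type}
    [Field F] [Finite F] [CharP F 2] {M : NatK F (S : Subgroup G) P (zl (S : Subgroup G) P) ⊥ 2} {i j : Fin 2}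
    (hH : Hyp K S) (h : Four M i) (hij : i ≠ j)
    (hne : ∃ g ∈ normalizer (line M i : Set G), ∃ v ∈ fac M i, ∃ w ∈ fac M i,
      v * (g * w * g⁻¹) ≠ g * w * g⁻¹ * v) : ∃ N : NatMod F (fac M i), Ent K S P M i j N := by
  obtain ⟨g, hg, hne⟩ := hne
  obtain ⟨N, hN, b, hc⟩ := h.bts hij (pre_e M i) h.syl_fac (Nm_stab h.le M i) hg hne
  have hNe : ∀ x, M.e (N.e x) i = x := fun x => by rw [hN, pre_e]
  refine ⟨N, hH, h, hij, hNe, ?_, h.syl_fac, b, hc⟩
  rw [← pre_line (pre_e M i)]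
  ext y
  rw [NatMod.mem_line, PreMod.mem_line]
  simp only [hN]

/-- The socket of the mixed case (`WrMain4`, section 3; helper330): `⟨V₁^{N_G(R)}⟩` and `⟨V₁'^{N_G(R)}⟩` are not both
abelian. -/
def MixedFalse : Prop :=
  ∀ (G : Type u) [Group G] [Finite G] (S S' : Sylow 2 G) (P P' : Subgroup G) (F F' : Type) [Field F] [Finite F]
    [CharP F 2] [Field F'] [Finite F'] [CharP F' 2]
    (M : NatK F (S : Subgroup G) P (zl (S : Subgroup G) P) ⊥ 2)
    (M' : NatK F' (S' : Subgroup G) P' (zl (S' : Subgroup G) P') ⊥ 2) (i i' : Fin 2), Four M i → Four M' i' →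
    line M i = line M' i' → (∃ v ∈ fac M i, ∃ w ∈ fac M' i', v * w ≠ w * v) →
    (∀ g ∈ normalizer (line M i : Set G), ∀ v ∈ fac M i, ∀ w ∈ fac M i, v * (g * w * g⁻¹) = g * w * g⁻¹ * v) →
    (∀ g ∈ normalizer (line M i : Set G), ∀ v ∈ fac M' i', ∀ w ∈ fac M' i',
      v * (g * w * g⁻¹) = g * w * g⁻¹ * v) → False

/-- **The entry**: from the hypotheses of `WrMain4` to the unmixed case. -/
theorem entry (hmix : MixedFalse.{u}) {K : Cls.{u}} {G : Type u} [Group G] [Finite G] {S S' : Sylow 2 G}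
    (hH : Hyp K S) {P P' : Subgroup G} (hp : Pair S S' P P') {F F' : Type} [Field F] [Finite F] [CharP F 2]
    [Field F'] [Finite F'] [CharP F' 2] {k' : ℕ} (M : NatK F (S : Subgroup G) P (zl (S : Subgroup G) P) ⊥ 2)
    (M' : NatK F' (S' : Subgroup G) P' (zl (S' : Subgroup G) P') ⊥ k') (hk' : 1 ≤ k') (hk2 : k' ≤ 2) {i : Fin 2}
    (hi : ⁅zl (S : Subgroup G) P, zl (S' : Subgroup G) P'⁆ = line M i)
    (hd : ¬ 2 ∣ (stab M i).relIndex (normalizer (line M i : Set G))) (h4 : 4 ≤ Nat.card F) :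
    ∃ (S₀ : Sylow 2 G) (P₀ : Subgroup G) (F₀ : Type) (_ : Field F₀) (_ : Finite F₀) (_ : CharP F₀ 2)
      (M₀ : NatK F₀ (S₀ : Subgroup G) P₀ (zl (S₀ : Subgroup G) P₀) ⊥ 2) (i₀ j₀ : Fin 2) (N : NatMod F₀ (fac M₀ i₀)),
      Ent K S₀ P₀ M₀ i₀ j₀ N := by
  obtain ⟨t, t'⟩ := hH.typed' hp
  obtain ⟨rfl, -⟩ := SideOf.partner hH.ctx.char2 hp t.noOver t'.noOver M M' hk' hk2 hi hd
  obtain ⟨h, i', hl, -, h', hne⟩ := four_of hH hp M M' hi hd h4
  obtain ⟨j, hij⟩ : ∃ j : Fin 2, i ≠ j := ⟨i + 1, by omega⟩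
  obtain ⟨j', hij'⟩ : ∃ j' : Fin 2, i' ≠ j' := ⟨i' + 1, by omega⟩
  by_cases h1 : ∃ g ∈ normalizer (line M i : Set G), ∃ v ∈ fac M i, ∃ w ∈ fac M i,
      v * (g * w * g⁻¹) ≠ g * w * g⁻¹ * v
  · obtain ⟨N, hN⟩ := exists_ent hH h hij h1
    exact ⟨S, P, F, _, ‹_›, ‹_›, M, i, j, N, hN⟩
  by_cases h2 : ∃ g ∈ normalizer (line M' i' : Set G), ∃ v ∈ fac M' i', ∃ w ∈ fac M' i',
      v * (g * w * g⁻¹) ≠ g * w * g⁻¹ * v
  · obtain ⟨N, hN⟩ := exists_ent (hH.conj S') h' hij' h2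
    exact ⟨S', P', F', _, ‹_›, ‹_›, M', i', j', N, hN⟩
  exfalso
  push Not at h1 h2
  rw [← hl] at h2
  exact hmix G S S' P P' F F' M M' i i' h h' hl hne h1 h2

/-- **`WrMain4`** from the mixed case and the unmixed case. -/
theorem wrMain4_of {K : Cls.{u}} (hmix : MixedFalse.{u})
    (hent : ∀ (G : Type u) [Group G] [Finite G] (S : Sylow 2 G) (P : Subgroup G) (F : Type) [Field F] [Finite F]
      [CharP F 2] (M : NatK F (S : Subgroup G) P (zl (S : Subgroup G) P) ⊥ 2) (i j : Fin 2)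
      (N : NatMod F (fac M i)), ¬ Ent K S P M i j N) : WrMain4 K := by
  intro G _ _ S S' hH P P' hp _ F F' _ _ _ _ _ _ k' M M' hk' hk2 i hi hd h4
  obtain ⟨S₀, P₀, F₀, _, _, _, M₀, i₀, j₀, N, hN⟩ := entry hmix hH hp M M' hk' hk2 hi hd h4
  exact hent G S₀ P₀ F₀ M₀ i₀ j₀ N hN

end Cfsg.Agent.Omega.IId.FourSide

end

section


/-!
# `WrMain4`, section 3 (helper441 #16554): the mixed case is impossible

* `MixedT M₁ M₂ R T` : `MixOne.MixedW` with a 2-group `T ≤ N_G(R)` of odd index instead of a Sylow 2-subgroup of `G`,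
  NL is a field;
* `MixedT.cen_le` : `C_G(O₂(N_G(R))) ≤ R` if `|F₁| ≥ 4`;
* `mixedFalse : FourSide.MixedFalse` (NL = LEMMA Z on both sides; `V₂ ≤ Z(O₂(N_G(R)))`).
-/

set_option autoImplicit false
set_option linter.unusedSectionVars false

namespace Cfsg.Agent.Omega.IId.M4

open Subgroup Cfsg.Agent.Lib.SL2Mat Cfsg.Agent.Omega.BTwo Cfsg.Agent.Omega.Mix Cfsg.Agent.Omega.MixOne
open Cfsg.Agent.Omega.NatPair (dt dt_add dt_smul exists_smul_of_dt exists_comb ap ap_smul ap_add ap_zero' ap_one'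
  ap_mul ap_inv_ap ap_ap_inv ap_one exists_ap exists_ap_e ap_up_e ext2)

variable {G : Type*} [Group G]

/-- `MixOne.MixedW` over a 2-group `T` which is a Sylow 2-subgroup of `N_G(R)` only -/
structure MixedT {F₁ F₂ : Type*} [Field F₁] [Field F₂] {V₁ V₂ N₁ N₂ : Subgroup G} (M₁ : RMod F₁ V₁ N₁)
    (M₂ : RMod F₂ V₂ N₂) (R T : Subgroup G) : Prop where
  line₁ : ∃ w, w ≠ 0 ∧ R = M₁.line w
  line₂ : ∃ w, w ≠ 0 ∧ R = M₂.line w
  T2 : IsPGroup 2 T
  TN₁ : T ≤ N₁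
  TN₂ : T ≤ N₂
  TR : T ≤ normalizer (R : Set G)
  odd : ¬ 2 ∣ T.relIndex (normalizer (R : Set G))
  char : ∀ K : Subgroup G, IsPGroup 2 K → K ≠ ⊥ → Char2 (normalizer (K : Set G))
  comm₁ : ∀ a ∈ LL V₁ R R, ∀ b ∈ LL V₁ R R, a * b = b * a
  comm₂ : ∀ a ∈ LL V₂ R R, ∀ b ∈ LL V₂ R R, a * b = b * a
  ne : ∃ a ∈ LL V₁ R R, ∃ b ∈ LL V₂ R R, a * b ≠ b * a
  nl : ∀ K : Subgroup G, IsPGroup 2 K → N₁ ≤ normalizer (K : Set G) → N₂ ≤ normalizer (K : Set G) →
    normalizer (R : Set G) ≤ normalizer (K : Set G) → K = ⊥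

namespace MixedT

variable {F₁ F₂ : Type*} [Field F₁] [Field F₂] {V₁ V₂ N₁ N₂ : Subgroup G} {M₁ : RMod F₁ V₁ N₁}
  {M₂ : RMod F₂ V₂ N₂} {R T : Subgroup G}

theorem symm (m : MixedT M₁ M₂ R T) : MixedT M₂ M₁ R T where
  line₁ := m.line₂
  line₂ := m.line₁
  T2 := m.T2
  TN₁ := m.TN₂
  TN₂ := m.TN₁
  TR := m.TR
  odd := m.odd
  char := m.char
  comm₁ := m.comm₂
  comm₂ := m.comm₁
  ne := by
    obtain ⟨a, ha, b, hb, h⟩ := m.ne
    exact ⟨b, hb, a, ha, fun h1 => h h1.symm⟩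
  nl := fun K hK h1 h2 h3 => m.nl K hK h2 h1 h3

section base

variable (m : MixedT M₁ M₂ R T)
include m

theorem RV : R ≤ V₁ := by
  obtain ⟨w, -, hR⟩ := m.line₁
  rw [hR]
  exact M₁.line_le w

theorem R_ne : R ≠ ⊥ := by
  obtain ⟨w, hw, hR⟩ := m.line₁
  exact M₁.pt_ne ⟨R, w, hw, hR⟩

variable [CharP F₁ 2]

theorem R_pGroup : IsPGroup 2 R := fun v => ⟨1, by
  rw [pow_one, pow_two]
  exact Subtype.ext (M₁.sq (m.RV v.2))⟩

variable [Finite G]

theorem R_le_QQ : R ≤ QQ R :=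
  le_O2_of_normal le_normalizer m.R_pGroup fun _ hg _ ha => conj_mem_of_normalizer hg ha

theorem QQ_le_T : QQ R ≤ T := MinSimple.VModule.o2_le_of_sylow m.T2 m.odd

theorem QQ_le_N : QQ R ≤ N₁ := by
  exact m.QQ_le_T.trans m.TN₁

variable [Finite F₁]

theorem QQ_le_UW {w : Fin 2 → F₁} (hw : w ≠ 0) (hR : R = M₁.line w) : QQ R ≤ M₁.UW w := by
  refine M₁.lin_of_torus hw m.QQ_le_N ?_ (O2_isPGroup _) ?_
  · rw [← hR]; exact O2_le _
  · intro g _ hg x hx
    rw [← hR] at hg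
    exact conj_mem_of_normalizer (le_normalizer_O2 _ hg) hx

/-- **(1)** `V₁ ≤ O₂(N_G(R))` -/
theorem V_le_QQ : V₁ ≤ QQ R := by
  obtain ⟨w, hw, hR⟩ := m.line₁
  intro v hv
  have hvR : ∀ r ∈ R, v * r = r * v := fun r hr => M₁.comm hv (m.RV hr)
  have hvR' : ∀ r ∈ R, v * r * v⁻¹ ∈ R := fun r hr => by
    rw [hvR r hr, mul_inv_cancel_right]; exact hr
  refine Mix.stab_le m.R_le_QQ (m.char R m.R_pGroup m.R_ne) (mem_normalizer_of_conj hvR') hvR ?_
  intro y hy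
  have h1 := M₁.UW_comm hw (m.QQ_le_UW hw hR hy) (inv_mem hv)
  rw [← hR] at h1
  have h2 := hvR' _ h1
  have e : v * (y * v⁻¹ * y⁻¹ * v⁻¹⁻¹) * v⁻¹ = v * y * v⁻¹ * y⁻¹ := by group
  rwa [e] at h2

theorem C_le_QQ : LL V₁ R R ≤ QQ R := by
  refine Mix.LL_le fun g hg => ?_
  intro x hx
  have h1 := conj_mem_of_normalizer (le_normalizer_O2 _ (cj_eq_self_iff.1 hg)) (m.V_le_QQ (mem_cj.1 hx))
  have e : g * (g⁻¹ * x * g) * g⁻¹ = x := by group
  rwa [e] at h1

theorem QC {g b : G} (hg : g ∈ QQ R) (hb : b ∈ LL V₁ R R) : g * b * g⁻¹ * b⁻¹ ∈ R := by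
  obtain ⟨w, hw, hR⟩ := m.line₁
  let D : Subgroup G :=
    { carrier := {a | a ∈ normalizer (R : Set G) ∧ ∀ x ∈ QQ R, x * a * x⁻¹ * a⁻¹ ∈ R}
      one_mem' := ⟨one_mem _, fun x _ => by
        have : x * 1 * x⁻¹ * 1⁻¹ = 1 := by group
        rw [this]; exact one_mem _⟩
      mul_mem' := by
        rintro a b ⟨ha, ha1⟩ ⟨hb, hb1⟩
        refine ⟨mul_mem ha hb, fun x hx => ?_⟩
        have e : x * (a * b) * x⁻¹ * (a * b)⁻¹ = (x * a * x⁻¹ * a⁻¹) * (a * (x * b * x⁻¹ * b⁻¹) * a⁻¹) := by group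
        rw [e]
        exact mul_mem (ha1 x hx) (conj_mem_of_normalizer ha (hb1 x hx))
      inv_mem' := by
        rintro a ⟨ha, ha1⟩
        refine ⟨inv_mem ha, fun x hx => ?_⟩
        have e : x * a⁻¹ * x⁻¹ * a⁻¹⁻¹ = a⁻¹ * (x * a * x⁻¹ * a⁻¹)⁻¹ * a := by group
        rw [e]
        exact conj_inv_mem_of_normalizer ha (inv_mem (ha1 x hx)) }
  have h1 : LL V₁ R R ≤ D := by
    refine Mix.LL_le fun h hh => ?_
    have hhR := cj_eq_self_iff.1 hh
    intro a ha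
    refine ⟨O2_le _ (m.C_le_QQ (cj_le_LL hh ha)), fun x hx => ?_⟩
    have h2 := M₁.UW_comm hw (m.QQ_le_UW hw hR (conj_inv_mem_of_normalizer (le_normalizer_O2 _ hhR) hx))
      (mem_cj.1 ha)
    rw [← hR] at h2
    have h3 := conj_mem_of_normalizer hhR h2
    have e : h * (h⁻¹ * x * h * (h⁻¹ * a * h) * (h⁻¹ * x * h)⁻¹ * (h⁻¹ * a * h)⁻¹) * h⁻¹ = x * a * x⁻¹ * a⁻¹ := by
      group
    rwa [e] at h3
  exact (h1 hb).2 g hg

end base

section both

variable [Finite G] [Finite F₁] [Finite F₂] [CharP F₁ 2] [CharP F₂ 2] (m : MixedT M₁ M₂ R T)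
include m

/-- a mutual partner of `V₁` of type 2 on `R` -/
theorem exists_partner : ∃ g ∈ normalizer (R : Set G), RMutual V₁ (cj g V₂) N₁ (cj g N₂) := by
  by_contra hcon
  have key : ∀ g ∈ normalizer (R : Set G), ∀ v ∈ V₁, ∀ w ∈ cj g V₂, v * w = w * v := by
    intro g hg v hv w hw
    by_contra hvw
    refine hcon ⟨g, hg, ?_, ?_, v, hv, w, hw, hvw⟩
    · exact (cj_le_LL (cj_eq_self_iff.2 hg)).trans (m.symm.C_le_QQ.trans m.QQ_le_N)
    · have h1 := cj_mono (g := g) m.symm.QQ_le_N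
      rw [cj_QQ, cj_eq_self_iff.2 hg] at h1
      exact m.V_le_QQ.trans h1
  obtain ⟨a, ha, b, hb, hab⟩ := m.ne
  apply hab
  have h1 : LL V₂ R R ≤ centralizer (V₁ : Set G) := by
    refine Mix.LL_le fun g hg => ?_
    intro w hw
    rw [mem_centralizer_iff]
    exact fun v hv => key g (cj_eq_self_iff.1 hg) v hv w hw
  have h2 : LL V₁ R R ≤ centralizer (LL V₂ R R : Set G) := by
    refine Mix.LL_le fun g hg => ?_
    intro x hx
    rw [mem_centralizer_iff]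
    intro y hy
    have h3 : g⁻¹ * y * g ∈ LL V₂ R R :=
      conj_inv_mem_of_normalizer (normalizer_le_LL V₂ R R (cj_eq_self_iff.1 hg)) hy
    have h4 := mem_centralizer_iff.1 (h1 h3) _ (mem_cj.1 hx)
    calc y * x = g * (g⁻¹ * y * g * (g⁻¹ * x * g)) * g⁻¹ := by group
      _ = g * (g⁻¹ * x * g * (g⁻¹ * y * g)) * g⁻¹ := by rw [h4]
      _ = x * y := by group
  exact (mem_centralizer_iff.1 (h2 ha) b hb).symm

/-- `|F₁| = |F₂|` -/
theorem card_eq : Nat.card F₁ = Nat.card F₂ := by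
  obtain ⟨g, hg, h⟩ := m.exists_partner
  exact (pair M₁ (M₂.conj g) h).1

/-- `W₂(R)` induces the full root group on `V₁` -/
theorem full {w : Fin 2 → F₁} (hw : w ≠ 0) (hR : R = M₁.line w) : M₁.Full (LL V₂ R R) w := by
  obtain ⟨g, hg, h⟩ := m.exists_partner
  obtain ⟨-, w₁, w', hq, hq', hl, -⟩ := pair M₁ (M₂.conj g) h
  have h1 : R = M₁.line w₁ := by
    refine Subgroup.eq_of_le_of_card_ge ?_ ?_
    · rw [← hl]
      refine le_inf m.RV ?_
      have h2 := cj_mono (g := g) m.symm.RV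
      rwa [cj_eq_self_iff.2 hg] at h2
    · rw [M₁.card_line hq.ne, hR, M₁.card_line hw]
  have h2 : M₁.line w = M₁.line w₁ := by rw [← hR, h1]
  obtain ⟨c, hc⟩ := (M₁.line_eq_iff hw).1 h2
  have hc0 : c ≠ 0 := by
    rintro rfl
    rw [zero_smul] at hc
    exact hw hc
  have h3 : M₁.Full (cj g V₂) w₁ := hq.full
  rw [hc]
  exact (h3.mono (cj_le_LL (cj_eq_self_iff.2 hg))).smul hc0


theorem atR {w : Fin 2 → F₁} (hw : w ≠ 0) (hR : R = M₁.line w) : AtR M₁ V₂ R w where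
  ne := hw
  line := hR
  R_le := m.symm.RV
  UW := m.symm.C_le_QQ.trans (m.QQ_le_UW hw hR)
  full := m.full hw hR
  comm := fun _ hc _ hb => m.symm.QC (m.C_le_QQ hc) hb
  comm₁ := m.comm₁
  sq₁ := sq_of_comm_LL m.comm₁ fun _ hv => M₁.sq hv
  comm₂ := m.comm₂
  sq₂ := sq_of_comm_LL m.comm₂ fun _ hv => M₂.sq hv

theorem sideW : SideW V₁ (pt M₁) (fun i => LL V₂ R (pt M₁ i)) (fun i => LL V₁ R (pt M₁ i)) := by
  obtain ⟨w, hw, hR⟩ := m.line₁
  exact (m.atR hw hR).sideW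


theorem two : ∃ (i : Pt M₁) (j : Pt M₂), pt M₁ i = R ∧ pt M₂ j = R ∧
      TwoT V₁ V₂ (pt M₁) (fun i => LL V₂ R (pt M₁ i)) (fun i => LL V₁ R (pt M₁ i)) (pt M₂)
        (fun i => LL V₁ R (pt M₂ i)) (fun i => LL V₂ R (pt M₂ i)) i j T := by
  obtain ⟨w, hw, hR⟩ := m.line₁
  obtain ⟨w', hw', hR'⟩ := m.line₂
  refine ⟨⟨R, w, hw, hR⟩, ⟨R, w', hw', hR'⟩, rfl, rfl, ?_⟩
  exact
    { s₁ := m.sideW
      s₂ := m.symm.sideW
      hR := rfl
      hB := rfl
      hC := rfl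
      ch := m.char R m.R_pGroup m.R_ne
      NL := fun K hK k1 k2 k3 => m.nl K hK (M₁.le_ST.trans k1) (M₂.le_ST.trans k2) k3
      SV₁ := m.TN₁.trans M₁.le_ST
      SV₂ := m.TN₂.trans M₂.le_ST
      SR := m.TR
      odd := m.odd
      gen₁ := fun K hK => Mix.LL_le fun g hg => hK g (cj_eq_self_iff.1 hg)
      gen₂ := fun K hK => Mix.LL_le fun g hg => hK g (cj_eq_self_iff.1 hg) }

/-- **`C_G(O₂(N_G(R))) ≤ R`** -/
theorem cen_le (h4 : 4 ≤ Nat.card F₁) : centralizer (QQ R : Set G) ≤ R := by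
  obtain ⟨i, j, hi, hj, t⟩ := m.two
  obtain ⟨w, hw, hR⟩ := m.line₁
  obtain ⟨w', hw', hR'⟩ := m.line₂
  obtain ⟨c, hc0, hc1⟩ := exists_ne_zero_one h4
  obtain ⟨c', hc0', hc1'⟩ := exists_ne_zero_one (by rw [← m.card_eq]; exact h4 : 4 ≤ Nat.card F₂)
  have h5 := t.YY_eq (by rw [hi]; exact (m.atR hw hR).exists_torus hc0 hc1)
    (by rw [hj]; exact (m.symm.atR hw' hR').exists_torus hc0' hc1')
  intro x hx
  rw [← hi, ← h5, mem_YY]
  rw [mem_centralizer_iff] at hx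
  constructor
  · intro b hb
    rw [hi] at hb
    exact (hx b (m.symm.C_le_QQ hb)).symm
  · intro c hc
    rw [hi] at hc
    exact (hx c (m.C_le_QQ hc)).symm

end both

end MixedT

/-! ### `RMod` from `PreMod` -/

section pre

open Cfsg.Agent.Omega.NatPair (PreMod)

variable {F : Type*} [Field F] {V : Subgroup G}

/-- the elements of `N_G(V)` which normalise the `SL₂(F)` -/
def nmG (N : PreMod F V) : Subgroup G where
  carrier := {g | g ∈ normalizer (V : Set G) ∧ N.Nm g ∧ N.Nm g⁻¹}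
  one_mem' := by
    refine ⟨one_mem _, fun h A hA => ⟨A, ?_⟩, fun h A hA => ⟨A, ?_⟩⟩
    · rwa [one_mul, inv_one, mul_one]
    · rwa [inv_one, one_mul, inv_one, mul_one]
  mul_mem' := by
    rintro a b ⟨a1, a2, a3⟩ ⟨b1, b2, b3⟩
    refine ⟨mul_mem a1 b1, fun h A hA => ?_, fun h A hA => ?_⟩
    · obtain ⟨B, hB⟩ := b2 h A hA
      obtain ⟨C, hC⟩ := a2 _ B hB
      refine ⟨C, ?_⟩
      have e : a * b * h * (a * b)⁻¹ = a * (b * h * b⁻¹) * a⁻¹ := by group
      rwa [e]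
    · obtain ⟨B, hB⟩ := a3 h A hA
      obtain ⟨C, hC⟩ := b3 _ B hB
      refine ⟨C, ?_⟩
      have e : (a * b)⁻¹ * h * (a * b)⁻¹⁻¹ = b⁻¹ * (a⁻¹ * h * a⁻¹⁻¹) * b⁻¹⁻¹ := by group
      rwa [e]
  inv_mem' := by
    rintro a ⟨a1, a2, a3⟩
    exact ⟨inv_mem a1, a3, by rwa [inv_inv]⟩

theorem mem_nmG {N : PreMod F V} {g : G} : g ∈ nmG N ↔ g ∈ normalizer (V : Set G) ∧ N.Nm g ∧ N.Nm g⁻¹ := Iff.rfl

variable [Finite G]

theorem ind_mem_nmG {N : PreMod F V} {g : G} {A : Matrix.SpecialLinearGroup (Fin 2) F} (hg : N.Ind g A) :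
    g ∈ nmG N := by
  refine ⟨mem_normalizer_of_conj fun v hv => ?_, NatPair.PreMod.Nm.of_ind N hg, ?_⟩
  · obtain ⟨x, rfl⟩ := (N.mem_iff v).1 hv
    rw [hg]
    exact N.e_mem _
  · exact NatPair.PreMod.Nm.of_ind N (hg.inv N)

/-- `RMod` from `PreMod` -/
def toRMod (N : PreMod F V) : RMod F V (nmG N) where
  e := N.e
  e_add := N.e_add
  e_inj := N.e_inj
  mem_iff := N.mem_iff
  le := fun _ h => h.1
  cent := by
    intro c hc
    have h1 : N.Ind c 1 := fun x => by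
      rw [ap_one, ← mem_centralizer_iff.1 hc _ (N.e_mem x), mul_inv_cancel_right]
    exact ind_mem_nmG h1
  lift' := by
    intro A
    obtain ⟨g, hg⟩ := N.lift A
    exact ⟨g, ind_mem_nmG (N := N) hg, hg⟩
  norm := fun g hg h A hA => hg.2.1 h A hA

theorem toRMod_line (N : PreMod F V) (w : Fin 2 → F) : (toRMod N).line w = N.line w := by
  ext g
  rw [RMod.mem_line, PreMod.mem_line]
  rfl

end pre

/-! ### The mixed case -/

section mixed

open Cfsg.Agent.Omega.IId.FourSide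
open Cfsg.Agent.ZN (zl)
open Cfsg.Agent.Omega.FFThm (NatK)

variable {G : Type*} [Group G] [Finite G] {F : Type} [Field F] [Finite F] [CharP F 2]
  {S : Sylow 2 G} {P : Subgroup G} {M : NatK F (S : Subgroup G) P (zl (S : Subgroup G) P) ⊥ 2} {i j : Fin 2}

theorem stab_le_nmG (h : Four M i) : stab M i ≤ nmG (pre M i) := fun t ht =>
  ⟨stab_normalizes M i ht, Nm_stab h.le M i t ht, Nm_stab h.le M i _ (inv_mem ht)⟩

theorem grp_le_nmG (i : Fin 2) : grp M {i} ≤ nmG (pre M i) := by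
  intro g hg
  obtain ⟨B, hB⟩ := Lns.grp_act hg
  refine ind_mem_nmG (A := B) fun x => ?_
  refine ext_fac M (Lns.grp_conj_fac hg ((pre M i).e_mem x)) ((pre M i).e_mem _) ?_
  rw [hB _ ((pre M i).e_mem x).1, pre_e, pre_e]

theorem other_le_nmG (h : Four M i) (hij : i ≠ j) : grp M {j} ≤ nmG (pre M i) := by
  intro g hg
  apply (toRMod (pre M i)).cent
  rw [mem_centralizer_iff]
  exact fun v hv => ((h.two hij).L21 g hg v hv).symm

/-- LEMMA Z for `N_G(K)`, one side. -/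
theorem fac_le_center (h : Four M i) (hij : i ≠ j) {K : Subgroup G} (hK : IsPGroup 2 K) (hK1 : K ≠ ⊥)
    (hN : nmG (pre M i) ≤ normalizer (K : Set G)) :
    fac M i ≤ ZN.o2 (normalizer (K : Set G)) ⊓ centralizer (ZN.o2 (normalizer (K : Set G)) : Set G) := by
  have h' := h.swap hij
  have hst : stab M i = stab M j := stab_eq M h.le hij
  refine (LemZ.lemZ_normalizer h.c2T (h.two hij) (line_le M i) (line_le M j) (stab_normalizes_line M h.le i) ?_
    (fun U hU hTU hUR => h.le_T hU hTU hUR) ?_ hK hK1 ((stab_le_nmG h).trans hN)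
    ((grp_le_nmG i).trans hN) ((other_le_nmG h hij).trans hN)).2.1
  · rw [hst]
    exact stab_normalizes_line M h.le j
  · intro U hU hTU hUR
    rw [hst] at hTU ⊢
    exact h'.le_T hU hTU hUR

/-- commuting conjugates -/
theorem LL_comm {V R : Subgroup G} (h : ∀ g ∈ normalizer (R : Set G), ∀ v ∈ V, ∀ w ∈ V,
    v * (g * w * g⁻¹) = g * w * g⁻¹ * v) : ∀ a ∈ LL V R R, ∀ b ∈ LL V R R, a * b = b * a := by
  have h1 : LL V R R ≤ centralizer (LL V R R : Set G) := by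
    refine Mix.LL_le fun g hg => ?_
    rw [Subgroup.le_centralizer_iff]
    refine Mix.LL_le fun k hk => ?_
    intro x hx
    rw [mem_centralizer_iff]
    intro y hy
    rw [mem_cj] at hx
    rw [SetLike.mem_coe, mem_cj] at hy
    have h2 := h (g⁻¹ * k) (mul_mem (inv_mem (cj_eq_self_iff.1 hg)) (cj_eq_self_iff.1 hk)) _ hy _ hx
    calc y * x = g * (g⁻¹ * y * g * (g⁻¹ * k * (k⁻¹ * x * k) * (g⁻¹ * k)⁻¹)) * g⁻¹ := by group
      _ = g * (g⁻¹ * k * (k⁻¹ * x * k) * (g⁻¹ * k)⁻¹ * (g⁻¹ * y * g)) * g⁻¹ := by rw [h2]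
      _ = x * y := by group
  intro a ha b hb
  exact (mem_centralizer_iff.1 (h1 ha) b hb).symm

/-- conjugacy of subgroups which are Sylow 2-subgroups of `N` -/
theorem exists_cj_eq {T T' N : Subgroup G} (hT : T ≤ N) (hT' : T' ≤ N) (h2 : IsPGroup 2 T) (h2' : IsPGroup 2 T')
    (ho : ¬ 2 ∣ T.relIndex N) (ho' : ¬ 2 ∣ T'.relIndex N) : ∃ k ∈ N, cj k T' = T := by
  have : Fact (Nat.Prime 2) := ⟨Nat.prime_two⟩
  have a1 : IsPGroup 2 (T.subgroupOf N) := h2.comap_of_injective N.subtype N.subtype_injective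
  have a2 : IsPGroup 2 (T'.subgroupOf N) := h2'.comap_of_injective N.subtype N.subtype_injective
  obtain ⟨n, hn⟩ := MulAction.exists_smul_eq N (a2.toSylow ho') (a1.toSylow ho)
  have h3 : ∀ x : N, x ∈ T.subgroupOf N ↔ n⁻¹ * x * n ∈ T'.subgroupOf N := by
    intro x
    have e1 : x ∈ (a1.toSylow ho : Sylow 2 N) ↔ x ∈ T.subgroupOf N := Iff.rfl
    have e2 : n⁻¹ * x * n ∈ (a2.toSylow ho' : Sylow 2 N) ↔ n⁻¹ * x * n ∈ T'.subgroupOf N := Iff.rfl
    rw [← e1, ← e2, ← hn]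
    constructor
    · intro hx
      have h4 := Subgroup.mem_pointwise_smul_iff_inv_smul_mem.1 hx
      rw [← map_inv, MulAut.smul_def, MulAut.conj_apply, inv_inv] at h4
      exact h4
    · intro hx
      refine Subgroup.mem_pointwise_smul_iff_inv_smul_mem.2 ?_
      rw [← map_inv, MulAut.smul_def, MulAut.conj_apply, inv_inv]
      exact hx
  refine ⟨n, n.2, ?_⟩
  ext x
  rw [mem_cj]
  constructor
  · intro hx
    have hxN : x ∈ N := by
      have h4 := mul_mem (mul_mem n.2 (hT' hx)) (inv_mem n.2)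
      have e : (n : G) * ((n : G)⁻¹ * x * n) * (n : G)⁻¹ = x := by group
      rwa [e] at h4
    exact mem_subgroupOf.1 ((h3 ⟨x, hxN⟩).2 (mem_subgroupOf.2 hx))
  · intro hx
    exact mem_subgroupOf.1 ((h3 ⟨x, hT hx⟩).1 (mem_subgroupOf.2 hx))

end mixed

universe u

open Cfsg.Agent.Omega.IId.FourSide in
/-- **The socket of the mixed case.** -/
theorem mixedFalse : MixedFalse.{u} := by
  intro G _ _ S S' P P' F F' _ _ _ _ _ _ M M' i i' h h' hl hne h1 h2
  obtain ⟨j, hij⟩ : ∃ j : Fin 2, i ≠ j := ⟨i + 1, by omega⟩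
  obtain ⟨j', hij'⟩ : ∃ j' : Fin 2, i' ≠ j' := ⟨i' + 1, by omega⟩
  set R := line M i with hRdef
  have hfact : Fact (Nat.Prime 2) := ⟨Nat.prime_two⟩
  -- a common Sylow 2-subgroup
  have hT' : stab M' i' ≤ normalizer (R : Set G) := by
    rw [hl]; exact stab_normalizes_line M' h'.le i'
  have hT : stab M i ≤ normalizer (R : Set G) := stab_normalizes_line M h.le i
  obtain ⟨k, hk, hkT⟩ : ∃ k ∈ normalizer (R : Set G), cj k (stab M' i') = stab M i := by
    refine exists_cj_eq hT hT' h.T2 h'.T2 h.syl ?_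
    rw [hl]; exact h'.syl
  have hkR : cj k R = R := cj_eq_self_iff.2 hk
  let M₁ := toRMod (pre M i)
  let M₂ : RMod F' (cj k (fac M' i')) (cj k (nmG (pre M' i'))) := (toRMod (pre M' i')).conj k
  have hM₂ : ∀ w, M₂.line w = cj k ((toRMod (pre M' i')).line w) := fun w => (toRMod (pre M' i')).conj_line k w
  have eLL : LL (cj k (fac M' i')) R R = LL (fac M' i') R R := by
    have e1 := LL_conj k (fac M' i') R R
    rwa [hkR] at e1
  have m : MixedT M₁ M₂ R (stab M i) := by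
    refine ⟨⟨![1, 0], vec_ne, ?_⟩, ⟨![1, 0], vec_ne, ?_⟩, h.T2, stab_le_nmG h, ?_, hT, h.syl, ?_, LL_comm h1, ?_, ?_, ?_⟩
    · rw [toRMod_line, pre_line (pre_e M i)]
    · rw [hM₂, toRMod_line, pre_line (pre_e M' i'), ← hl, hkR]
    · rw [← hkT]
      exact cj_mono (stab_le_nmG h')
    · exact fun K hK hK1 => char2_normalizer h.c2T hK hK1
    · rw [eLL]
      exact LL_comm h2
    · rw [eLL]
      obtain ⟨v, hv, w, hw, hvw⟩ := hne
      exact ⟨v, V_le_LL _ _ hv, w, V_le_LL _ _ hw, hvw⟩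
    · intro K hK k1 k2 k3
      by_contra hK1
      have hk' : k ∈ normalizer (K : Set G) := k3 hk
      have k4 : nmG (pre M' i') ≤ normalizer (K : Set G) := by
        intro x hx
        have h3 := k2 (conj_mem_cj (g := k) hx)
        have h4 := mul_mem (mul_mem (inv_mem hk') h3) hk'
        have e : k⁻¹ * (k * x * k⁻¹) * k = x := by group
        rwa [e] at h4
      have h3 := fac_le_center h hij hK hK1 k1
      have h4 := fac_le_center h' hij' hK hK1 k4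
      obtain ⟨v, hv, w, hw, hvw⟩ := hne
      exact hvw (mem_centralizer_iff.1 (mem_inf.1 (h4 hw)).2 v (mem_inf.1 (h3 hv)).1)
  have h5 := m.cen_le h.q4
  have h6 : fac M j ≤ R := by
    refine le_trans ?_ h5
    rw [Subgroup.le_centralizer_iff]
    exact (SideOf.other h.c2T h.par M hij h.syl).2
  have h7 := (h.two hij).big2
  have h8 : fac M j = ⊥ := by
    rw [eq_bot_iff]
    intro x hx
    exact mem_bot.2 ((h.two hij).inf x (line_le M i (h6 hx)) hx)
  rw [h8, card_bot] at h7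
  omega

end Cfsg.Agent.Omega.IId.M4

end

section


/-!
# `M : NatV F S P V k`: the factor `fac M i` as a module for `SL₂(F)`

* `pre M i : PreMod F (fac M i)`, `pre_e`, `pre_line`;
* `Nm_stab`, `stab_le_nmG`, `grp_le_nmG`, `other_le_nmG` : `stab M i`, `grp M {i}`, `grp M {j}` lie in `nmG (pre M i)`.
-/

set_option autoImplicit false
set_option linter.unusedSectionVars false

namespace Cfsg.Agent.Omega.IId.NV

open Subgroup Cfsg Cfsg.Agent.ZN Cfsg.Agent.ZN.ChoiceBase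
open Cfsg.Agent.Omega.MinPar Cfsg.Agent.Omega.FFThm
open Cfsg.Agent.Lib.SL2Mat
open Cfsg.Agent.Omega.NatPair (ap ap_mul ap_one ap_inv_ap ap_ap_inv exists_ap ap_add PreMod)
open Cfsg.Agent.Omega.IId.M4 (nmG ind_mem_nmG toRMod)

universe u

section pre

variable {G : Type u} [Group G] {F : Type} [Field F] {S P V : Subgroup G} {k : ℕ}

theorem exists_lift (M : NatV F S P V k) (i : Fin k) (A : Matrix.SpecialLinearGroup (Fin 2) F) :
    ∃ g ∈ grp M {i}, ∀ v ∈ V, M.e (g * v * g⁻¹) i = ap A (M.e v i) := by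
  classical
  obtain ⟨g, hg, h1⟩ := M.lift (Function.update 1 i A)
  refine ⟨g, ⟨hg, _, h1, fun j hj => Function.update_of_ne hj _ _⟩, fun v hv => ?_⟩
  rw [h1.1 v hv i, Function.update_self]

theorem grp_act {M : NatV F S P V k} {i : Fin k} {g : G} (hg : g ∈ grp M {i}) :
    ∃ A : Matrix.SpecialLinearGroup (Fin 2) F, ∀ v ∈ V, M.e (g * v * g⁻¹) i = ap A (M.e v i) := by
  obtain ⟨-, A, hA, -⟩ := hg
  exact ⟨A i, fun v hv => hA.1 v hv i⟩

theorem grp_conj_fac {M : NatV F S P V k} {i : Fin k} {g v : G} (hg : g ∈ grp M {i}) (hv : v ∈ fac M i) :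
    g * v * g⁻¹ ∈ fac M i := (mem_normalizer_iff.1 (grp_normalizes M {i} {i} hg) v).1 hv

/-- `fac M i` as a module for `SL₂(F)`. -/
noncomputable def pre (M : NatV F S P V k) (i : Fin k) : PreMod F (fac M i) where
  e x := (exists_fac M i x).choose
  e_add x y := by
    refine ext_fac M (exists_fac M i _).choose_spec.1
      (mul_mem (exists_fac M i x).choose_spec.1 (exists_fac M i y).choose_spec.1) ?_
    rw [M.mul _ (exists_fac M i x).choose_spec.1.1 _ (exists_fac M i y).choose_spec.1.1, Pi.add_apply,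
      (exists_fac M i x).choose_spec.2, (exists_fac M i y).choose_spec.2, (exists_fac M i (x + y)).choose_spec.2]
  e_inj x y h := by
    rw [← (exists_fac M i x).choose_spec.2, ← (exists_fac M i y).choose_spec.2]
    exact congrArg (fun g => M.e g i) h
  mem_iff g := by
    constructor
    · intro hg
      exact ⟨M.e g i, ext_fac M (exists_fac M i _).choose_spec.1 hg (exists_fac M i _).choose_spec.2⟩
    · rintro ⟨x, rfl⟩
      exact (exists_fac M i x).choose_spec.1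
  lift A := by
    obtain ⟨g, hg, hA⟩ := exists_lift M i A
    refine ⟨g, fun x => ext_fac M (grp_conj_fac hg (exists_fac M i x).choose_spec.1)
      (exists_fac M i _).choose_spec.1 ?_⟩
    rw [hA _ (exists_fac M i x).choose_spec.1.1, (exists_fac M i x).choose_spec.2,
      (exists_fac M i (ap A x)).choose_spec.2]

theorem pre_e (M : NatV F S P V k) (i : Fin k) (x : Fin 2 → F) : M.e ((pre M i).e x) i = x :=
  (exists_fac M i x).choose_spec.2

theorem pre_line (M : NatV F S P V k) (i : Fin k) : (pre M i).line ![1, 0] = line M i := by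
  ext g
  rw [PreMod.mem_line, mem_line]
  constructor
  · rintro ⟨c, rfl⟩
    refine ⟨(pre M i).e_mem _, ?_⟩
    rw [pre_e]
    simp
  · rintro ⟨hg, hg1⟩
    refine ⟨M.e g i 0, ext_fac M ((pre M i).e_mem _) hg ?_⟩
    rw [pre_e]
    apply NatPair.ext2
    · simp
    · rw [hg1]; simp

/-- `stab M i` normalises the `SL₂(F)` on `fac M i`. -/
theorem Nm_stab (hSP : S ≤ P) (M : NatV F S P V k) (i : Fin k) : ∀ t ∈ stab M i, (pre M i).Nm t := by
  intro t ht h A hA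
  obtain ⟨g, hg, hgA⟩ := exists_lift M i A
  -- `g` and `h` act in the same way
  have hgi : (pre M i).Ind g A := by
    intro x
    refine ext_fac M (grp_conj_fac hg ((pre M i).e_mem x)) ((pre M i).e_mem _) ?_
    rw [hgA _ ((pre M i).e_mem x).1, pre_e, pre_e]
  have htg : t * g * t⁻¹ ∈ grp M {i} := (mem_normalizer_iff.1 (stab_normalizes_grp M hSP i ht) g).1 hg
  obtain ⟨B, hB⟩ := grp_act htg
  refine ⟨B, fun x => ?_⟩
  have htn := stab_normalizes M i ht
  -- `t⁻¹ v t ∈ fac M i`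
  obtain ⟨y, hy⟩ := ((pre M i).mem_iff _).1 ((mem_normalizer_iff.1 (inv_mem htn) _).1 ((pre M i).e_mem x))
  rw [inv_inv] at hy
  have e1 : t * h * t⁻¹ * (pre M i).e x * (t * h * t⁻¹)⁻¹ = t * g * t⁻¹ * (pre M i).e x * (t * g * t⁻¹)⁻¹ := by
    calc t * h * t⁻¹ * (pre M i).e x * (t * h * t⁻¹)⁻¹ = t * (h * (t⁻¹ * (pre M i).e x * t) * h⁻¹) * t⁻¹ := by
          group
      _ = t * (g * (t⁻¹ * (pre M i).e x * t) * g⁻¹) * t⁻¹ := by rw [← hy, hA, hgi]
      _ = t * g * t⁻¹ * (pre M i).e x * (t * g * t⁻¹)⁻¹ := by group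
  rw [e1]
  refine ext_fac M (grp_conj_fac htg ((pre M i).e_mem x)) ((pre M i).e_mem _) ?_
  rw [hB _ ((pre M i).e_mem x).1, pre_e, pre_e]

theorem stab_le_nmG (hSP : S ≤ P) (M : NatV F S P V k) (i : Fin k) : stab M i ≤ nmG (pre M i) := fun t ht =>
  ⟨stab_normalizes M i ht, Nm_stab hSP M i t ht, Nm_stab hSP M i _ (inv_mem ht)⟩

variable [Finite G]

theorem grp_le_nmG (M : NatV F S P V k) (i : Fin k) : grp M {i} ≤ nmG (pre M i) := by
  intro g hg
  obtain ⟨B, hB⟩ := grp_act hg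
  refine ind_mem_nmG (A := B) fun x => ?_
  refine ext_fac M (grp_conj_fac hg ((pre M i).e_mem x)) ((pre M i).e_mem _) ?_
  rw [hB _ ((pre M i).e_mem x).1, pre_e, pre_e]

theorem cent_le_nmG (M : NatV F S P V k) (i : Fin k) : centralizer (fac M i : Set G) ≤ nmG (pre M i) :=
  (toRMod (pre M i)).cent

theorem other_le_nmG (M : NatV F S P V k) {I : Set (Fin k)} {i : Fin k} (hi : i ∉ I) : grp M I ≤ nmG (pre M i) :=
  (grp_le_centralizer M (J := {i}) (by simpa using hi)).trans (cent_le_nmG M i)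

end pre

end Cfsg.Agent.Omega.IId.NV

end

section


/-!
# Mixed pairs over a 2-group `T`, `q = 2`: an element `z ≠ 1` of `C(X₁) ∩ C(X₂) ∩ C_G(W₁ W₂)` with
`r ∈ Z(O₂(C_G(z)))` is impossible (helper994 #17943 (2), after `MixOne.TwoQ.inf_D` of helper176)
-/

set_option autoImplicit false
set_option linter.unusedSectionVars false

namespace Cfsg.Agent.Omega.IId.M4

open Subgroup Cfsg.Agent.Lib.SL2Mat Cfsg.Agent.Omega.BTwo Cfsg.Agent.Omega.Mix Cfsg.Agent.Omega.MixOne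
open Cfsg.Agent.Omega.NatPair (ap ap_mul ap_one exists_ap)

variable {G : Type*} [Group G]

theorem mul_cmt {a b g : G} (h1 : g * a = a * g) (h2 : g * b = b * g) : g * (a * b) = a * b * g := by
  rw [← mul_assoc, h1, mul_assoc, h2, mul_assoc]

theorem inv_cmt {a g : G} (h : a * g = g * a) : a⁻¹ * g = g * a⁻¹ := by
  rw [inv_mul_eq_iff_eq_mul, ← mul_assoc, h, mul_inv_cancel_right]

/-- `⟨r^L⟩` -/
def ur (L : Subgroup G) (r : G) : Subgroup G := closure {g | ∃ l ∈ L, g = l * r * l⁻¹}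

theorem mem_ur {L : Subgroup G} {r l : G} (hl : l ∈ L) : l * r * l⁻¹ ∈ ur L r := subset_closure ⟨l, hl, rfl⟩

theorem r_mem_ur (L : Subgroup G) (r : G) : r ∈ ur L r := by
  have := mem_ur (r := r) (one_mem L)
  rwa [one_mul, inv_one, mul_one] at this

theorem ur_conj {L : Subgroup G} {r g : G} (hg : g ∈ L) : ∀ u ∈ ur L r, g * u * g⁻¹ ∈ ur L r := by
  intro u hu
  have h1 : ur L r ≤ (ur L r).comap (MulAut.conj g).toMonoidHom := by
    rw [ur, closure_le]
    rintro _ ⟨l, hl, rfl⟩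
    have h2 : g * (l * r * l⁻¹) * g⁻¹ = (g * l) * r * (g * l)⁻¹ := by group
    change g * (l * r * l⁻¹) * g⁻¹ ∈ ur L r
    rw [h2]
    exact mem_ur (mul_mem hg hl)
  exact h1 hu

/-- `⟨r^L⟩ ≤ Z(O₂(L))` if `r ∈ Z(O₂(L))` -/
theorem ur_center [Finite G] {L : Subgroup G} {r : G} (hr1 : r ∈ O2 L ∧ ∀ q ∈ O2 L, r * q = q * r) :
    ∀ u ∈ ur L r, u ∈ O2 L ∧ ∀ q ∈ O2 L, u * q = q * u := by
  let Zc : Subgroup G :=
    { carrier := {u | u ∈ O2 L ∧ ∀ q ∈ O2 L, u * q = q * u}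
      one_mem' := ⟨one_mem _, fun q _ => by rw [one_mul, mul_one]⟩
      mul_mem' := by
        rintro a b ⟨a1, a2⟩ ⟨b1, b2⟩
        exact ⟨mul_mem a1 b1, fun q hq => (mul_cmt (a2 q hq).symm (b2 q hq).symm).symm⟩
      inv_mem' := by
        rintro a ⟨a1, a2⟩
        exact ⟨inv_mem a1, fun q hq => inv_cmt (a2 q hq)⟩ }
  have h2 : ur L r ≤ Zc := by
    rw [ur, closure_le]
    rintro _ ⟨l, hl, rfl⟩
    have hlN := le_normalizer_O2 L hl
    refine ⟨conj_mem_of_normalizer hlN hr1.1, fun q hq => ?_⟩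
    have h3 := hr1.2 _ (conj_inv_mem_of_normalizer hlN hq)
    calc l * r * l⁻¹ * q = l * (r * (l⁻¹ * q * l)) * l⁻¹ := by group
      _ = l * (l⁻¹ * q * l * r) * l⁻¹ := by rw [h3]
      _ = q * (l * r * l⁻¹) := by group
  exact fun u hu => h2 hu

namespace TwoT

variable {ι κ : Type*} {V₁ V₂ : Subgroup G} {R₁ B₁ C₁ : ι → Subgroup G} {R₂ B₂ C₂ : κ → Subgroup G} {i : ι} {j : κ}
  {T : Subgroup G} [Finite G] (t : TwoT V₁ V₂ R₁ B₁ C₁ R₂ B₂ C₂ i j T)
include t

/-- `Y = R D₁` at all points -/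
theorem hRD : ∀ k, ∀ y ∈ YY (B₁ k) (C₁ k), ∃ ρ ∈ R₁ k, ∃ d ∈ ⨅ m, YY (B₁ m) (C₁ m), y = ρ * d := by
  intro k y hy
  obtain ⟨m, -, -, x, hx, e⟩ := t.s₁.trans_B i k
  have hy' : x⁻¹ * y * x ∈ YY (B₁ i) (C₁ i) := by
    rw [← t.s₁.cY e] at hy
    exact mem_cj.1 hy
  obtain ⟨ρ, hρ, d, hd, h⟩ := t.exists_RD hy'
  refine ⟨x * ρ * x⁻¹, by rw [← e]; exact conj_mem_cj hρ, x * d * x⁻¹,
    conj_mem_of_normalizer (t.s₁.nD (t.s₁.B_le_ST m hx)) hd, ?_⟩
  calc y = x * (x⁻¹ * y * x) * x⁻¹ := by group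
    _ = x * (ρ * d) * x⁻¹ := by rw [h]
    _ = x * ρ * x⁻¹ * (x * d * x⁻¹) := by group

/-- **`q = 2`**: no `z ∈ D₁ ∩ D₂` with `r ∈ Z(O₂(C_G(z)))`. -/
theorem false_of_z {r : G} (r1 : r ≠ 1) (mem_R : ∀ g, g ∈ R₁ i ↔ g = 1 ∨ g = r) (c₁ : Nat.card V₁ = 4)
    (c₂ : Nat.card V₂ = 4) {z : G} (hzD : z ∈ ⨅ m, YY (B₁ m) (C₁ m)) (hzD' : z ∈ ⨅ m, YY (B₂ m) (C₂ m))
    (hr : r ∈ O2 (centralizer ({z} : Set G)) ∧ ∀ q ∈ O2 (centralizer ({z} : Set G)), r * q = q * r) : False := by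
  have mem_R' : ∀ g, g ∈ R₂ j ↔ g = 1 ∨ g = r := by rw [← t.hR]; exact mem_R
  have hle : (⨅ m, YY (B₁ m) (C₁ m)) ≤ YY (B₁ i) (C₁ i) := iInf_le _ i
  have hzY := hle hzD
  set L := centralizer ({z} : Set G) with hL
  have hmem : ∀ {g : G}, g ∈ L ↔ g * z = z * g := mem_centralizer_singleton_iff
  have hU := ur_center hr
  have hC : ∀ y ∈ YY (B₁ i) (C₁ i), (∀ c ∈ C₁ i, y * c = c * y) ∧ ∀ b ∈ B₁ i, y * b = b * y := fun y hy =>
    ⟨(mem_YY.1 hy).2, (mem_YY.1 hy).1⟩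
  have h1 : C₁ i ≤ ur L r ⊔ YY (B₁ i) (C₁ i) := by
    refine t.s₁.C_le t.hRD c₁ r1 mem_R (fun g hg => ur_conj hg) (fun k b hb => ?_) (fun g hg => ?_)
      (r_mem_ur L r) t.gen₁
    · exact hmem.2 (SideW.D_comm hzD k b hb).symm
    · exact hmem.2 (mem_centralizer_iff.1 hg z hzY).symm
  have h2 : C₂ j ≤ ur L r ⊔ YY (B₁ i) (C₁ i) := by
    rw [t.YY_eq_YY]
    refine t.symm.s₁.C_le t.symm.hRD c₂ r1 mem_R' (fun g hg => ur_conj hg) (fun k b hb => ?_)
      (fun g hg => ?_) (r_mem_ur L r) t.symm.gen₁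
    · exact hmem.2 (SideW.D_comm hzD' k b hb).symm
    · refine hmem.2 (mem_centralizer_iff.1 hg z ?_).symm
      have h3 := hzY
      rw [t.YY_eq_YY] at h3
      exact h3
  have rR : r ∈ R₁ i := (mem_R r).2 (Or.inr rfl)
  -- `W₁` and `W₂` commute
  have hYn : ur L r ≤ normalizer (YY (B₁ i) (C₁ i) : Set G) := by
    intro u hu
    apply t.s₁.nY i
    refine mem_normalizer_of_conj fun x hx => ?_
    rcases (mem_R x).1 hx with rfl | rfl
    · have e : u * 1 * u⁻¹ = 1 := by group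
      rw [e]; exact one_mem _
    · have h3 := (hU _ (r_mem_ur L x)).2 u (hU u hu).1
      rw [← h3, mul_inv_cancel_right]
      exact rR
  have dec : ∀ x ∈ ur L r ⊔ YY (B₁ i) (C₁ i), ∃ u ∈ ur L r, ∃ y ∈ YY (B₁ i) (C₁ i), x = u * y := by
    intro x hx
    have h3 : x ∈ ((ur L r ⊔ YY (B₁ i) (C₁ i) : Subgroup G) : Set G) := hx
    rw [coe_mul_of_left_le_normalizer_right _ _ hYn] at h3
    obtain ⟨u, hu, y, hy, rfl⟩ := h3
    exact ⟨u, hu, y, hy, rfl⟩
  obtain ⟨k, hk, -⟩ := t.s₁.third i i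
  obtain ⟨b, hb, hbV⟩ := t.s₁.exists_move (Ne.symm hk)
  apply hbV
  intro v hv
  obtain ⟨u, hu, y, hy, e1⟩ := dec v (h1 (t.s₁.V_C i hv))
  have hb' : b ∈ C₂ j := by rw [← t.hB]; exact hb
  obtain ⟨u', hu', y', hy', e2⟩ := dec b (h2 hb')
  have a1 : y * b = b * y := (hC y hy).2 b hb
  have a2 : y' * v = v * y' := (hC y' hy').1 v (t.s₁.V_C i hv)
  have a3 : y * y' = y' * y := t.Y_comm hy hy'
  have a4 : u * u' = u' * u := (hU u hu).2 u' (hU u' hu').1
  -- `u = v y⁻¹` commutes with `y'`, `u' = b y'⁻¹`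
  have a5 : y' * u = u * y' := by
    have e : u = v * y⁻¹ := by rw [e1]; group
    rw [e]
    exact mul_cmt a2 (inv_cmt a3).symm
  have a6 : u * b = b * u := by
    rw [e2]
    exact mul_cmt a4 a5.symm
  rw [e1]
  exact mul_cmt a6.symm a1.symm

end TwoT

namespace MixedT

variable [Finite G] {F₁ F₂ : Type*} [Field F₁] [Field F₂] [Finite F₁] [Finite F₂] [CharP F₁ 2] [CharP F₂ 2]
  {V₁ V₂ N₁ N₂ : Subgroup G} {M₁ : RMod F₁ V₁ N₁} {M₂ : RMod F₂ V₂ N₂} {R T : Subgroup G} (m : MixedT M₁ M₂ R T)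
include m

/-- an element centralised by `T` and by a group which induces `SL₂` on `V₁` lies in `D₁` -/
theorem mem_iInf {L : Subgroup G} (hL : ∀ A, ∃ g ∈ L, M₁.Ind g A) {z : G} (hzT : ∀ t ∈ T, t * z = z * t)
    (hzL : ∀ g ∈ L, g * z = z * g) : z ∈ ⨅ p, YY (LL V₂ R (pt M₁ p)) (LL V₁ R (pt M₁ p)) := by
  obtain ⟨w, hw, hR⟩ := m.line₁
  have h0 : z ∈ YY (LL V₂ R R) (LL V₁ R R) := by
    rw [mem_YY]
    exact ⟨fun b hb => (hzT b (m.QQ_le_T (m.symm.C_le_QQ hb))).symm,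
      fun c hc => (hzT c (m.QQ_le_T (m.C_le_QQ hc))).symm⟩
  rw [Subgroup.mem_iInf]
  rintro ⟨R', u, hu, rfl⟩
  obtain ⟨A, hA⟩ := exists_ap hw hu
  obtain ⟨g, hgL, hg⟩ := hL A
  have h1 : cj g R = M₁.line u := by
    rw [hR, ← hA]
    exact RMod.cj_line_of_ind M₁ hg w
  have h2 : cj g (LL V₂ R R) = LL V₂ R (M₁.line u) := cj_LL h1
  have h3 : cj g (LL V₁ R R) = LL V₁ R (M₁.line u) := cj_LL h1
  change z ∈ YY (LL V₂ R (M₁.line u)) (LL V₁ R (M₁.line u))
  rw [← h2, ← h3, mem_YY]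
  have key : ∀ {K : Subgroup G}, (∀ b ∈ K, z * b = b * z) → ∀ b ∈ cj g K, z * b = b * z := by
    intro K hK b hb
    rw [mem_cj] at hb
    have h4 := hK _ hb
    have h5 := hzL g hgL
    have e : g⁻¹ * z = z * g⁻¹ := by
      calc g⁻¹ * z = g⁻¹ * (z * g) * g⁻¹ := by group
        _ = g⁻¹ * (g * z) * g⁻¹ := by rw [h5]
        _ = z * g⁻¹ := by group
    calc z * b = (z * g) * (g⁻¹ * b * g) * g⁻¹ := by group
      _ = (g * z) * (g⁻¹ * b * g) * g⁻¹ := by rw [h5]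
      _ = g * (z * (g⁻¹ * b * g)) * g⁻¹ := by group
      _ = g * (g⁻¹ * b * g * z) * g⁻¹ := by rw [h4]
      _ = b * g * (z * g⁻¹) := by group
      _ = b * g * (g⁻¹ * z) := by rw [e]
      _ = b * z := by group
  rw [mem_YY] at h0
  exact ⟨key h0.1, key h0.2⟩

end MixedT

end Cfsg.Agent.Omega.IId.M4

end

section


/-!
# II.d, `V_P = V × D`, `k = 2`: `BTS (fac M i)` for an unmixed factor

`UnMx M i` : `fac M i` does not commute with all its conjugates under `N_G(line M i)` (= `Cv.UnM`).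

* `nm_two` : `q = 2`: `N_G(V₁)` normalises `SL₂(F)`;
* `nm_four` : `q ≥ 4`, `stab M i` a Sylow 2-subgroup of `N_G(fac M i)`: the same;
* `BtsD M i j N` : `N : NatMod F (fac M i)` has the coordinates of `M`, `BTS (fac M i) (pt N)`, and `fac M j`, `D`, `DT M`
  centralise `X`;
* `bts_of`, `bts_two`, `bts_four`.
-/

set_option autoImplicit false
set_option linter.unusedSectionVars false

namespace Cfsg.Agent.Omega.IId.NV

open Subgroup Pointwise Cfsg Cfsg.Agent.ZN Cfsg.Agent.ZN.ChoiceBase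
open Cfsg.Agent.Omega.MinPar Cfsg.Agent.Omega.FFThm
open Cfsg.Agent.Lib.SL2Mat
open Cfsg.Agent.MinSimple
open Cfsg.Agent.Omega.NatPair (ap ap_mul ap_one ap_inv_ap ap_ap_inv exists_ap ap_add NatMod PreMod)
open Cfsg.Agent.MinSimple.VModule (zc_le zc_comm zc_sq zc_le_zl le_normalizer_o2 o2_isPGroup o2_le
  normalizer_le_normalizer_zc le_normalizer_zl)
open scoped commutatorElement

universe u

/-! ### `N_G(V₁)` normalises `SL₂(F)` -/

theorem nm_two {G : Type*} [Group G] {F : Type*} [Field F] [Finite F] [CharP F 2] {V : Subgroup G}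
    (N : PreMod F V) (h2 : Nat.card F = 2) : ∀ g ∈ normalizer (V : Set G), N.Nm g := by
  intro g hg
  obtain ⟨A, hA⟩ := (N.mem_E_iff ⟨g, hg⟩).1 (N.toCo.mem_E_of_two h2 _)
  exact PreMod.Nm.of_ind N hA

section up

variable {G : Type u} [Group G] {F : Type} [Field F] {S P V : Subgroup G} {k : ℕ} {M : NatV F S P V k}

/-- An element which centralises `line M i` and `fac M i / line M i` acts as `up b` on `fac M i`. -/
theorem exists_up {i : Fin k} {w : G} (hw : w ∈ P) (h1 : ∀ r ∈ line M i, w * r * w⁻¹ = r)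
    (h2 : ∀ v ∈ fac M i, w * v * w⁻¹ * v⁻¹ ∈ line M i) :
    ∃ b : F, ∀ v ∈ fac M i, M.e (w * v * w⁻¹) i = ap (up b) (M.e v i) := by
  have hwf : ∀ v ∈ fac M i, w * v * w⁻¹ ∈ fac M i := fun v hv => by
    have := mul_mem (line_le M i (h2 v hv)) hv
    rwa [inv_mul_cancel_right] at this
  obtain ⟨g, hg, hgA⟩ := exists_lift M i (wm 1 one_ne_zero)
  have hg0 := hg
  obtain ⟨hgP, A, hA, -⟩ := hg
  obtain ⟨B, hB⟩ := M.norm w hw g hgP A hA.1
  refine ⟨- ent (B i) 0 0, fun v hv => ?_⟩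
  obtain ⟨r, hr, her⟩ := exists_fac M i ![- M.e v i 1, 0]
  have hrl : r ∈ line M i := (mem_line M).2 ⟨hr, by rw [her]; rfl⟩
  have hu : g * r * g⁻¹ ∈ fac M i := grp_conj_fac hg0 hr
  have heu : M.e (g * r * g⁻¹) i = ![0, M.e v i 1] := by
    rw [hgA r hr.1, her]
    apply NatPair.ext2
    · rw [NatPair.ap_zero', wm_00, wm_01]; simp
    · rw [NatPair.ap_one', wm_10, wm_11]; simp
  -- `w (g r g⁻¹) w⁻¹`
  have hwu : M.e (w * (g * r * g⁻¹) * w⁻¹) i 0 = ent (B i) 0 0 * (- M.e v i 1) := by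
    have h3 := hB r hr.1 i
    have h4 : w⁻¹ * r * w = r := by
      calc w⁻¹ * r * w = w⁻¹ * (w * r * w⁻¹) * w := by rw [h1 r hrl]
        _ = r := by group
    have e : w * g * w⁻¹ * r * (w * g * w⁻¹)⁻¹ = w * (g * (w⁻¹ * r * w) * g⁻¹) * w⁻¹ := by group
    rw [e, h4, her] at h3
    rw [h3, NatPair.ap_zero']
    simp
  -- `v` and `g r g⁻¹` agree modulo `line M i`
  have h5 : v * (g * r * g⁻¹)⁻¹ ∈ line M i := by
    rw [mem_line]
    refine ⟨mul_mem hv (inv_mem hu), ?_⟩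
    rw [M.mul _ hv.1 _ (inv_mem hu.1), e_inv M hu.1, Pi.add_apply, Pi.add_apply, Pi.neg_apply,
      Pi.neg_apply, heu]
    simp
  have e6 : w * v * w⁻¹ = v * (g * r * g⁻¹)⁻¹ * (w * (g * r * g⁻¹) * w⁻¹) := by
    have h7 := h1 _ h5
    calc w * v * w⁻¹ = w * (v * (g * r * g⁻¹)⁻¹) * w⁻¹ * (w * (g * r * g⁻¹) * w⁻¹) := by group
      _ = _ := by rw [h7]
  apply NatPair.ext2
  · rw [e6, M.mul _ (mul_mem hv.1 (inv_mem hu.1)) _ (hwf _ hu).1, M.mul _ hv.1 _ (inv_mem hu.1),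
      e_inv M hu.1, Pi.add_apply, Pi.add_apply, Pi.add_apply, Pi.add_apply, Pi.neg_apply, Pi.neg_apply,
      heu, hwu, NatPair.ap_zero', up_00, up_01]
    simp
  · have h8 := ((mem_line M).1 (h2 v hv)).2
    rw [M.mul _ (hwf v hv).1 _ (inv_mem hv.1), e_inv M hv.1, Pi.add_apply, Pi.add_apply, Pi.neg_apply,
      Pi.neg_apply] at h8
    rw [NatPair.ap_one', up_10, up_11]
    linear_combination h8

/-- `[V₁, w] = R` for an element `w` acting as `up b`, `b ≠ 0`. -/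
theorem line_le_comm {i : Fin k} {w : G}
    (hw : ∃ b : F, ∀ v ∈ fac M i, M.e (w * v * w⁻¹) i = ap (up b) (M.e v i))
    (hwn : w ∈ normalizer (fac M i : Set G)) (hne : ∃ v ∈ fac M i, v * w ≠ w * v) {r : G} (hr : r ∈ line M i) :
    ∃ v ∈ fac M i, ⁅v, w⁆ = r := by
  obtain ⟨b, hb⟩ := hw
  have hb0 : b ≠ 0 := by
    rintro rfl
    obtain ⟨v, hv, hvw⟩ := hne
    apply hvw
    have h1 : w * v * w⁻¹ = v := by
      refine ext_fac M ((mem_normalizer_iff.1 hwn v).1 hv) hv ?_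
      rw [hb v hv, up_zero, NatPair.ap_one]
    calc v * w = w * v * w⁻¹ * w := by rw [h1]
      _ = w * v := by group
  obtain ⟨v, hv, hev⟩ := exists_fac M i ![0, - M.e r i 0 / b]
  have hwv := (mem_normalizer_iff.1 hwn _).1 (inv_mem hv)
  refine ⟨v, hv, ?_⟩
  have e : ⁅v, w⁆ = v * (w * v⁻¹ * w⁻¹) := by rw [commutatorElement_def]; group
  rw [e]
  refine ext_fac M (mul_mem hv hwv) (line_le M i hr) ?_
  rw [M.mul _ hv.1 _ hwv.1, Pi.add_apply, hb _ (inv_mem hv), e_inv M hv.1, Pi.neg_apply, hev]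
  apply NatPair.ext2
  · rw [Pi.add_apply, NatPair.ap_zero', up_00, up_01]
    simp only [Matrix.cons_val_zero, Matrix.cons_val_one, Pi.neg_apply]
    field_simp
    ring
  · rw [Pi.add_apply, NatPair.ap_one', up_10, up_11, ((mem_line M).1 hr).2]
    simp only [Matrix.cons_val_zero, Matrix.cons_val_one, Pi.neg_apply]
    ring

end up

section upD

variable {G : Type u} [Group G] [Finite G] {F : Type} [Field F] [CharP F 2] {S : Sylow 2 G} {P V D : Subgroup G}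
  {k : ℕ}

/-- **The elements of `O₂(N_G(R))` act on `V₁` as `up b`.** -/
theorem o2_up (M : NatD F S P V D k) (hk : k = 1 ∨ k = 2) {i : Fin k} {w : G}
    (hw : w ∈ o2 (normalizer (line M.toNatV i : Set G))) :
    ∃ b : F, ∀ v ∈ fac M.toNatV i, M.e (w * v * w⁻¹) i = ap (up b) (M.e v i) := by
  have hws := o2_line_le' M hk i hw
  have hwc : ∀ r ∈ line M.toNatV i, w * r = r * w := fun r hr =>
    (mem_centralizer_iff.1 (o2_cent_line' M i hw) r hr).symm
  refine exists_up (SP M (stab_le _ _ hws)) (fun r hr => ?_) fun v hv => ?_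
  · rw [hwc r hr, mul_inv_cancel_right]
  · obtain ⟨n, hn⟩ := o2_isPGroup (normalizer (line M.toNatV i : Set G)) ⟨w, hw⟩
    exact comm_line M.toNatV (SP M) hws ⟨n, congrArg Subtype.val hn⟩ hwc hv

end upD

section unm

variable {G : Type u} [Group G] [Finite G] {F : Type} [Field F] {S : Sylow 2 G} {P V D : Subgroup G} {k : ℕ}

/-- `V_i` does not commute with all its conjugates under `N_G(R)`, `R` the line of `V_i`. -/
def UnMx (M : NatD F S P V D k) (i : Fin k) : Prop :=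
  ∃ g ∈ normalizer (line M.toNatV i : Set G), ∃ v ∈ fac M.toNatV i, ∃ w ∈ fac M.toNatV i,
    v * (g * w * g⁻¹) ≠ g * w * g⁻¹ * v

end unm

section main

variable {G : Type u} [Group G] [Finite G] {F : Type} [Field F] [Finite F] [CharP F 2] {S : Sylow 2 G}
  {P V D : Subgroup G} (M : NatD F S P V D 2) {i j : Fin 2} (hij : i ≠ j)

/-- The data of an unmixed factor. -/
structure BtsD (M : NatD F S P V D 2) (i j : Fin 2) (N : NatMod F (fac M.toNatV i)) : Prop where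
  ne : i ≠ j
  /-- the coordinates -/
  e : ∀ x, M.e (N.e x) i = x
  line : N.line ![1, 0] = NV.line M.toNatV i
  bts : BTwo.BTS (fac M.toNatV i) (BTwo.pt N)
  cen : fac M.toNatV j ≤ BTwo.CenX (fac M.toNatV i) (BTwo.pt N)
  cenDT : DT M ≤ BTwo.CenX (fac M.toNatV i) (BTwo.pt N)
  cenD : D ≤ BTwo.CenX (fac M.toNatV i) (BTwo.pt N)

include hij

/-- `[V₁, V₁^c] = R` -/
theorem line_le_commutator {c : G} (hc : c ∈ normalizer (line M.toNatV i : Set G))
    (hne : ∃ v ∈ fac M.toNatV i, ∃ w ∈ fac M.toNatV i, v * (c * w * c⁻¹) ≠ c * w * c⁻¹ * v) :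
    line M.toNatV i ≤ ⁅fac M.toNatV i, NatPair.cj c (fac M.toNatV i)⁆ := by
  have hVQ := fac_le_o2 M (Or.inr rfl) i
  intro r hr
  obtain ⟨v, hv, w, hw, hvw⟩ := hne
  have hw' : c * w * c⁻¹ ∈ NatPair.cj c (fac M.toNatV i) := by
    rw [NatPair.mem_cj]
    have e : c⁻¹ * (c * w * c⁻¹) * c = w := by group
    rwa [e]
  have hwQ : c * w * c⁻¹ ∈ ZN.o2 (normalizer (line M.toNatV i : Set G)) :=
    (mem_normalizer_iff.1 (ZN.le_normalizer_o2 _ hc) _).1 (hVQ hw)
  obtain ⟨v', hv', e⟩ := line_le_comm (M := M.toNatV) (i := i) (o2_up M (Or.inr rfl) hwQ)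
    (stab_normalizes _ i (o2_line_le M hij hwQ)) ⟨v, hv, hvw⟩ hr
  rw [← e]
  exact commutator_mem_commutator hv' hw'

/-- **`N_G(V₁)` normalises `SL₂(F)`**, `q ≥ 4`, `stab M i` a Sylow 2-subgroup of `N_G(V₁)` -/
theorem nm_four (hS1 : ¬ 2 ∣ (stab M.toNatV i).relIndex (normalizer (fac M.toNatV i : Set G))) (hu : UnMx M i) :
    ∀ g ∈ normalizer (fac M.toNatV i : Set G), (pre M.toNatV i).Nm g := by
  have hT2 : IsPGroup 2 (stab M.toNatV i) := S.isPGroup'.to_le (stab_le _ _)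
  rcases (pre M.toNatV i).dich_sub hT2 (stab_normalizes _ i) hS1 (Nm_stab (SP M) M.toNatV i) with hall | hE
  · exact hall
  exfalso
  obtain ⟨c, hc, hne⟩ := hu
  have hline := pre_line M.toNatV i
  refine ExcKill.exc_false (pre M.toNatV i) M.hG hT2 hE FourSide.vec_ne (c := c) ?_ ?_ ?_ ?_
  · rw [hline]
    exact stab_normalizes_line M.toNatV (SP M) i
  · intro r hr hr1 hrS
    have hr2 : r ^ 2 = 1 := by
      rw [pow_two]
      exact NV.sq M.toNatV hr.1
    have hn : centralizer ({r} : Set G) ≤ normalizer (zpowers r : Set G) := by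
      rw [← Subgroup.centralizer_closure, ← zpowers_eq_closure]
      exact centralizer_le_normalizer _
    refine o2_le_stab M hij (R := zpowers r) (zpowers_le.2 hr) (by rwa [Ne, zpowers_eq_bot]) hn
      (MinSimple.Basic.char2_centralizer M.hG hr2 hr1) ?_ ?_
    · exact fun t ht => mem_centralizer_singleton_iff.2 (hrS t ht)
    · intro g hg
      exact mem_centralizer_singleton_iff.2 (grp_comm M.toNatV (by simpa using hij.symm) hg hr)
  · rw [hline]
    exact hc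
  · rw [hline]
    exact line_le_commutator M hij hc hne

/-- **`BTS (fac M i)`** for an unmixed factor such that `N_G(V₁)` normalises `SL₂(F)` -/
theorem bts_of (hall : ∀ g ∈ normalizer (fac M.toNatV i : Set G), (pre M.toNatV i).Nm g) (hu : UnMx M i) :
    ∃ N : NatMod F (fac M.toNatV i), BtsD M i j N := by
  obtain ⟨c, hc, hne⟩ := hu
  have hQT := o2_line_le M hij
  have hVQ := fac_le_o2 M (Or.inr rfl) i
  -- `V₁ ^ c ≤ Q`
  have hcQ : NatPair.cj c (fac M.toNatV i) ≤ ZN.o2 (normalizer (line M.toNatV i : Set G)) := by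
    intro x hx
    rw [NatPair.mem_cj] at hx
    have h1 := (mem_normalizer_iff.1 (ZN.le_normalizer_o2 _ hc) _).1 (hVQ hx)
    have e : c * (c⁻¹ * x * c) * c⁻¹ = x := by group
    rwa [e] at h1
  set N : NatMod F (fac M.toNatV i) := (pre M.toNatV i).toNatMod hall with hN
  have hNe : ∀ x, M.e (N.e x) i = x := fun x => pre_e M.toNatV i x
  have hline : N.line ![1, 0] = line M.toNatV i := by
    rw [← pre_line M.toNatV i]
    rfl
  have hmut : NatPair.Mutual (fac M.toNatV i) (NatPair.cj c (fac M.toNatV i)) := by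
    refine ⟨hcQ.trans (hQT.trans (stab_normalizes _ i)), ?_, ?_⟩
    · intro x hx
      rw [NatPair.mem_normalizer_cj]
      apply stab_normalizes _ i
      apply hQT
      have := (mem_normalizer_iff.1 (inv_mem (ZN.le_normalizer_o2 _ hc)) x).1 (hVQ hx)
      rwa [inv_inv] at this
    · obtain ⟨v, hv, w, hw, hvw⟩ := hne
      refine ⟨v, hv, _, ?_, hvw⟩
      rw [NatPair.mem_cj]
      have e : c⁻¹ * (c * w * c⁻¹) * c = w := by group
      rwa [e]
  have hinf : fac M.toNatV i ⊓ NatPair.cj c (fac M.toNatV i) = line M.toNatV i := by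
    obtain ⟨-, w, w', hw, -, hl, -⟩ := NatPair.pair N (N.conj c) hmut
    have h1 : line M.toNatV i ≤ fac M.toNatV i ⊓ NatPair.cj c (fac M.toNatV i) := by
      refine le_inf (line_le _ i) fun x hx => ?_
      rw [NatPair.mem_cj]
      apply line_le _ i
      have := (mem_normalizer_iff.1 (inv_mem hc) x).1 hx
      rwa [inv_inv] at this
    refine (Subgroup.eq_of_le_of_card_ge h1 ?_).symm
    rw [hl, N.card_line hw.ne, card_line]
  have a : BTwo.At (fac M.toNatV i) (N.line ![1, 0]) c := by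
    rw [hline]
    exact ⟨hc, hmut, hinf, hVQ⟩
  have hQ₀ : BTwo.QQ (N.line ![1, 0]) ≤ normalizer (fac M.toNatV i : Set G) := by
    rw [hline]
    exact hQT.trans (stab_normalizes _ i)
  have hnl : NonLoc (normalizer (fac M.toNatV i : Set G)) (normalizer (N.line ![1, 0] : Set G)) := by
    rw [hline]
    obtain ⟨v, hv, w, hw, hvw⟩ := hne
    exact nonLoc_two M hij hc hv.1 hw.1 hvw
  have b := BtsOf.bts_of_at N M.hG FourSide.vec_ne a hQ₀ hnl
  have hind : ∀ B, ∃ l ∈ grp M.toNatV {i}, N.Ind l B := by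
    intro B
    obtain ⟨l, hl, hlB⟩ := exists_lift M.toNatV i B
    refine ⟨l, hl, fun x => ?_⟩
    refine ext_fac M.toNatV (grp_conj_fac hl (N.e_mem x)) (N.e_mem _) ?_
    rw [hlB _ (N.e_mem x).1, hNe, hNe]
  have hcen : ∀ A : Subgroup G, (∀ y ∈ o2 (normalizer (line M.toNatV i : Set G)), ∀ a ∈ A, y * a = a * y) →
      (∀ l ∈ grp M.toNatV {i}, ∀ a ∈ A, l * a = a * l) → A ≤ BTwo.CenX (fac M.toNatV i) (BTwo.pt N) := by
    intro A h1 h2
    refine BtsOf.le_CenX N FourSide.vec_ne b.toBT ?_ ?_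
    · rw [hline]
      intro a ha
      exact mem_centralizer_iff.2 fun y hy => h1 y hy a ha
    · intro B
      obtain ⟨l, hl, hlB⟩ := hind B
      exact ⟨l, hlB, fun a ha => h2 l hl a ha⟩
  have hDT : DT M ≤ BTwo.CenX (fac M.toNatV i) (BTwo.pt N) := by
    refine hcen _ (fun y hy a ha => ?_) fun l hl a ha => DT_comm_grp M hij ha hl
    exact (zc_stab_le_o2_line M hij ((mem_DT M (i := i)).1 ha).1).2 y hy
  refine ⟨N, hij, hNe, hline, b, ?_, hDT, (D_le_DT M).trans hDT⟩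
  refine hcen _ (fun y hy a ha => ?_) fun l hl a ha => ?_
  · exact (mem_centralizer_iff.1 ((fac_le_o2_line M hij).2 hy) a ha).symm
  · exact grp_comm M.toNatV (by simpa using hij) hl ha

/-- `q = 2` -/
theorem bts_two (h2 : Nat.card F = 2) (hu : UnMx M i) : ∃ N : NatMod F (fac M.toNatV i), BtsD M i j N :=
  bts_of M hij (nm_two _ h2) hu

/-- `stab M i` is a Sylow 2-subgroup of `N_G(V₁)` -/
theorem bts_four (hS1 : ¬ 2 ∣ (stab M.toNatV i).relIndex (normalizer (fac M.toNatV i : Set G))) (hu : UnMx M i) :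
    ∃ N : NatMod F (fac M.toNatV i), BtsD M i j N :=
  bts_of M hij (nm_four M hij hS1 hu) hu

end main

end Cfsg.Agent.Omega.IId.NV

end

section


/-!
# II.d, `V_P = V × D`, `k = 1`: `BTS (fac M i)` if `V` is unmixed

* `fac_one` : `fac M i = V`;
* `nonLoc_one` : `⟨N_G(V), N_G(R)⟩` is not in a 2-local subgroup;
* `BtsD1 M i N`, `bts_of_one` : `BTS (fac M i) (pt N)`, `D` centralises `X`;
* `bts_of_line` : the common part of `bts_of` and `bts_of_one` (`k = 1, 2`).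
-/

set_option autoImplicit false
set_option linter.unusedSectionVars false

namespace Cfsg.Agent.Omega.IId.NV

open Subgroup Pointwise Cfsg Cfsg.Agent.ZN Cfsg.Agent.ZN.ChoiceBase
open Cfsg.Agent.Omega.MinPar Cfsg.Agent.Omega.FFThm
open Cfsg.Agent.Lib.SL2Mat
open Cfsg.Agent.MinSimple
open Cfsg.Agent.Omega.NatPair (ap ap_mul ap_one ap_inv_ap ap_ap_inv exists_ap ap_add NatMod PreMod)
open Cfsg.Agent.MinSimple.VModule (zc_le zc_comm zc_sq zc_le_zl o2_isPGroup o2_le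
  normalizer_le_normalizer_zc le_normalizer_zl)
open scoped commutatorElement

universe u

section common

variable {G : Type u} [Group G] [Finite G] {F : Type} [Field F] [Finite F] [CharP F 2] {S : Sylow 2 G}
  {P V D : Subgroup G} {k : ℕ} (M : NatD F S P V D k) (hk : k = 1 ∨ k = 2) {i : Fin k}

include hk

/-- **`BTS (fac M i)`**, from nonlocality, `k = 1, 2` -/
theorem bts_of_line (hall : ∀ g ∈ normalizer (fac M.toNatV i : Set G), (pre M.toNatV i).Nm g)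
    (hnl : NonLoc (normalizer (fac M.toNatV i : Set G)) (normalizer (line M.toNatV i : Set G))) (hu : UnMx M i) :
    ∃ N : NatMod F (fac M.toNatV i), (∀ x, M.e (N.e x) i = x) ∧ N.line ![1, 0] = line M.toNatV i ∧
      BTwo.BTS (fac M.toNatV i) (BTwo.pt N) ∧
      ∀ A : Subgroup G, (∀ y ∈ o2 (normalizer (line M.toNatV i : Set G)), ∀ a ∈ A, y * a = a * y) →
        (∀ l ∈ grp M.toNatV {i}, ∀ a ∈ A, l * a = a * l) → A ≤ BTwo.CenX (fac M.toNatV i) (BTwo.pt N) := by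
  obtain ⟨c, hc, hne⟩ := hu
  have hQT := o2_line_le' M hk i
  have hVQ := fac_le_o2 M hk i
  -- `V₁ ^ c ≤ Q`
  have hcQ : NatPair.cj c (fac M.toNatV i) ≤ ZN.o2 (normalizer (line M.toNatV i : Set G)) := by
    intro x hx
    rw [NatPair.mem_cj] at hx
    have h1 := (mem_normalizer_iff.1 (ZN.le_normalizer_o2 _ hc) _).1 (hVQ hx)
    have e : c * (c⁻¹ * x * c) * c⁻¹ = x := by group
    rwa [e] at h1
  set N : NatMod F (fac M.toNatV i) := (pre M.toNatV i).toNatMod hall with hN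
  have hNe : ∀ x, M.e (N.e x) i = x := fun x => pre_e M.toNatV i x
  have hline : N.line ![1, 0] = line M.toNatV i := by
    rw [← pre_line M.toNatV i]
    rfl
  have hmut : NatPair.Mutual (fac M.toNatV i) (NatPair.cj c (fac M.toNatV i)) := by
    refine ⟨hcQ.trans (hQT.trans (stab_normalizes _ i)), ?_, ?_⟩
    · intro x hx
      rw [NatPair.mem_normalizer_cj]
      apply stab_normalizes _ i
      apply hQT
      have := (mem_normalizer_iff.1 (inv_mem (ZN.le_normalizer_o2 _ hc)) x).1 (hVQ hx)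
      rwa [inv_inv] at this
    · obtain ⟨v, hv, w, hw, hvw⟩ := hne
      refine ⟨v, hv, _, ?_, hvw⟩
      rw [NatPair.mem_cj]
      have e : c⁻¹ * (c * w * c⁻¹) * c = w := by group
      rwa [e]
  have hinf : fac M.toNatV i ⊓ NatPair.cj c (fac M.toNatV i) = line M.toNatV i := by
    obtain ⟨-, w, w', hw, -, hl, -⟩ := NatPair.pair N (N.conj c) hmut
    have h1 : line M.toNatV i ≤ fac M.toNatV i ⊓ NatPair.cj c (fac M.toNatV i) := by
      refine le_inf (line_le _ i) fun x hx => ?_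
      rw [NatPair.mem_cj]
      apply line_le _ i
      have := (mem_normalizer_iff.1 (inv_mem hc) x).1 hx
      rwa [inv_inv] at this
    refine (Subgroup.eq_of_le_of_card_ge h1 ?_).symm
    rw [hl, N.card_line hw.ne, card_line]
  have a : BTwo.At (fac M.toNatV i) (N.line ![1, 0]) c := by
    rw [hline]
    exact ⟨hc, hmut, hinf, hVQ⟩
  have hQ₀ : BTwo.QQ (N.line ![1, 0]) ≤ normalizer (fac M.toNatV i : Set G) := by
    rw [hline]
    exact hQT.trans (stab_normalizes _ i)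
  rw [← hline] at hnl
  have b := BtsOf.bts_of_at N M.hG FourSide.vec_ne a hQ₀ hnl
  refine ⟨N, hNe, hline, b, fun A h1 h2 => ?_⟩
  refine BtsOf.le_CenX N FourSide.vec_ne b.toBT ?_ ?_
  · rw [hline]
    intro a ha
    exact mem_centralizer_iff.2 fun y hy => h1 y hy a ha
  · intro B
    obtain ⟨l, hl, hlB⟩ := exists_lift M.toNatV i B
    refine ⟨l, fun x => ?_, fun a ha => h2 l hl a ha⟩
    refine ext_fac M.toNatV (grp_conj_fac hl (N.e_mem x)) (N.e_mem _) ?_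
    rw [hlB _ (N.e_mem x).1, hNe, hNe]

end common

section one

variable {G : Type u} [Group G] [Finite G] {F : Type} [Field F] [Finite F] [CharP F 2] {S : Sylow 2 G}
  {P V D : Subgroup G} (M : NatD F S P V D 1) {i : Fin 1}

theorem fac_one (i : Fin 1) : fac M.toNatV i = V := by
  have h3 : ({i} : Set (Fin 1)) = Set.univ := by
    ext x
    simp [Subsingleton.elim x i]
  rw [fac, h3, part_univ]

theorem P_le_fac (i : Fin 1) : P ≤ normalizer (fac M.toNatV i : Set G) := by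
  rw [fac_one M i]
  exact M.nV

theorem stab_one (i : Fin 1) : stab M.toNatV i = (S : Subgroup G) :=
  le_antisymm (stab_le _ _) (le_inf le_rfl ((SP M).trans (P_le_fac M i)))

/-- `S` normalises `R` -/
theorem S_le_line (i : Fin 1) : (S : Subgroup G) ≤ normalizer (line M.toNatV i : Set G) :=
  (stab_one M i).ge.trans (stab_normalizes_line M.toNatV (SP M) i)

/-- **Nonlocality, `k = 1`** -/
theorem nonLoc_one {c v w : G} (hc : c ∈ normalizer (line M.toNatV i : Set G)) (hv : v ∈ V) (hw : w ∈ V)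
    (hne : v * (c * w * c⁻¹) ≠ c * w * c⁻¹ * v) :
    NonLoc (normalizer (fac M.toNatV i : Set G)) (normalizer (line M.toNatV i : Set G)) := by
  intro T₀ hT₀ hVT hRT
  by_contra h0
  exact hne (not_local_P M hT₀ h0 ((P_le_fac M i).trans hVT) (hRT hc) (M.V_le hv) (M.V_le hw))

/-- The data of an unmixed `V`, `k = 1`. -/
structure BtsD1 (M : NatD F S P V D 1) (i : Fin 1) (N : NatMod F (fac M.toNatV i)) : Prop where
  e : ∀ x, M.e (N.e x) i = x
  line : N.line ![1, 0] = NV.line M.toNatV i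
  bts : BTwo.BTS (fac M.toNatV i) (BTwo.pt N)
  cenD : D ≤ BTwo.CenX (fac M.toNatV i) (BTwo.pt N)

theorem bts_of_one (hall : ∀ g ∈ normalizer (fac M.toNatV i : Set G), (pre M.toNatV i).Nm g) (hu : UnMx M i) :
    ∃ N : NatMod F (fac M.toNatV i), BtsD1 M i N := by
  obtain ⟨c, hc, v, hv, w, hw, hne⟩ := id hu
  obtain ⟨N, h1, h2, h3, h4⟩ := bts_of_line M (Or.inl rfl) hall (nonLoc_one M hc hv.1 hw.1 hne) hu
  have hQ := o2_line_le' M (Or.inl rfl) i
  refine ⟨N, h1, h2, h3, h4 D (fun y hy d hd => ?_) fun l hl d hd => ?_⟩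
  · exact D_comm M (SP M (stab_le _ _ (hQ hy))) hd
  · exact D_comm M (grp_le _ _ hl) hd

/-- `q = 2` -/
theorem bts_one_two (h2 : Nat.card F = 2) (hu : UnMx M i) : ∃ N : NatMod F (fac M.toNatV i), BtsD1 M i N :=
  bts_of_one M (nm_two _ h2) hu

end one

end Cfsg.Agent.Omega.IId.NV

end

section


/-!
# Mixed pairs without a common Sylow 2-subgroup (WrCv, CvMix, CASE 2; helper330, bb OMEGA #18786)

* `MixedQ M₁ M₂ R` : `MixOne.MixedW` with `O₂(N_G(R)) ≤ N₁, N₂` instead of a Sylow 2-subgroup of `G` in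
  `N₁ ⊓ N₂ ⊓ N_G(R)`; `MixedQ.atR`, `MixedQ.sideW`;
* `MixedQ.dec` : `O₂(N_G(R)) ∩ C(C_{W₂}(V₁)) ≤ V₁ C(W₂)`.
-/

set_option autoImplicit false
set_option linter.unusedSectionVars false

namespace Cfsg.Agent.Omega.IId.MQ

open Subgroup Cfsg.Agent.Lib.SL2Mat Cfsg.Agent.Omega.BTwo Cfsg.Agent.Omega.Mix Cfsg.Agent.Omega.MixOne
open Cfsg.Agent.Omega.NatPair (dt dt_add dt_smul exists_smul_of_dt exists_comb ap ap_smul ap_add ap_zero' ap_one'
  ap_mul ap_inv_ap ap_ap_inv ap_one exists_ap exists_ap_e ap_up_e ext2)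

variable {G : Type*} [Group G]

/-- `MixOne.MixedW` with `O₂(N_G(R)) ≤ N₁, N₂` for the Sylow 2-subgroup -/
structure MixedQ {F₁ F₂ : Type*} [Field F₁] [Field F₂] {V₁ V₂ N₁ N₂ : Subgroup G} (M₁ : RMod F₁ V₁ N₁)
    (M₂ : RMod F₂ V₂ N₂) (R : Subgroup G) : Prop where
  line₁ : ∃ w, w ≠ 0 ∧ R = M₁.line w
  line₂ : ∃ w, w ≠ 0 ∧ R = M₂.line w
  QN₁ : QQ R ≤ N₁
  QN₂ : QQ R ≤ N₂
  char : ∀ K : Subgroup G, IsPGroup 2 K → K ≠ ⊥ → Char2 (normalizer (K : Set G))
  comm₁ : ∀ a ∈ LL V₁ R R, ∀ b ∈ LL V₁ R R, a * b = b * a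
  comm₂ : ∀ a ∈ LL V₂ R R, ∀ b ∈ LL V₂ R R, a * b = b * a
  ne : ∃ a ∈ LL V₁ R R, ∃ b ∈ LL V₂ R R, a * b ≠ b * a

theorem QQ_le_UW_of {F : Type*} [Field F] [Finite F] [CharP F 2] [Finite G] {V N R : Subgroup G} (M : RMod F V N) (hQ : QQ R ≤ N)
    {w : Fin 2 → F} (hw : w ≠ 0) (hR : R = M.line w) : QQ R ≤ M.UW w := by
  refine M.lin_of_torus hw hQ ?_ (O2_isPGroup _) ?_
  · rw [← hR]; exact O2_le _
  · intro g _ hg x hx
    rw [← hR] at hg
    exact conj_mem_of_normalizer (le_normalizer_O2 _ hg) hx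

namespace MixedQ

variable {F₁ F₂ : Type*} [Field F₁] [Field F₂] {V₁ V₂ N₁ N₂ : Subgroup G} {M₁ : RMod F₁ V₁ N₁}
  {M₂ : RMod F₂ V₂ N₂} {R : Subgroup G}

theorem symm (m : MixedQ M₁ M₂ R) : MixedQ M₂ M₁ R where
  line₁ := m.line₂
  line₂ := m.line₁
  QN₁ := m.QN₂
  QN₂ := m.QN₁
  char := m.char
  comm₁ := m.comm₂
  comm₂ := m.comm₁
  ne := by
    obtain ⟨a, ha, b, hb, h⟩ := m.ne
    exact ⟨b, hb, a, ha, fun h1 => h h1.symm⟩

section base

variable (m : MixedQ M₁ M₂ R)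
include m

theorem RV : R ≤ V₁ := by
  obtain ⟨w, -, hR⟩ := m.line₁
  rw [hR]
  exact M₁.line_le w

theorem R_ne : R ≠ ⊥ := by
  obtain ⟨w, hw, hR⟩ := m.line₁
  exact M₁.pt_ne ⟨R, w, hw, hR⟩

variable [CharP F₁ 2]

theorem R_pGroup : IsPGroup 2 R := fun v => ⟨1, by
  rw [pow_one, pow_two]
  exact Subtype.ext (M₁.sq (m.RV v.2))⟩

variable [Finite G]

theorem R_le_QQ : R ≤ QQ R :=
  le_O2_of_normal le_normalizer m.R_pGroup fun _ hg _ ha => conj_mem_of_normalizer hg ha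

theorem QQ_le_N : QQ R ≤ N₁ := m.QN₁

variable [Finite F₁]

theorem QQ_le_UW {w : Fin 2 → F₁} (hw : w ≠ 0) (hR : R = M₁.line w) : QQ R ≤ M₁.UW w := by
  refine M₁.lin_of_torus hw m.QQ_le_N ?_ (O2_isPGroup _) ?_
  · rw [← hR]; exact O2_le _
  · intro g _ hg x hx
    rw [← hR] at hg
    exact conj_mem_of_normalizer (le_normalizer_O2 _ hg) hx

/-- **(1)** `V₁ ≤ O₂(N_G(R))` -/
theorem V_le_QQ : V₁ ≤ QQ R := by
  obtain ⟨w, hw, hR⟩ := m.line₁
  intro v hv
  have hvR : ∀ r ∈ R, v * r = r * v := fun r hr => M₁.comm hv (m.RV hr)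
  have hvR' : ∀ r ∈ R, v * r * v⁻¹ ∈ R := fun r hr => by
    rw [hvR r hr, mul_inv_cancel_right]; exact hr
  refine Mix.stab_le m.R_le_QQ (m.char R m.R_pGroup m.R_ne) (mem_normalizer_of_conj hvR') hvR ?_
  intro y hy
  have h1 := M₁.UW_comm hw (m.QQ_le_UW hw hR hy) (inv_mem hv)
  rw [← hR] at h1
  have h2 := hvR' _ h1
  have e : v * (y * v⁻¹ * y⁻¹ * v⁻¹⁻¹) * v⁻¹ = v * y * v⁻¹ * y⁻¹ := by group
  rwa [e] at h2

theorem C_le_QQ : LL V₁ R R ≤ QQ R := by
  refine Mix.LL_le fun g hg => ?_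
  intro x hx
  have h1 := conj_mem_of_normalizer (le_normalizer_O2 _ (cj_eq_self_iff.1 hg)) (m.V_le_QQ (mem_cj.1 hx))
  have e : g * (g⁻¹ * x * g) * g⁻¹ = x := by group
  rwa [e] at h1

theorem QC {g b : G} (hg : g ∈ QQ R) (hb : b ∈ LL V₁ R R) : g * b * g⁻¹ * b⁻¹ ∈ R := by
  obtain ⟨w, hw, hR⟩ := m.line₁
  let D : Subgroup G :=
    { carrier := {a | a ∈ normalizer (R : Set G) ∧ ∀ x ∈ QQ R, x * a * x⁻¹ * a⁻¹ ∈ R}
      one_mem' := ⟨one_mem _, fun x _ => by
        have : x * 1 * x⁻¹ * 1⁻¹ = 1 := by group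
        rw [this]; exact one_mem _⟩
      mul_mem' := by
        rintro a b ⟨ha, ha1⟩ ⟨hb, hb1⟩
        refine ⟨mul_mem ha hb, fun x hx => ?_⟩
        have e : x * (a * b) * x⁻¹ * (a * b)⁻¹ = (x * a * x⁻¹ * a⁻¹) * (a * (x * b * x⁻¹ * b⁻¹) * a⁻¹) := by group
        rw [e]
        exact mul_mem (ha1 x hx) (conj_mem_of_normalizer ha (hb1 x hx))
      inv_mem' := by
        rintro a ⟨ha, ha1⟩
        refine ⟨inv_mem ha, fun x hx => ?_⟩
        have e : x * a⁻¹ * x⁻¹ * a⁻¹⁻¹ = a⁻¹ * (x * a * x⁻¹ * a⁻¹)⁻¹ * a := by group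
        rw [e]
        exact conj_inv_mem_of_normalizer ha (inv_mem (ha1 x hx)) }
  have h1 : LL V₁ R R ≤ D := by
    refine Mix.LL_le fun h hh => ?_
    have hhR := cj_eq_self_iff.1 hh
    intro a ha
    refine ⟨O2_le _ (m.C_le_QQ (cj_le_LL hh ha)), fun x hx => ?_⟩
    have h2 := M₁.UW_comm hw (m.QQ_le_UW hw hR (conj_inv_mem_of_normalizer (le_normalizer_O2 _ hhR) hx))
      (mem_cj.1 ha)
    rw [← hR] at h2
    have h3 := conj_mem_of_normalizer hhR h2
    have e : h * (h⁻¹ * x * h * (h⁻¹ * a * h) * (h⁻¹ * x * h)⁻¹ * (h⁻¹ * a * h)⁻¹) * h⁻¹ = x * a * x⁻¹ * a⁻¹ := by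
      group
    rwa [e] at h3
  exact (h1 hb).2 g hg

end base

section both

variable [Finite G] [Finite F₁] [Finite F₂] [CharP F₁ 2] [CharP F₂ 2] (m : MixedQ M₁ M₂ R)
include m

/-- a mutual partner of `V₁` of type 2 on `R` -/
theorem exists_partner : ∃ g ∈ normalizer (R : Set G), RMutual V₁ (cj g V₂) N₁ (cj g N₂) := by
  by_contra hcon
  have key : ∀ g ∈ normalizer (R : Set G), ∀ v ∈ V₁, ∀ w ∈ cj g V₂, v * w = w * v := by
    intro g hg v hv w hw
    by_contra hvw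
    refine hcon ⟨g, hg, ?_, ?_, v, hv, w, hw, hvw⟩
    · exact (cj_le_LL (cj_eq_self_iff.2 hg)).trans (m.symm.C_le_QQ.trans m.QQ_le_N)
    · have h1 := cj_mono (g := g) m.symm.QQ_le_N
      rw [cj_QQ, cj_eq_self_iff.2 hg] at h1
      exact m.V_le_QQ.trans h1
  obtain ⟨a, ha, b, hb, hab⟩ := m.ne
  apply hab
  have h1 : LL V₂ R R ≤ centralizer (V₁ : Set G) := by
    refine Mix.LL_le fun g hg => ?_
    intro w hw
    rw [mem_centralizer_iff]
    exact fun v hv => key g (cj_eq_self_iff.1 hg) v hv w hw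
  have h2 : LL V₁ R R ≤ centralizer (LL V₂ R R : Set G) := by
    refine Mix.LL_le fun g hg => ?_
    intro x hx
    rw [mem_centralizer_iff]
    intro y hy
    have h3 : g⁻¹ * y * g ∈ LL V₂ R R :=
      conj_inv_mem_of_normalizer (normalizer_le_LL V₂ R R (cj_eq_self_iff.1 hg)) hy
    have h4 := mem_centralizer_iff.1 (h1 h3) _ (mem_cj.1 hx)
    calc y * x = g * (g⁻¹ * y * g * (g⁻¹ * x * g)) * g⁻¹ := by group
      _ = g * (g⁻¹ * x * g * (g⁻¹ * y * g)) * g⁻¹ := by rw [h4]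
      _ = x * y := by group
  exact (mem_centralizer_iff.1 (h2 ha) b hb).symm

/-- `|F₁| = |F₂|` -/
theorem card_eq : Nat.card F₁ = Nat.card F₂ := by
  obtain ⟨g, hg, h⟩ := m.exists_partner
  exact (pair M₁ (M₂.conj g) h).1

/-- `W₂(R)` induces the full root group on `V₁` -/
theorem full {w : Fin 2 → F₁} (hw : w ≠ 0) (hR : R = M₁.line w) : M₁.Full (LL V₂ R R) w := by
  obtain ⟨g, hg, h⟩ := m.exists_partner
  obtain ⟨-, w₁, w', hq, hq', hl, -⟩ := pair M₁ (M₂.conj g) h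
  have h1 : R = M₁.line w₁ := by
    refine Subgroup.eq_of_le_of_card_ge ?_ ?_
    · rw [← hl]
      refine le_inf m.RV ?_
      have h2 := cj_mono (g := g) m.symm.RV
      rwa [cj_eq_self_iff.2 hg] at h2
    · rw [M₁.card_line hq.ne, hR, M₁.card_line hw]
  have h2 : M₁.line w = M₁.line w₁ := by rw [← hR, h1]
  obtain ⟨c, hc⟩ := (M₁.line_eq_iff hw).1 h2
  have hc0 : c ≠ 0 := by
    rintro rfl
    rw [zero_smul] at hc
    exact hw hc
  have h3 : M₁.Full (cj g V₂) w₁ := hq.full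
  rw [hc]
  exact (h3.mono (cj_le_LL (cj_eq_self_iff.2 hg))).smul hc0


theorem atR {w : Fin 2 → F₁} (hw : w ≠ 0) (hR : R = M₁.line w) : AtR M₁ V₂ R w where
  ne := hw
  line := hR
  R_le := m.symm.RV
  UW := m.symm.C_le_QQ.trans (m.QQ_le_UW hw hR)
  full := m.full hw hR
  comm := fun _ hc _ hb => m.symm.QC (m.C_le_QQ hc) hb
  comm₁ := m.comm₁
  sq₁ := sq_of_comm_LL m.comm₁ fun _ hv => M₁.sq hv
  comm₂ := m.comm₂
  sq₂ := sq_of_comm_LL m.comm₂ fun _ hv => M₂.sq hv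

theorem sideW : SideW V₁ (pt M₁) (fun i => LL V₂ R (pt M₁ i)) (fun i => LL V₁ R (pt M₁ i)) := by
  obtain ⟨w, hw, hR⟩ := m.line₁
  exact (m.atR hw hR).sideW

/-- **`O₂(N_G(R)) ∩ C(C_{W₂}(V₁)) ≤ V₁ C(W₂)`** -/
theorem dec {q : G} (hq : q ∈ QQ R) (hqT : ∀ t ∈ TT V₁ (LL V₂ R R), q * t = t * q) :
    ∃ v ∈ V₁, ∀ b ∈ LL V₂ R R, b * (v * q) = v * q * b := by
  obtain ⟨g, hg, h⟩ := m.exists_partner
  obtain ⟨-, w₁, w', hq₁, hq', hl, hl'⟩ := pair M₁ (M₂.conj g) h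
  obtain ⟨w, hw, hRw⟩ := m.line₁
  have h1 : R = M₁.line w₁ := by
    refine Subgroup.eq_of_le_of_card_ge ?_ ?_
    · rw [← hl]
      refine le_inf m.RV ?_
      have h2 := cj_mono (g := g) m.symm.RV
      rwa [cj_eq_self_iff.2 hg] at h2
    · rw [M₁.card_line hq₁.ne, hRw, M₁.card_line hw]
  have h2 : R = (M₂.conj g).line w' := by rw [← hl', hl, ← h1]
  have hQN : QQ R ≤ cj g N₂ := by
    have h3 := cj_mono (g := g) m.QN₂
    rwa [cj_QQ, cj_eq_self_iff.2 hg] at h3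
  obtain ⟨B', hB', hBi⟩ := QQ_le_UW_of (M₂.conj g) hQN hq'.ne h2 hq
  obtain ⟨v, hv, hvB⟩ := hq'.full B' hB'
  -- `v⁻¹ q` centralises the partner
  have h3 : ∀ y ∈ cj g V₂, q * y * q⁻¹ = v * y * v⁻¹ := by
    intro y hy
    obtain ⟨x, rfl⟩ := ((M₂.conj g).mem_iff y).1 hy
    rw [hBi, hvB]
  have h4 : ∀ y ∈ cj g V₂, v⁻¹ * q * y = y * (v⁻¹ * q) := by
    intro y hy
    calc v⁻¹ * q * y = v⁻¹ * (q * y * q⁻¹) * q := by group
      _ = v⁻¹ * (v * y * v⁻¹) * q := by rw [h3 y hy]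
      _ = y * (v⁻¹ * q) := by group
  refine ⟨v⁻¹, inv_mem hv, fun b hb => ?_⟩
  obtain ⟨B, hB, hbB⟩ := (m.atR hq₁.ne h1).UW hb
  obtain ⟨y, hy, hyB⟩ := hq₁.full B hB
  have h5 : y⁻¹ * b ∈ TT V₁ (LL V₂ R R) := by
    rw [mem_TT]
    refine ⟨mul_mem (inv_mem (cj_le_LL (cj_eq_self_iff.2 hg) hy)) hb, fun u hu => ?_⟩
    obtain ⟨x, rfl⟩ := (M₁.mem_iff u).1 hu
    have h6 : y * M₁.e x * y⁻¹ = b * M₁.e x * b⁻¹ := by rw [hyB, hbB]
    calc y⁻¹ * b * M₁.e x = y⁻¹ * (b * M₁.e x * b⁻¹) * b := by group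
      _ = y⁻¹ * (y * M₁.e x * y⁻¹) * b := by rw [h6]
      _ = M₁.e x * (y⁻¹ * b) := by group
  have h6 := hqT _ h5
  have h7 : v⁻¹ * (y⁻¹ * b) = y⁻¹ * b * v⁻¹ := ((mem_TT.1 h5).2 _ (inv_mem hv)).symm
  have h8 : v⁻¹ * q * (y⁻¹ * b) = y⁻¹ * b * (v⁻¹ * q) := by
    rw [mul_assoc, h6, ← mul_assoc, h7, mul_assoc]
  have h9 := h4 y hy
  calc b * (v⁻¹ * q) = y * (y⁻¹ * b * (v⁻¹ * q)) := by group
    _ = y * (v⁻¹ * q * (y⁻¹ * b)) := by rw [h8]
    _ = (y * (v⁻¹ * q)) * (y⁻¹ * b) := by group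
    _ = (v⁻¹ * q * y) * (y⁻¹ * b) := by rw [h9]
    _ = v⁻¹ * q * b := by group

end both

end MixedQ

end Cfsg.Agent.Omega.IId.MQ

end

section


/-!
# LEMMA NORM' (helper958): `N_G(V_i)` is semilinear for an unmixed factor `V_i`, any `q`

Linear level: `NatPair.NormP1`, `NormP2`; bridge to the group: `NV.nm_of_o2`.

* `NV.o2_cent_le` : `O₂(C_G(r)) ≤ stab M i` (`k ≤ 2`, `r ∈ V_i` centralised by `stab M i`);
* `NV.nm_of_unM` : `UnM M i` implies that `N_G(fac M i)` normalises the `SL₂(F)` (no Sylow hypothesis);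
* `NV.natMod`;
* `NV.bts_unM` (`k = 2`), `NV.bts_unM_one` (`k = 1`) : `BTS (fac M i)` for an unmixed factor, any `q`.
-/

set_option autoImplicit false
set_option linter.unusedSectionVars false

namespace Cfsg.Agent.Omega.IId.NV

open Subgroup Cfsg Cfsg.Agent.ZN Cfsg.Agent.ZN.ChoiceBase
open Cfsg.Agent.Omega.MinPar Cfsg.Agent.Omega.FFThm
open Cfsg.Agent.Lib.SL2Mat
open Cfsg.Agent.MinSimple
open Cfsg.Agent.Omega.NatPair (ap ap_mul ap_one ap_inv_ap ap_ap_inv exists_ap ap_add NatMod PreMod)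
open Cfsg.Agent.MinSimple.VModule (zc_le zc_comm zc_sq zc_le_zl le_normalizer_o2 o2_isPGroup o2_le
  normalizer_le_normalizer_zc le_normalizer_zl)

section bridge

open Cfsg.Agent.Omega.NatPair.PreMod

variable {G : Type*} [Group G] {F : Type*} [Field F] {V : Subgroup G} (M : PreMod F V)

/-- The bridge from the linear level. -/
theorem nm_of_co (h : ∀ g : Lin V, g ∈ normalizer (M.toCo.E : Set (Lin V))) :
    ∀ g ∈ normalizer (V : Set G), M.Nm g := by
  intro g hg k A hA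
  have hk := M.mem_normalizer hA
  have h1 : rr (⟨k, hk⟩ : normalizer (V : Set G)) ∈ M.toCo.E := (M.mem_E_iff _).2 ⟨A, hA⟩
  have h2 := (mem_normalizer_iff.1 (h (rr ⟨g, hg⟩)) _).1 h1
  rw [← rr_inv, ← rr_mul, ← rr_mul] at h2
  exact (M.mem_E_iff _).1 h2

theorem rr_eq_one_iff {o : normalizer (V : Set G)} : rr o = 1 ↔ (o : G) ∈ centralizer (V : Set G) := by
  constructor
  · intro h
    refine mem_centralizer_iff.2 fun v hv => ?_
    have h1 := rr_smul o ⟨v, hv⟩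
    rw [h, one_smul] at h1
    have h2 : v = (o : G) * v * (o : G)⁻¹ := h1
    rw [eq_mul_inv_iff_mul_eq] at h2
    exact h2
  · intro h
    apply Subtype.ext
    apply MulEquiv.ext
    intro v
    apply Subtype.ext
    have h1 := rr_smul o v
    have h2 := mem_centralizer_iff.1 h v v.2
    have h3 : (o : G) * v * (o : G)⁻¹ = v := by rw [← h2, mul_inv_cancel_right]
    exact h1.trans h3

/-- **LEMMA NORM'** -/
theorem nm_of_o2 [Finite G] [Finite F] [CharP F 2] {r : G} (hr : r ∈ V) (hr1 : r ≠ 1)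
    {O : Subgroup G} (hO2 : IsPGroup 2 O) (hOV : O ≤ normalizer (V : Set G)) (hON : ∀ o ∈ O, M.Nm o)
    (hOr : ∀ o ∈ O, o * r = r * o)
    (hn : ∀ n ∈ normalizer (V : Set G), n * r = r * n → n ∈ normalizer (O : Set G))
    (h1 : ¬ O ≤ centralizer (V : Set G)) : ∀ g ∈ normalizer (V : Set G), M.Nm g := by
  obtain ⟨x, rfl⟩ := (M.mem_iff r).1 hr
  have hx : x ≠ 0 := fun h => hr1 (M.e_eq_one.2 h)
  set O' : Subgroup (Lin V) := (O.subgroupOf (normalizer (V : Set G))).map V.normalizerMonoidHom.rangeRestrict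
    with hO'
  have hmem : ∀ y : Lin V, y ∈ O' ↔ ∃ o : normalizer (V : Set G), (o : G) ∈ O ∧ rr o = y := by
    intro y
    rw [hO', Subgroup.mem_map]
    exact ⟨fun ⟨o, ho, h⟩ => ⟨o, ho, h⟩, fun ⟨o, ho, h⟩ => ⟨o, ho, h⟩⟩
  have hp : IsPGroup 2 O' := (hO2.comap_of_injective (normalizer (V : Set G)).subtype
    (normalizer (V : Set G)).subtype_injective).map _
  have hconj : ∀ s : normalizer (V : Set G), (s : G) ∈ O → ∀ y ∈ M.toCo.E, rr s * y * (rr s)⁻¹ ∈ M.toCo.E := by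
    intro s hs y hy
    obtain ⟨h, rfl⟩ := rr_surj y
    obtain ⟨A, hA⟩ := (M.mem_E_iff h).1 hy
    obtain ⟨B, hB⟩ := hON s hs h A hA
    rw [← rr_inv, ← rr_mul, ← rr_mul]
    exact (M.mem_E_iff _).2 ⟨B, hB⟩
  refine nm_of_co M fun g => M.toCo.norm_of_o2' (r := x) hx (O := O') hp ?_ ?_ ?_ ?_ g
  · intro y hy
    obtain ⟨s, hs, rfl⟩ := (hmem y).1 hy
    rw [mem_normalizer_iff]
    intro z
    constructor
    · exact hconj s hs z
    · intro hz
      have h2 := hconj s⁻¹ (inv_mem hs) _ hz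
      rw [rr_inv, inv_inv] at h2
      have e : (rr s)⁻¹ * (rr s * z * (rr s)⁻¹) * rr s = z := by group
      rwa [e] at h2
  · intro y hy
    obtain ⟨s, hs, rfl⟩ := (hmem y).1 hy
    apply M.e_inj
    rw [M.e_T, hOr s hs, mul_inv_cancel_right]
  · intro n hnx y hy
    obtain ⟨g, rfl⟩ := rr_surj n
    obtain ⟨s, hs, rfl⟩ := (hmem y).1 hy
    have h2 := M.e_T g x
    rw [hnx] at h2
    have h3 : (g : G) * M.e x = M.e x * g := (eq_mul_inv_iff_mul_eq.1 h2).symm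
    have h5 := (mem_normalizer_iff.1 (hn g g.2 h3) (s : G)).1 hs
    rw [hmem]
    exact ⟨g * s * g⁻¹, h5, by rw [rr_mul, rr_mul, rr_inv]⟩
  · intro h0
    apply h1
    intro o ho
    have h2 : rr (⟨o, hOV ho⟩ : normalizer (V : Set G)) ∈ O' := (hmem _).2 ⟨_, ho, rfl⟩
    rw [h0, mem_bot] at h2
    exact rr_eq_one_iff.1 h2


end bridge

universe u

variable {G : Type u} [Group G] [Finite G] {F : Type} [Field F] [Finite F] [CharP F 2] {S : Sylow 2 G}
  {P V D : Subgroup G} {k : ℕ} (M : NatD F S P V D k)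

/-- **`O₂(C_G(r)) ≤ stab M i`**, `r ∈ V_i` an element `≠ 1` centralised by `stab M i`, `k = 1, 2` -/
theorem o2_cent_le (hk : k = 1 ∨ k = 2) (i : Fin k) {r : G} (hr : r ∈ fac M.toNatV i) (hr1 : r ≠ 1)
    (hrS : ∀ t ∈ stab M.toNatV i, t * r = r * t) : o2 (centralizer ({r} : Set G)) ≤ stab M.toNatV i := by
  rcases hk with rfl | rfl
  · have h1 := (stab_one M i).ge
    refine le_trans ?_ h1
    have h2 : (S : Subgroup G) ≤ centralizer ({r} : Set G) := fun t ht =>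
      mem_centralizer_singleton_iff.2 (hrS t (h1 ht))
    exact VModule.o2_le_of_sylow S.isPGroup' (MinSimple.Basic.not_dvd_relIndex S h2)
  · obtain ⟨j, hj⟩ := exists_ne i
    have hr2 : r ^ 2 = 1 := by
      rw [pow_two]
      exact NV.sq M.toNatV hr.1
    have hn : centralizer ({r} : Set G) ≤ normalizer (zpowers r : Set G) := by
      rw [← Subgroup.centralizer_closure, ← zpowers_eq_closure]
      exact centralizer_le_normalizer _
    refine o2_le_stab M hj.symm (R := zpowers r) (zpowers_le.2 hr) (by rwa [Ne, zpowers_eq_bot]) hn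
      (MinSimple.Basic.char2_centralizer M.hG hr2 hr1) ?_ ?_
    · exact fun t ht => mem_centralizer_singleton_iff.2 (hrS t ht)
    · intro g hg
      exact mem_centralizer_singleton_iff.2 (grp_comm M.toNatV (by simpa using hj) hg hr)

/-- **LEMMA NORM', unmixed factor**: `N_G(V_i)` normalises the `SL₂(F)`, any `q`, `k = 1, 2`; no Sylow hypothesis. -/
theorem nm_of_unM (hk : k = 1 ∨ k = 2) (i : Fin k) (hu : UnMx M i) :
    ∀ g ∈ normalizer (fac M.toNatV i : Set G), (pre M.toNatV i).Nm g := by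
  have hT2 : IsPGroup 2 (stab M.toNatV i) := S.isPGroup'.to_le (stab_le _ _)
  have hR2 : IsPGroup 2 (line M.toNatV i) :=
    (S.isPGroup'.to_le (V_le_S M)).to_le ((line_le _ _).trans (fac_le _ _))
  obtain ⟨r, hr, hr1, hrc⟩ := Half.exists_fixed hR2 (line_ne_bot' (M := M.toNatV) i) hT2
    (stab_normalizes_line M.toNatV (SP M) i)
  have hrf : r ∈ fac M.toNatV i := line_le _ _ hr
  have hrS : ∀ t ∈ stab M.toNatV i, t * r = r * t := fun t ht => mul_inv_eq_iff_eq_mul.1 (hrc t ht)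
  have hr2 : r ^ 2 = 1 := by
    rw [pow_two]
    exact NV.sq M.toNatV hrf.1
  set O : Subgroup G := o2 (centralizer ({r} : Set G)) with hO
  have hOs : O ≤ stab M.toNatV i := o2_cent_le M hk i hrf hr1 hrS
  have hOc : O ≤ centralizer ({r} : Set G) := VModule.o2_le _
  have hch := MinSimple.Basic.char2_centralizer M.hG hr2 hr1
  refine nm_of_o2 (pre M.toNatV i) hrf hr1 (o2_isPGroup _) (hOs.trans (stab_normalizes _ i))
    (fun o ho => Nm_stab (SP M) M.toNatV i o (hOs ho)) (fun o ho => mem_centralizer_singleton_iff.1 (hOc ho))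
    (fun n _ hnr => VModule.le_normalizer_o2 _ (mem_centralizer_singleton_iff.2 hnr)) ?_
  -- `O` does not centralise `V_i`
  intro hcen
  have hVO : fac M.toNatV i ≤ O := by
    intro v hv
    refine hch (mem_inf.2 ⟨mem_centralizer_singleton_iff.2 (NV.comm M.toNatV hv.1 hrf.1), ?_⟩)
    exact mem_centralizer_iff.2 fun y hy => (mem_centralizer_iff.1 (hcen hy) v hv).symm
  obtain ⟨c, hc, v, hv, w, hw, hne⟩ := hu
  -- a torus element
  have hrc' : c * r * c⁻¹ ∈ line M.toNatV i := (mem_normalizer_iff.1 hc r).1 hr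
  have hrc1 : c * r * c⁻¹ ≠ 1 := fun h => hr1 (by
    rw [mul_inv_eq_one, mul_eq_left] at h
    exact h)
  obtain ⟨h, hh, -, hhr⟩ := exists_tor M.toNatV hrc' hr hrc1 hr1
  have hcr : h * c ∈ centralizer ({r} : Set G) := by
    rw [mem_centralizer_singleton_iff]
    have e : h * c * r = h * (c * r * c⁻¹) * h⁻¹ * (h * c) := by group
    rw [e, hhr]
  have h5 : h * c * w * (h * c)⁻¹ ∈ O :=
    (mem_normalizer_iff.1 (VModule.le_normalizer_o2 (centralizer ({r} : Set G)) hcr) w).1 (hVO hw)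
  have h6 : h * v * h⁻¹ ∈ fac M.toNatV i := grp_conj_fac hh hv
  have h7 := mem_centralizer_iff.1 (hcen h5) _ h6
  apply hne
  have e1 : h * v * h⁻¹ * (h * c * w * (h * c)⁻¹) = h * (v * (c * w * c⁻¹)) * h⁻¹ := by group
  have e2 : h * c * w * (h * c)⁻¹ * (h * v * h⁻¹) = h * (c * w * c⁻¹ * v) * h⁻¹ := by group
  rw [e1, e2] at h7
  exact mul_left_cancel (mul_right_cancel h7)

/-- The natural module of an unmixed factor. -/
noncomputable def natMod (hk : k = 1 ∨ k = 2) (i : Fin k) (hu : UnMx M i) : NatMod F (fac M.toNatV i) :=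
  (pre M.toNatV i).toNatMod (nm_of_unM M hk i hu)

/-- **`BTS (fac M i)`** for an unmixed factor, `k = 2`, any `q` -/
theorem bts_unM (M : NatD F S P V D 2) {i j : Fin 2} (hij : i ≠ j) (hu : UnMx M i) :
    ∃ N : NatMod F (fac M.toNatV i), BtsD M i j N :=
  bts_of M hij (nm_of_unM M (Or.inr rfl) i hu) hu

/-- **`BTS V`** for an unmixed `V`, `k = 1`, any `q` -/
theorem bts_unM_one (M : NatD F S P V D 1) {i : Fin 1} (hu : UnMx M i) :
    ∃ N : NatMod F (fac M.toNatV i), BtsD1 M i N :=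
  bts_of_one M (nm_of_unM M (Or.inl rfl) i hu) hu

end Cfsg.Agent.Omega.IId.NV

end

section


/-!
# II.d, `SwBig`: the mixed case, abstract form (helper290 #20414 (8); helper994 #17943 (2), helper349)

`Side M r T D` : `M : RMod F L N`, `|F| = 2`, `⟨r⟩` a line of `L`, `T` a 2-group in `N ⊓ C_G(r)`, Sylow in `C_G(r)`,
`D` induces `SL₂(2)` on `L`, `Ω₁Z(T) ≤ ⟨r⟩ C(D)`, `O₂(H) ≤ C(L)` for `H ≥ T, D`.

* `Side.conj` : conjugates by `C_G(r)`;
* **`mixed_false`** : two sides for the same `r`, `|Ω₁Z(T) ∩ C(D)| ≥ 4`, the conjugates of `L` under `C_G(r)` commute,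
  those of `L'` commute, `L` and `L'` do not: impossible.
-/

set_option autoImplicit false
set_option linter.unusedSectionVars false

namespace Cfsg.Agent.Omega.IId.SwB

open Subgroup Cfsg
open Cfsg.Agent.Lib.SL2Mat Cfsg.Agent.Omega.BTwo Cfsg.Agent.Omega.Mix Cfsg.Agent.Omega.MixOne
open Cfsg.Agent.Omega.NatPair (ap)
open Cfsg.Agent.ZN (zc)
open Cfsg.Agent.Omega.IId.M4 (MixedT LL_comm exists_cj_eq)

universe u

variable {G : Type u} [Group G]

/-- **One side.** -/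
structure Side {F : Type*} [Field F] {L N : Subgroup G} (M : RMod F L N) (r : G) (T D : Subgroup G) : Prop where
  two : Nat.card F = 2
  line : ∃ w : Fin 2 → F, w ≠ 0 ∧ ∀ g, g ∈ M.line w ↔ g = 1 ∨ g = r
  r1 : r ≠ 1
  T2 : IsPGroup 2 T
  TN : T ≤ N
  TC : T ≤ centralizer ({r} : Set G)
  odd : ¬ 2 ∣ T.relIndex (centralizer ({r} : Set G))
  LT : L ≤ T
  DN : D ≤ N
  lift : ∀ A : Matrix.SpecialLinearGroup (Fin 2) F, ∃ g ∈ D, M.Ind g A
  split : ∀ f ∈ zc T, ∃ u, (u = 1 ∨ u = r) ∧ ∃ z, f = u * z ∧ ∀ g ∈ D, g * z = z * g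
  loc : ∀ H : Subgroup G, T ≤ H → D ≤ H → O2 H ≤ centralizer (L : Set G)

namespace Side

variable {F : Type*} [Field F] {L N : Subgroup G} {M : RMod F L N} {r : G} {T D : Subgroup G}

theorem card_L (A : Side M r T D) : Nat.card L = 4 := by
  rw [M.card_V, A.two]
  norm_num

theorem rL (A : Side M r T D) : r ∈ L := by
  obtain ⟨w, -, hw⟩ := A.line
  exact M.line_le w ((hw r).2 (Or.inr rfl))

/-- `V ≤ O₂(M)` for `O₂(M) ≤ C(V)` -/
theorem le_of_cent [Finite G] {H : Subgroup G} (hH : Char2 H) (hL : L ≤ H) (h : O2 H ≤ centralizer (L : Set G)) :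
    L ≤ O2 H := by
  intro v hv
  exact hH v (hL hv) fun q hq => (mem_centralizer_iff.1 (h hq) v hv)

/-- conjugates -/
theorem conj (A : Side M r T D) {c : G} (hc : c ∈ centralizer ({r} : Set G)) :
    Side (M.conj c) r (cj c T) (cj c D) := by
  have hcr : c * r * c⁻¹ = r := by
    rw [mem_centralizer_singleton_iff.1 hc, mul_inv_cancel_right]
  have hcC : cj c (centralizer ({r} : Set G)) = centralizer ({r} : Set G) :=
    cj_eq_self_iff.2 (le_normalizer hc)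
  obtain ⟨w, hw, hl⟩ := A.line
  refine ⟨A.two, ⟨w, hw, fun g => ?_⟩, A.r1, A.T2.map _, cj_mono A.TN, ?_, ?_, cj_mono A.LT, cj_mono A.DN, ?_, ?_, ?_⟩
  · rw [M.conj_line]
    change g ∈ cj c (M.line w) ↔ _
    rw [mem_cj, hl]
    constructor
    · rintro (h | h)
      · left
        have : g = c * (c⁻¹ * g * c) * c⁻¹ := by group
        rw [this, h]; group
      · right
        have : g = c * (c⁻¹ * g * c) * c⁻¹ := by group
        rw [this, h, hcr]
    · rintro (rfl | rfl)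
      · left; group
      · right
        calc c⁻¹ * g * c = c⁻¹ * (c * g * c⁻¹) * c := by rw [hcr]
          _ = g := by group
  · rw [← hcC]; exact cj_mono A.TC
  · have h1 : (cj c T).relIndex (cj c (centralizer ({r} : Set G))) = T.relIndex (centralizer ({r} : Set G)) :=
      relIndex_map_map_of_injective _ _ (MulAut.conj c).injective
    rw [hcC] at h1
    rw [h1]
    exact A.odd
  · intro B
    obtain ⟨g, hg, h1⟩ := A.lift B
    refine ⟨c * g * c⁻¹, conj_mem_cj hg, fun x => ?_⟩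
    change c * g * c⁻¹ * (c * M.e x * c⁻¹) * (c * g * c⁻¹)⁻¹ = c * M.e (ap B x) * c⁻¹
    rw [← h1]
    group
  · intro f hf
    have hf' : c⁻¹ * f * c ∈ zc T := by
      obtain ⟨h1, h2, h3⟩ := MinSimple.VModule.mem_zc.1 hf
      refine MinSimple.VModule.mem_zc.2 ⟨?_, fun y hy => ?_, ?_⟩
      · rw [← mem_cj]; exact h1
      · have h5 := h2 _ (conj_mem_cj (g := c) hy)
        calc y * (c⁻¹ * f * c) = c⁻¹ * (c * y * c⁻¹ * f) * c := by group
          _ = c⁻¹ * (f * (c * y * c⁻¹)) * c := by rw [h5]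
          _ = c⁻¹ * f * c * y := by group
      · calc (c⁻¹ * f * c) ^ 2 = c⁻¹ * (f ^ 2) * c := by rw [pow_two, pow_two]; group
          _ = 1 := by rw [h3]; group
    obtain ⟨u, hu, z, e, hz⟩ := A.split _ hf'
    refine ⟨u, hu, c * z * c⁻¹, ?_, fun g hg => ?_⟩
    · have hcu : c * u * c⁻¹ = u := by
        rcases hu with rfl | rfl
        · group
        · exact hcr
      calc f = c * (c⁻¹ * f * c) * c⁻¹ := by group
        _ = c * (u * z) * c⁻¹ := by rw [e]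
        _ = c * u * c⁻¹ * (c * z * c⁻¹) := by group
        _ = u * (c * z * c⁻¹) := by rw [hcu]
    · rw [mem_cj] at hg
      have h1 := hz _ hg
      calc g * (c * z * c⁻¹) = c * (c⁻¹ * g * c * z) * c⁻¹ := by group
        _ = c * (z * (c⁻¹ * g * c)) * c⁻¹ := by rw [h1]
        _ = c * z * c⁻¹ * g := by group
  · intro H hT hD
    have e1 : cj c (cj c⁻¹ H) = H := cj_cj_inv c H
    have hT' : T ≤ cj c⁻¹ H := by
      have := cj_mono (g := c⁻¹) hT
      rwa [cj_inv_cj] at this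
    have hD' : D ≤ cj c⁻¹ H := by
      have := cj_mono (g := c⁻¹) hD
      rwa [cj_inv_cj] at this
    have h1 := A.loc _ hT' hD'
    intro q hq
    rw [mem_centralizer_iff]
    intro v hv
    have hv' : c⁻¹ * v * c ∈ L := by rw [← mem_cj]; exact hv
    have hq' : c⁻¹ * q * c ∈ O2 (cj c⁻¹ H) := by
      rw [← cj_O2, mem_cj, inv_inv]
      have e : c * (c⁻¹ * q * c) * c⁻¹ = q := by group
      rw [e]; exact hq
    have h2 := mem_centralizer_iff.1 (h1 hq') _ hv'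
    calc v * q = c * (c⁻¹ * v * c * (c⁻¹ * q * c)) * c⁻¹ := by group
      _ = c * (c⁻¹ * q * c * (c⁻¹ * v * c)) * c⁻¹ := by rw [h2]
      _ = q * v := by group

end Side

section both

variable [Finite G] {F F' : Type} [Field F] [Finite F] [CharP F 2] [Field F'] [Finite F'] [CharP F' 2]
  {L N L' N' : Subgroup G} {M : RMod F L N} {M' : RMod F' L' N'} {r : G} {T D T' D' : Subgroup G}

/-- two sides over the same `T` -/
theorem mixed_false_of_eq (hG : IsCharacteristicTwoType G) (A : Side M r T D) (B : Side M' r T D')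
    (pair : ∃ a d : G, (a ∈ zc T ∧ ∀ g ∈ D, g * a = a * g) ∧ (d ∈ zc T ∧ ∀ g ∈ D, g * d = d * g) ∧
      a ≠ 1 ∧ d ≠ 1 ∧ a * d ≠ 1)
    (h1 : ∀ g ∈ centralizer ({r} : Set G), ∀ v ∈ L, ∀ w ∈ L, v * (g * w * g⁻¹) = g * w * g⁻¹ * v)
    (h2 : ∀ g ∈ centralizer ({r} : Set G), ∀ v ∈ L', ∀ w ∈ L', v * (g * w * g⁻¹) = g * w * g⁻¹ * v)
    (hne : ∃ g ∈ centralizer ({r} : Set G), ∃ v ∈ L, ∃ w ∈ L', v * (g * w * g⁻¹) ≠ g * w * g⁻¹ * v) : False := by
  obtain ⟨w, hw, mem_R⟩ := A.line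
  obtain ⟨w', hw', mem_R'⟩ := B.line
  set R := M.line w with hR
  have hRR : R = M'.line w' := by
    ext x
    rw [mem_R, mem_R']
  have hRn : normalizer (R : Set G) = centralizer ({r} : Set G) := MixOne.normalizer_two mem_R A.r1
  have hcj : ∀ {k : G}, k ∈ centralizer ({r} : Set G) → cj k R = R := fun hk =>
    cj_eq_self_iff.2 (by rw [hRn]; exact hk)
  have m : MixedT M M' R T := by
    refine ⟨⟨w, hw, rfl⟩, ⟨w', hw', hRR⟩, A.T2, A.TN, B.TN, ?_, ?_,
      fun K hK hK1 => Mix.char2_normalizer hG hK hK1, LL_comm ?_, LL_comm ?_, ?_, ?_⟩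
    · rw [hRn]; exact A.TC
    · rw [hRn]; exact A.odd
    · intro k hk
      rw [hRn] at hk
      exact h1 k hk
    · intro k hk
      rw [hRn] at hk
      exact h2 k hk
    · obtain ⟨g, hg, v, hv, w₂, hw₂, hvw⟩ := hne
      exact ⟨v, V_le_LL _ _ hv, g * w₂ * g⁻¹, cj_le_LL (V := L') (hcj hg) (conj_mem_cj hw₂), hvw⟩
    · intro K hK k1 k2 k3
      by_contra hK1
      rw [hRn] at k3
      have hch := Mix.char2_normalizer hG hK hK1
      have hT : T ≤ normalizer (K : Set G) := A.TC.trans k3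
      have a1 := A.loc _ hT (A.DN.trans k1)
      have b1 := B.loc _ hT (B.DN.trans k2)
      have a2 := Side.le_of_cent hch (A.LT.trans hT) a1
      obtain ⟨g, hg, v, hv, w₂, hw₂, hvw⟩ := hne
      have hg' := k3 hg
      have h3 : g⁻¹ * v * g ∈ O2 (normalizer (K : Set G)) :=
        conj_inv_mem_of_normalizer (le_normalizer_O2 _ hg') (a2 hv)
      have h4 := mem_centralizer_iff.1 (b1 h3) w₂ hw₂
      apply hvw
      calc v * (g * w₂ * g⁻¹) = g * (g⁻¹ * v * g * w₂) * g⁻¹ := by group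
        _ = g * (w₂ * (g⁻¹ * v * g)) * g⁻¹ := by rw [h4]
        _ = g * w₂ * g⁻¹ * v := by group
  -- `z`
  obtain ⟨a, d, ⟨haz, hag⟩, ⟨hdz, hdg⟩, ha1, hd1, had⟩ := pair
  have hr2 : r * r = 1 := M.sq A.rL
  obtain ⟨z, hz1, hzz, hzg, hzg'⟩ : ∃ z, z ≠ 1 ∧ z ∈ zc T ∧ (∀ g ∈ D, g * z = z * g) ∧ ∀ g ∈ D', g * z = z * g := by
    obtain ⟨u, hu, x, ex, hx⟩ := B.split a haz
    obtain ⟨u', hu', x', ex', hx'⟩ := B.split d hdz
    rcases hu with hu2 | hu2
    · rw [hu2, one_mul] at ex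
      subst ex
      exact ⟨a, ha1, haz, hag, hx⟩
    rcases hu' with hu2' | hu2'
    · rw [hu2', one_mul] at ex'
      subst ex'
      exact ⟨d, hd1, hdz, hdg, hx'⟩
    rw [hu2] at ex
    rw [hu2'] at ex'
    refine ⟨a * d, had, mul_mem haz hdz, fun g hg => ?_, fun g hg => ?_⟩
    · have h1 := hag g hg
      have h2 := hdg g hg
      calc g * (a * d) = (g * a) * d := by group
        _ = a * (g * d) := by rw [h1]; group
        _ = a * d * g := by rw [h2]; group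
    · have hrT : ∀ y ∈ zc T, r * y = y * r := fun y hy =>
        (MinSimple.VModule.mem_zc.1 hy).2.1 r (A.LT A.rL)
      have e1 : a * d = x * x' := by
        have hxr : x * r = r * x := by
          have h1 := hrT a haz
          rw [ex] at h1
          have h2 : r * (r * x) = r * (x * r) := by rw [h1]; group
          exact (mul_left_cancel h2).symm
        calc a * d = r * (x * r) * x' := by rw [ex, ex']; group
          _ = (r * r) * x * x' := by rw [hxr]; group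
          _ = x * x' := by rw [hr2, one_mul]
      have h1 := hx g hg
      have h2 := hx' g hg
      rw [e1]
      calc g * (x * x') = (g * x) * x' := by group
        _ = x * (g * x') := by rw [h1]; group
        _ = x * x' * g := by rw [h2]; group
  obtain ⟨-, hzc, hz2⟩ := MinSimple.VModule.mem_zc.1 hzz
  have hzT : ∀ t ∈ T, t * z = z * t := fun t ht => hzc t ht
  have hTz : T ≤ centralizer ({z} : Set G) := fun t ht => mem_centralizer_singleton_iff.2 (hzT t ht)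
  have hc2 := A.loc _ hTz fun g hg => mem_centralizer_singleton_iff.2 (hzg g hg)
  have hchz : Char2 (centralizer ({z} : Set G)) := by
    have hk : ∀ g, g ∈ zpowers z ↔ g = 1 ∨ g = z := by
      intro g
      rw [mem_zpowers_iff]
      constructor
      · rintro ⟨n, rfl⟩
        rcases Int.even_or_odd' n with ⟨m, hm | hm⟩
        · left
          rw [hm, zpow_mul, zpow_two, ← pow_two, hz2, one_zpow]
        · right
          rw [hm, zpow_add, zpow_mul, zpow_two, ← pow_two, hz2, one_zpow, one_mul, zpow_one]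
      · rintro (rfl | rfl)
        · exact ⟨0, zpow_zero _⟩
        · exact ⟨1, zpow_one _⟩
    have h3 := Mix.char2_normalizer hG (K := zpowers z)
      (MinSimple.Basic.isPGroup_zpowers hz2) (fun h => hz1 (zpowers_eq_bot.mp h))
    rwa [MixOne.normalizer_two hk hz1] at h3
  have hc1 := Side.le_of_cent hchz (A.LT.trans hTz) hc2
  have hD1 := m.mem_iInf (L := D) A.lift hzT hzg
  have hD2 := m.symm.mem_iInf (L := D') B.lift hzT hzg'
  obtain ⟨p, p', hp, hp', t⟩ := m.two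
  refine t.false_of_z A.r1 (by rw [hp]; exact mem_R) A.card_L B.card_L hD1 hD2 ⟨hc1 A.rL, fun q hq => ?_⟩
  exact (mem_centralizer_iff.1 (hc2 hq) r A.rL)

/-- **The mixed case is impossible.** -/
theorem mixed_false (hG : IsCharacteristicTwoType G) (A : Side M r T D) (B : Side M' r T' D')
    (pair : ∃ a d : G, (a ∈ zc T ∧ ∀ g ∈ D, g * a = a * g) ∧ (d ∈ zc T ∧ ∀ g ∈ D, g * d = d * g) ∧
      a ≠ 1 ∧ d ≠ 1 ∧ a * d ≠ 1)
    (h1 : ∀ g ∈ centralizer ({r} : Set G), ∀ v ∈ L, ∀ w ∈ L, v * (g * w * g⁻¹) = g * w * g⁻¹ * v)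
    (h2 : ∀ g ∈ centralizer ({r} : Set G), ∀ v ∈ L', ∀ w ∈ L', v * (g * w * g⁻¹) = g * w * g⁻¹ * v)
    (hne : ∃ v ∈ L, ∃ w ∈ L', v * w ≠ w * v) : False := by
  obtain ⟨c, hc, hcT⟩ := exists_cj_eq A.TC B.TC A.T2 B.T2 A.odd B.odd
  have B' := B.conj hc
  rw [hcT] at B'
  refine mixed_false_of_eq hG A B' pair h1 ?_ ?_
  · intro g hg v hv w hw
    change v ∈ cj c L' at hv
    change w ∈ cj c L' at hw
    rw [mem_cj] at hv hw
    have h3 := h2 (c⁻¹ * g * c) (mul_mem (mul_mem (inv_mem hc) hg) hc) _ hv _ hw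
    calc v * (g * w * g⁻¹) = c * ((c⁻¹ * v * c) * ((c⁻¹ * g * c) * (c⁻¹ * w * c) * (c⁻¹ * g * c)⁻¹)) * c⁻¹ := by
          group
      _ = c * ((c⁻¹ * g * c) * (c⁻¹ * w * c) * (c⁻¹ * g * c)⁻¹ * (c⁻¹ * v * c)) * c⁻¹ := by rw [h3]
      _ = g * w * g⁻¹ * v := by group
  · obtain ⟨v, hv, w, hw, hvw⟩ := hne
    refine ⟨c⁻¹, inv_mem hc, v, hv, c * w * c⁻¹, conj_mem_cj hw, ?_⟩
    have e : c⁻¹ * (c * w * c⁻¹) * c⁻¹⁻¹ = w := by group
    rw [e]
    exact hvw

end both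

end Cfsg.Agent.Omega.IId.SwB

end
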