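import Cfsg.Agent.Mrg.Omega.IId.M4.SideA
import Cfsg.Agent.Mrg.Omega.IId.M4.Entry
import Cfsg.Agent.Mrg.Omega.IId.ThmCD.Cor
import Cfsg.Agent.Omega.HOneEnd.EndIn
import Cfsg.Agent.Mrg.Omega.IId.SymHalf
import Cfsg.Agent.Lib.GoldschmidtFusion

section


/-!
# WrMain4, section 6 for `Ent`

`Chain M i G₀` : what the chain delivers about `G₀` (besides `EndIn`); `FK` : the K-facts for `F₄(q)` and `T = stab M i`
(`X_a = line M i`); `SpK` : the K-facts for `Sp_{2n}(q)`.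

* `exists_vec` : the vector `v ∈ V₂ ∩ Z(T)` of `EndIn`, with `C_{G₀}(v) ≰ N_G(R)`;
* `Ent.not_sp` : `Sp_{2n}(q)` is impossible;
* `Ent.graph` : `F₄(q)`: `s ∈ N_G(G₀)`, and `s` swaps `X_a`, `X_b`; `Q_a`, `Q_b`; `U_a`, `U_b`; `C_a`, `C_b`.
-/

set_option autoImplicit false
set_option linter.unusedSectionVars false

namespace Cfsg.Agent.Omega.IId.M4

open Subgroup Cfsg Cfsg.Agent.ZN.ChoiceBase
open Cfsg.Agent.ZN (o2 zc zl)
open Cfsg.Agent.Omega.MinPar Cfsg.Agent.Omega.FFThm Cfsg.Agent.Omega.Frame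
open Cfsg.Agent.Omega.All.HOne (Side)
open Cfsg.Agent.Omega.NatPair (ap NatMod)
open Cfsg.Agent.Omega.IId.FourSide

universe u

/-! ### The K-facts -/

/-- `G₀ = F₄(q)`, `T ≤ N_G(G₀)` a 2-group, `{X_a, X_b}` = the long and the short root group in `Z(T ∩ G₀)`. -/
structure FK {G : Type u} [Group G] (T G₀ Xa Xb Ca Cb Qa Qb Ua Ub : Subgroup G) : Prop where
  side_a : Side T (normalizer (G₀ : Set G)) Ca Xa Qa Ua
  side_b : Side T (normalizer (G₀ : Set G)) Cb Xb Qb Ub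
  C_Qa : Ca ≤ normalizer (Qa : Set G)
  C_Qb : Cb ≤ normalizer (Qb : Set G)
  Ca_eq : Ca = G₀ ⊓ centralizer (Xa : Set G)
  Cb_eq : Cb = G₀ ⊓ centralizer (Xb : Set G)
  /-- `Z(U) = X_a X_b`, `U = T ∩ G₀` -/
  zU : ∀ z ∈ T ⊓ G₀, T ⊓ G₀ ≤ centralizer ({z} : Set G) → ∃ x ∈ Xa, ∃ y ∈ Xb, z = x * y
  mix : ∀ x ∈ Xa, ∀ y ∈ Xb, x ≠ 1 → y ≠ 1 → G₀ ⊓ centralizer ({x * y} : Set G) ≤ normalizer (Xa : Set G)
  max_b : ∀ M ≤ G₀, G₀ ⊓ normalizer (Xb : Set G) < M → M = G₀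

/-- `G₀ = Sp_{2n}(q)`, `n ≥ 3`: `X_a` short, `X_b` long; `C_b = C_{G₀}(X_b)`, `Q_b = O₂(C_b)` abelian. -/
structure SpK {G : Type u} [Group G] (T G₀ Xa Xb Ca Cb Qa Qb Ua : Subgroup G) : Prop where
  side_a : Side T (normalizer (G₀ : Set G)) Ca Xa Qa Ua
  C_Qa : Ca ≤ normalizer (Qa : Set G)
  zU : ∀ z ∈ T ⊓ G₀, T ⊓ G₀ ≤ centralizer ({z} : Set G) → ∃ x ∈ Xa, ∃ y ∈ Xb, z = x * y
  mix : ∀ x ∈ Xa, ∀ y ∈ Xb, x ≠ 1 → y ≠ 1 → G₀ ⊓ centralizer ({x * y} : Set G) ≤ normalizer (Xa : Set G)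
  T_C : T ≤ normalizer (Cb : Set G)
  C_X : Cb ≤ centralizer (Xb : Set G)
  Q_max : ∀ K : Subgroup G, IsPGroup 2 K → K ≤ Cb → Cb ≤ normalizer (K : Set G) → K ≤ Qb
  fld : ∀ t ∈ T, (∀ c ∈ Cb, t * c * t⁻¹ * c⁻¹ ∈ Qb) → t ∈ Qb
  abel : Qb ≤ centralizer (Qb : Set G)

/-! ### The chain -/

section chain

variable {G : Type u} [Group G] [Finite G] {F : Type} [Field F] [Finite F] [CharP F 2] {S : Sylow 2 G}
  {P : Subgroup G} {K : Cls.{u}} {M : NatK F (S : Subgroup G) P (zl (S : Subgroup G) P) ⊥ 2} {i j : Fin 2}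
  {N : NatMod F (fac M i)}

/-- What the chain delivers about `G₀`. -/
structure Chain (M : NatK F (S : Subgroup G) P (zl (S : Subgroup G) P) ⊥ 2) (i : Fin 2) (N : NatMod F (fac M i))
    (G₀ : Subgroup G) : Prop where
  simple : IsSimpleGroup ↥G₀
  X_le : BTwo.XX (fac M i) (BTwo.pt N) ≤ G₀
  Q_le : o2 (normalizer (line M i : Set G)) ≤ G₀
  N_R : normalizer (line M i : Set G) ≤ normalizer (G₀ : Set G)

/-- The Sylow hypothesis. -/
theorem _root_.Cfsg.Agent.Omega.IId.FourSide.Ent.sylN (h : Ent K S P M i j N) : SylN (S : Subgroup G) (stab M i) (line M i) where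
  le := stab_le M i
  card := ((h.four.two h.ne).card).le
  max _ hK hTK hKX := h.four.le_T hK hTK hKX

omit [Finite G] in
theorem swap_norm_T {T S' : Subgroup G} (hle : T ≤ S')
    (h2 : ∀ a ∈ S', ∀ b ∈ S', a ∉ T → b ∉ T → a⁻¹ * b ∈ T) {s : G} (hs : s ∈ S') :
    s ∈ normalizer (T : Set G) :=
  mem_normalizer_of_inv (fun _ hb => Two.conj_mem_of_two hle h2 hs hb) fun b hb => by
    have h3 := Two.conj_mem_of_two hle h2 (inv_mem hs) hb
    rwa [inv_inv] at h3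

/-- `s` normalises `T`, `s² ∈ T`. -/
theorem _root_.Cfsg.Agent.Omega.IId.FourSide.Ent.norm_T (h : Ent K S P M i j N) {s : G} (hs : s ∈ (S : Subgroup G)) (hn : s ∉ stab M i) :
    s ∈ normalizer (stab M i : Set G) ∧ s * s ∈ stab M i := by
  have h2 := Two.two_cosets (stab_le M i) (h.four.two h.ne).card
  refine ⟨swap_norm_T (stab_le M i) h2 hs, ?_⟩
  have h3 := h2 s⁻¹ (inv_mem hs) s hs (fun h4 => hn (inv_mem_iff.1 h4)) hn
  rwa [inv_inv] at h3

/-- the point `R = line M i` -/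
theorem _root_.Cfsg.Agent.Omega.IId.FourSide.Ent.exists_pt (h : Ent K S P M i j N) : ∃ k₀, BTwo.pt N k₀ = line M i :=
  ⟨⟨N.line ![1, 0], _, vec_ne, rfl⟩, h.line⟩

/-- `N_G(R)`-invariant subgroups over `W_R` normalised by `L₁` contain `X₁`. -/
theorem _root_.Cfsg.Agent.Omega.IId.FourSide.Ent.gen (h : Ent K S P M i j N) (L : Subgroup G) (hW : BTwo.WW (fac M i) (line M i) ≤ L)
    (hL : grp M {i} ≤ normalizer (L : Set G)) : BTwo.XX (fac M i) (BTwo.pt N) ≤ L := by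
  refine iSup_le fun k => ?_
  obtain ⟨A, hA⟩ := BtsOf.exists_cj N (w₀ := ![1, 0]) vec_ne k
  obtain ⟨g, hg, hgA⟩ := Lns.exists_lift M i A
  have hind : N.Ind g A := by
    intro x
    have hx : N.e x ∈ fac M i := (N.mem_iff _).2 ⟨x, rfl⟩
    have hy : N.e (ap A x) ∈ fac M i := (N.mem_iff _).2 ⟨_, rfl⟩
    refine ext_fac M (Lns.grp_conj_fac hg hx) hy ?_
    rw [hgA _ hx.1, h.e, h.e]
  have h1 := hA g hind
  rw [h.line] at h1
  obtain ⟨k₀, hk₀⟩ := h.exists_pt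
  rw [← hk₀] at h1 hW
  rw [← h.bts.toBT.cj_WW h1]
  rw [BTwo.cj_le_iff]
  exact fun x hx => (mem_normalizer_iff.1 (hL hg) x).1 (hW hx)

/-- `X₁` moves `R`. -/
theorem _root_.Cfsg.Agent.Omega.IId.FourSide.Ent.X_not (h : Ent K S P M i j N) :
    ¬ BTwo.XX (fac M i) (BTwo.pt N) ≤ normalizer (line M i : Set G) := by
  intro h0
  obtain ⟨k₀, hk₀⟩ := h.exists_pt
  obtain ⟨k, hk, -⟩ := h.bts.third k₀ k₀
  obtain ⟨x, hx, h1⟩ := h.bts.toBT.trans_X_one k₀ k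
  rw [hk₀] at h1
  have h2 : cj x (line M i) = line M i := cj_eq_of_mem_normalizer (h0 hx)
  have h3 : BTwo.pt N k = BTwo.pt N k₀ := by
    rw [← h1, hk₀]
    exact h2
  have h4 := h.bts.R_inf k k₀ hk
  rw [h3, inf_idem] at h4
  exact h.bts.R_ne k₀ h4

/-- The vector `v = s r s⁻¹ ∈ V₂` of `EndIn`. -/
theorem _root_.Cfsg.Agent.Omega.IId.FourSide.Ent.vec (h : Ent K S P M i j N) {G₀ : Subgroup G} (c : Chain M i N G₀) {s r : G}
    (hs : s ∈ (S : Subgroup G)) (hn : s ∉ stab M i) (hr : r ∈ line M i) (hrz : r ∈ zc (stab M i)) (hr1 : r ≠ 1) :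
    s * r * s⁻¹ ∈ stab M i ⊓ G₀ ∧ stab M i ⊓ G₀ ≤ centralizer ({s * r * s⁻¹} : Set G) ∧ s * r * s⁻¹ ∉ line M i ∧
      ¬ G₀ ⊓ centralizer ({s * r * s⁻¹} : Set G) ≤ normalizer (line M i : Set G) := by
  have htwo := h.four.two h.ne
  obtain ⟨hsT, -⟩ := h.norm_T hs hn
  have h1 : s * r * s⁻¹ ∈ fac M j := htwo.sw1 s hs hn r (line_le M i hr)
  obtain ⟨h2, h3⟩ := SideOf.other h.four.c2T h.four.par M h.ne h.four.syl
  have h4 : s * r * s⁻¹ ∈ G₀ := c.Q_le (h2 h1)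
  have h5 : s * r * s⁻¹ ≠ 1 := by
    intro h5
    apply hr1
    have e : r = s⁻¹ * (s * r * s⁻¹) * s := by group
    rw [e, h5]; group
  refine ⟨⟨htwo.V2So h1, h4⟩, ?_, ?_, ?_⟩
  · rintro t ⟨ht, -⟩
    rw [mem_centralizer_singleton_iff]
    have h6 : s⁻¹ * t * s ∈ stab M i := by
      have := (mem_normalizer_iff.1 (inv_mem hsT) t).1 ht
      rwa [inv_inv] at this
    have h7 := (mem_zc.1 hrz).2.2 _ h6
    calc t * (s * r * s⁻¹) = s * ((s⁻¹ * t * s) * r) * s⁻¹ := by group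
      _ = s * r * s⁻¹ * t := by rw [h7]; group
  · intro h6
    exact h5 (htwo.inf _ (line_le M i h6) h1)
  · intro h6
    apply h.X_not
    refine le_trans (le_inf c.X_le ?_) h6
    intro x hx
    rw [mem_centralizer_singleton_iff]
    exact mem_centralizer_iff.1 (h.cen h1) x hx

/-- `Q = O₂(N_G(R)) ≤ Q_a`. -/
theorem _root_.Cfsg.Agent.Omega.IId.FourSide.Ent.Q_le (h : Ent K S P M i j N) {Y Ca Qa Ua : Subgroup G} (D : Side (stab M i) Y Ca (line M i) Qa Ua)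
    (hCQ : Ca ≤ normalizer (Qa : Set G)) : o2 (normalizer (line M i : Set G)) ≤ Qa := by
  obtain ⟨z, -, hz, hz1⟩ := h.sylN.exists_z D
  rw [← h.sylN.o2_eq D hCQ h.four.c2T hz hz1]
  refine MinSimple.VModule.le_o2 ?_ (MinSimple.VModule.o2_isPGroup _) ?_
  · refine (SideOf.o2_cent_line h.four.par M h.four.syl).trans (centralizer_le ?_)
    intro w hw
    rw [Set.mem_singleton_iff] at hw
    rw [hw]; exact hz
  · exact (h.sylN.cen_le_X D hCQ h.four.c2T hz hz1).trans (MinSimple.VModule.le_normalizer_o2 _)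

/-- `Sp_{2n}(q)` is impossible. -/
theorem _root_.Cfsg.Agent.Omega.IId.FourSide.Ent.not_sp (h : Ent K S P M i j N) {G₀ Xb Ca Cb Qa Qb Ua : Subgroup G} (c : Chain M i N G₀)
    (k : SpK (stab M i) G₀ (line M i) Xb Ca Cb Qa Qb Ua) : False := by
  obtain ⟨s, hs, hn⟩ := Two.exists_not_mem (stab_le M i) (h.four.two h.ne).card
  obtain ⟨r, hrz, hr, hr1⟩ := h.sylN.exists_z k.side_a
  obtain ⟨h1, h2, h3, h4⟩ := h.vec c hs hn hr hrz hr1
  have h5 := mem_other k.zU k.mix h1 h2 h3 h4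
  exact swap_false h.sylN k.side_a k.C_Qa h.four.c2T (h.norm_T hs hn).1 hr hr1 h5 k.C_X k.T_C k.Q_max k.fld k.abel

/-- **`F₄(q)`**: `s` normalises `G₀` and swaps the two sides. -/
theorem _root_.Cfsg.Agent.Omega.IId.FourSide.Ent.graph (h : Ent K S P M i j N) {G₀ Xb Ca Cb Qa Qb Ua Ub : Subgroup G} (c : Chain M i N G₀)
    (k : FK (stab M i) G₀ (line M i) Xb Ca Cb Qa Qb Ua Ub) {s : G} (hs : s ∈ (S : Subgroup G))
    (hn : s ∉ stab M i) :
    s ∈ normalizer (G₀ : Set G) ∧ cj s (line M i) = Xb ∧ cj s Xb = line M i ∧ cj s Qa = Qb ∧ cj s Qb = Qa ∧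
      cj s Ua = Ub ∧ cj s Ub = Ua ∧ cj s Ca = Cb ∧ cj s Cb = Ca := by
  obtain ⟨hsT, hs2⟩ := h.norm_T hs hn
  obtain ⟨r, hrz, hr, hr1⟩ := h.sylN.exists_z k.side_a
  obtain ⟨h1, h2, h3, h4⟩ := h.vec c hs hn hr hrz hr1
  have h5 := mem_other k.zU k.mix h1 h2 h3 h4
  have hG := h.four.c2T
  have hsG : s ∈ normalizer (G₀ : Set G) := by
    refine swap_mem h.sylN k.side_a k.C_Qa hG hsT hr hr1 h5 k.side_b c.simple c.N_R k.max_b
      (by rw [k.Ca_eq]; exact inf_le_left) (by rw [k.Cb_eq]; exact inf_le_left) c.X_le h.X_not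
      (W := BTwo.WW (fac M i) (line M i)) (L₁ := grp M {i}) (fun L hW hL => h.gen L hW hL) ?_ ?_
    · obtain ⟨k₀, hk₀⟩ := h.exists_pt
      have h6 := h.bts.toBT.W_le_Q k₀
      rw [hk₀] at h6
      exact h6.trans (h.Q_le k.side_a k.C_Qa)
    · -- `L₂ ≤ C_G(V₁) ≤ N_G(R)`
      refine le_trans ?_ c.N_R
      intro x hx
      rw [mem_cj] at hx
      have h7 : x ∈ centralizer (line M i : Set G) := by
        rw [mem_centralizer_iff]
        intro v hv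
        have h8 : s⁻¹ * v * s ∈ fac M j := by
          have := (h.four.two h.ne).sw1 s⁻¹ (inv_mem hs) (fun h9 => hn (inv_mem_iff.1 h9)) v (line_le M i hv)
          rwa [inv_inv] at this
        have h9 := (h.four.two h.ne).L12 _ hx _ h8
        calc v * x = s * ((s⁻¹ * v * s) * (s⁻¹ * x * s)) * s⁻¹ := by group
          _ = s * ((s⁻¹ * x * s) * (s⁻¹ * v * s)) * s⁻¹ := by rw [h9]
          _ = x * v := by group
      exact centralizer_le_normalizer _ h7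
  refine ⟨hsG, ?_, ?_, ?_, ?_, ?_, ?_, ?_, ?_⟩
  · exact swap_X h.sylN k.side_a k.C_Qa hG hsT hr hr1 h5 k.side_b
  · exact swap_X' h.sylN k.side_a k.C_Qa hG hsT hr hr1 h5 k.side_b hs2
  · exact swap_eq h.sylN k.side_a k.C_Qa hG hsT hr hr1 h5 k.side_b
  · exact swap_Q' h.sylN k.side_a k.C_Qa hG hsT hr hr1 h5 k.side_b hs2
  · exact swap_U h.sylN k.side_a k.C_Qa hG hsT hr hr1 h5 k.side_b
  · exact swap_U' h.sylN k.side_a k.C_Qa hG hsT hr hr1 h5 k.side_b hs2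
  · exact swap_C h.sylN k.side_a k.C_Qa hG hsT hr hr1 h5 k.side_b k.Ca_eq k.Cb_eq hsG
  · exact swap_C' h.sylN k.side_a k.C_Qa hG hsT hr hr1 h5 k.side_b hs2 k.Ca_eq k.Cb_eq hsG

end chain

end Cfsg.Agent.Omega.IId.M4

end

section


/-!
# `BigU4` (`q ≥ 4`, the 2-group `T₁ ≥ T` not Sylow in `G`): the interfaces

* `SylM T X` : `T` is a 2-group, maximal among the 2-subgroups of `N_G(X)` over `T` (no condition on the index in a
  Sylow 2-subgroup of `G`); `OverT.sylM`;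
* `TypU T G₀ Xa Ua` : every element of `U_a` outside `X_a` is conjugate into `Ω₁(Z(T))` in `N(G₀) ∩ N(X_a)`;
* `IdU` : the identification (`IdT`) with the K-fact `TypU`;
* `NmBig` : LEMMA NORM for an unmixed factor, `q ≥ 4`, any number of factors, no Sylow hypothesis.
-/

set_option autoImplicit false
set_option linter.unusedSectionVars false

namespace Cfsg.Agent.Omega.IId.Cv

open Subgroup Pointwise Cfsg Cfsg.Agent.ZN Cfsg.Agent.ZN.ChoiceBase
open Cfsg.Agent.Omega.MinPar Cfsg.Agent.Omega.Frame Cfsg.Agent.Omega.FFThm Cfsg.Agent.Omega.FrameMulti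
open Cfsg.Agent.Omega.FrameFF (cv Free)
open Cfsg.Agent.Omega.HOneEnd (EndIn)
open Cfsg.Agent.Omega.IId.M4 (FK SpK)
open Cfsg.Agent.Omega.IId.NV
open Cfsg.Agent.MinSimple

universe u

/-- `T` is a 2-group, maximal among the 2-subgroups of `N_G(X)` over `T`. -/
structure SylM {G : Type u} [Group G] (T X : Subgroup G) : Prop where
  two : IsPGroup 2 T
  max : ∀ K : Subgroup G, IsPGroup 2 K → T ≤ K → K ≤ normalizer (X : Set G) → K ≤ T

/-- Every element of `U_a` outside `X_a` is conjugate into `Ω₁(Z(T))` in `N(G₀) ∩ N(X_a)`. -/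
def TypU {G : Type u} [Group G] [Finite G] (T G₀ Xa Ua : Subgroup G) : Prop :=
  ∀ u ∈ Ua, u ∉ Xa → ∃ y ∈ normalizer (G₀ : Set G), y ∈ normalizer (Xa : Set G) ∧ y * u * y⁻¹ ∈ zc T

/-- **THEOREM ID with the K-facts over `T`, with `TypU`.** -/
def IdU : Prop :=
  ∀ (G : Type u) [Group G] [Finite G], IsCharacteristicTwoType G → ∀ (T G₀ U R : Subgroup G) (v : G),
    EndIn T G₀ U R v → 4 ≤ Nat.card R →
      (∃ Xb Ca Cb Qa Qb Ua : Subgroup G, SpK T G₀ R Xb Ca Cb Qa Qb Ua ∧ TypU T G₀ R Ua) ∨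
        ∃ Xb Ca Cb Qa Qb Ua Ub : Subgroup G, FK T G₀ R Xb Ca Cb Qa Qb Ua Ub ∧ TypU T G₀ R Ua

/-- LEMMA NORM for an unmixed factor, `q ≥ 4`. -/
def NmBig : Prop :=
  ∀ (G : Type u) [Group G] [Finite G] (S : Sylow 2 G) (P : Subgroup G) (F : Type) [Field F] [Finite F] [CharP F 2]
    (V D : Subgroup G) (k : ℕ) (M : NatD F S P V D k), (∀ l, QL M l ≤ (S : Subgroup G)) →
      ∀ i, UnM M i → 4 ≤ Nat.card F → ∀ g ∈ normalizer (NV.fac M.toNatV i : Set G), (pre M.toNatV i).Nm g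

section

variable {G : Type u} [Group G] [Finite G] {F : Type} [Field F] [Finite F] [CharP F 2] {S : Sylow 2 G}
  {P V D : Subgroup G} {k : ℕ} {M : NatD F S P V D k} {i : Fin k} {T₁ : Subgroup G}

theorem OverT.sylM (h : OverT M i T₁) : SylM T₁ (NV.line M.toNatV i) where
  two := h.two
  max K hK hTK hKX := by
    have : Fact (Nat.Prime 2) := ⟨Nat.prime_two⟩
    have h1 : ¬ 2 ∣ T₁.relIndex K := fun h2 => h.syl (h2.trans
      ⟨_, (Subgroup.relIndex_mul_relIndex T₁ K _ hTK hKX).symm⟩)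
    have h3 : T₁.relIndex K ≠ 0 := (T₁.subgroupOf K).index_ne_zero_of_finite
    have : (T₁.subgroupOf K).FiniteIndex := ⟨h3⟩
    obtain ⟨m, hm⟩ := hK.index (T₁.subgroupOf K)
    have h4 : T₁.relIndex K = 2 ^ m := hm
    rcases m with _ | m
    · exact Subgroup.relIndex_eq_one.1 h4
    · exact absurd (h4 ▸ dvd_pow_self 2 (Nat.succ_ne_zero m)) h1

end

end Cfsg.Agent.Omega.IId.Cv

end

section


/-!
# `BigU4` (T1): `M4/SideA` + `M4/Swap` for a 2-group `T` which is Sylow in `N_G(X)` (no condition on `|S : T|`)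

`D : Side T Y C X Q U`, `C ≤ N_G(Q)`, `N : SylM T X` (`T` is a 2-group, maximal among the 2-subgroups of `N_G(X)` over
`T`).

* `SylM.o2_eq_zc` : `O₂(C_G(z)) = Q` for `1 ≠ z ∈ X` centralised by `T`: with `O₀ = O ∩ N(X) = O ∩ T ≤ Q` an element
  `w ∈ N_O(O₀) ∖ O₀` with `[w, Q] ≤ O₀ ≤ Q` normalises `Q`, hence `X`;
* `SylM.o2_eq` : `O₂(C_G(x)) = Q` for `1 ≠ x ∈ X`; `SylM.cen_le`, `SylM.cen_le_X` : `C_G(x) ≤ N_G(Q) ≤ N_G(X)`;
* `SylM.swap_norm`, `SylM.swap_le`, `SylM.swap_false`, `SylM.swap_eq`, `SylM.swap_X`, `SylM.swap_mem`, `SylM.T_Q`,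
  `SylM.swap_U` : section 6 (`s ∈ N_G(T)`, `r^s ∈ X_b`), same arguments as in `M4/Swap`.
-/

set_option autoImplicit false
set_option linter.unusedSectionVars false

namespace Cfsg.Agent.Omega.IId.Cv

open Subgroup Cfsg Cfsg.Agent.Omega.MinPar Cfsg.Agent.Omega.Frame
open Cfsg.Agent.ZN (o2 zc)
open Cfsg.Agent.ZN.ChoiceBase (cj mem_cj card_cj cj_mono cj_le_iff cj_normalizer cj_cj_inv cj_inv_cj
  cj_eq_of_mem_normalizer mem_normalizer_iff_cj)
open Cfsg.Agent.Omega.All Cfsg.Agent.Omega.All.HOne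
open Cfsg.Agent.MinSimple.VModule (le_o2 mem_zc zc_le zc_comm o2_le o2_isPGroup le_normalizer_o2)
open Cfsg.Agent.MinSimple.Basic (char2_centralizer)
open Cfsg.Agent.Omega.IId.M4 (le_of_fld cj_X conj_mem_cen)

universe u

variable {G : Type u} [Group G]

namespace SylM

section side

variable [Finite G] {T Y C X Q U : Subgroup G} (N : SylM T X) (D : Side T Y C X Q U)
  (hCQ : C ≤ normalizer (Q : Set G))

include N D

/-- an element `≠ 1` of `X` centralised by `T` -/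
theorem exists_z : ∃ z ∈ zc T, z ∈ X ∧ z ≠ 1 := by
  have hf : Fact (Nat.Prime 2) := ⟨Nat.prime_two⟩
  refine exists_zc_mem N.two D.X_S D.S_X (fun x hx => ?_) D.X_ne
  have h1 := D.X_el.2 x hx
  rwa [pow_two] at h1

omit [Finite G] D in
/-- A 2-group `O` normalised by `T ≤ N(X)`: `O ∩ N(X) = O ∩ T`. -/
theorem inf_eq (hTX : T ≤ normalizer (X : Set G)) {O : Subgroup G} (hO : IsPGroup 2 O)
    (hTO : T ≤ normalizer (O : Set G)) : O ⊓ normalizer (X : Set G) = O ⊓ T := by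
  apply le_antisymm
  · have h3 : IsPGroup 2 ↥(O ⊓ normalizer (X : Set G) ⊔ T) :=
      (hO.to_le inf_le_left).to_sup_of_normal_left' N.two
        (normalizer_inf_le hTO (hTX.trans le_normalizer))
    exact le_inf inf_le_left (le_sup_left.trans (N.max _ h3 le_sup_right (sup_le inf_le_right hTX)))
  · exact inf_le_inf le_rfl hTX

/-- A 2-group `O` normalised by `T` and `C` lies in `Q`. -/
theorem le_Q {O : Subgroup G} (hO : IsPGroup 2 O) (hTO : T ≤ normalizer (O : Set G))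
    (hCO : C ≤ normalizer (O : Set G)) : O ≤ Q := by
  have hCX : C ≤ normalizer (X : Set G) := D.C_X.trans (centralizer_le_normalizer _)
  have h2 := N.inf_eq D.S_X hO hTO
  have h3 : C ≤ normalizer ((O ⊓ T : Subgroup G) : Set G) := by
    rw [← h2]
    exact normalizer_inf_le hCO (hCX.trans le_normalizer)
  have h4 : O ⊓ T ≤ Q := le_of_fld N.two D.S_C D.Q_max D.fld inf_le_right h3
  by_cases h5 : O ≤ T
  · rwa [inf_of_le_left h5] at h4
  exfalso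
  have hlt : O ⊓ T < O := lt_of_le_of_ne inf_le_left fun h => h5 (inf_eq_left.1 h)
  have hf : Fact (Nat.Prime 2) := ⟨Nat.prime_two⟩
  have hlt' := Lib.GoldschmidtFusion.lt_inf_normalizer hO hlt
  set M := O ⊓ T with hM
  set R := O ⊓ normalizer (M : Set G) with hR
  have hQR : Q ≤ normalizer (R : Set G) := (D.Q_C.trans (normalizer_inf_le hCO (h3.trans le_normalizer)))
  have hR2 : IsPGroup 2 R := hO.to_le inf_le_left
  have hS2 : IsPGroup 2 ↥(R ⊔ Q) := hR2.to_sup_of_normal_left' (N.two.to_le D.Q_S) hQR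
  obtain ⟨w, hw, hwM, hws⟩ := NLFree.exists_fix_mod (S := R ⊔ Q) (M := M) (Q := R) hS2
    (hlt'.le.trans le_sup_left) le_sup_left (sup_le inf_le_right (D.Q_C.trans h3))
    (sup_le le_normalizer hQR) (fun h => absurd hlt' (not_lt_of_ge h))
  -- `w` normalises `Q`
  have h6 : w ∈ normalizer (Q : Set G) := by
    have key : ∀ q ∈ Q, w * q * w⁻¹ ∈ Q := by
      intro q hq
      have h7 := h4 (hws q⁻¹ (mem_sup_right (inv_mem hq)))
      have e2 : q * (q⁻¹ * w * q⁻¹⁻¹ * w⁻¹) = w * q * w⁻¹ := by group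
      rw [← e2]
      exact mul_mem hq h7
    have key2 : cj w Q ≤ Q := by
      rintro _ ⟨q, hq, rfl⟩
      exact key q hq
    rw [mem_normalizer_iff_cj]
    exact (eq_of_le_of_card_ge key2 (card_cj w Q).ge)
  exact hwM (h2 ▸ mem_inf.2 ⟨hw.1, D.norm_Q_le h6⟩)

include hCQ

/-- **(A)** for an element centralised by `T`. -/
theorem o2_eq_zc (hc : IsCharacteristicTwoType G) {z : G} (hz : ∀ t ∈ T, t * z = z * t) (hX : z ∈ X)
    (h1 : z ≠ 1) : o2 (centralizer ({z} : Set G)) = Q := by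
  have hHO := le_normalizer_o2 (centralizer ({z} : Set G))
  have hTH : T ≤ centralizer ({z} : Set G) := fun t ht => mem_centralizer_singleton_iff.2 (hz t ht)
  have hC : C ≤ centralizer ({z} : Set G) := D.C_X.trans (centralizer_le (by
    intro w hw
    rw [Set.mem_singleton_iff] at hw
    rw [hw]; exact hX))
  have h7 := N.le_Q D (o2_isPGroup _) (hTH.trans hHO) (hC.trans hHO)
  refine D.irr _ h7 (hC.trans hHO) ?_
  exact le_trans (inf_le_inf (D.Q_C.trans hC) le_rfl) (char2_centralizer hc (by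
    have := D.X_el.2 z hX
    rwa [pow_two] at this ⊢) h1)

/-- **(A)**: `O₂(C_G(x)) = Q` for `1 ≠ x ∈ X`. -/
theorem o2_eq (hc : IsCharacteristicTwoType G) {x : G} (hx : x ∈ X) (h1 : x ≠ 1) :
    o2 (centralizer ({x} : Set G)) = Q := by
  obtain ⟨z, hz, hX, hz1⟩ := N.exists_z D
  obtain ⟨y, hy, h2, h3, h4⟩ := D.trans x hx z hX h1 hz1
  have h7 := N.o2_eq_zc D hCQ hc (fun t ht => (mem_zc.1 hz).2.1 t ht) hX hz1
  rw [← h4] at h7
  have key : ∀ (a g : G), (o2 (centralizer ({a} : Set G))).map (MulAut.conj g).toMonoidHom ≤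
      o2 (centralizer ({g * a * g⁻¹} : Set G)) := by
    intro a g
    refine le_o2 ?_ ((o2_isPGroup _).map _) ?_
    · rintro _ ⟨w, hw, rfl⟩
      exact normalizer_centralizer_singleton w (o2_le _ hw)
    · refine le_normalizer_of fun l hl w hw => ?_
      obtain ⟨v, hv, rfl⟩ := hw
      have h8 : g⁻¹ * l * g ∈ centralizer ({a} : Set G) := by
        have := normalizer_centralizer_singleton (g := g⁻¹) l hl
        have e : g⁻¹ * (g * a * g⁻¹) * g⁻¹⁻¹ = a := by group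
        rwa [e, inv_inv] at this
      refine ⟨_, conj_mem_of_normalizer (le_normalizer_o2 _ h8) hv, ?_⟩
      show g * ((g⁻¹ * l * g) * v * (g⁻¹ * l * g)⁻¹) * g⁻¹ = l * (g * v * g⁻¹) * l⁻¹
      group
  apply le_antisymm
  · intro w hw
    have h8 := key x y ⟨w, hw, rfl⟩
    rw [h7] at h8
    have h9 := conj_mem_of_normalizer' h3 h8
    have e : y⁻¹ * ((MulAut.conj y).toMonoidHom w) * y = w := by
      show y⁻¹ * (y * w * y⁻¹) * y = w
      group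
    rwa [e] at h9
  · intro w hw
    have h8 := conj_mem_of_normalizer h3 hw
    rw [← h7] at h8
    have h9 := key (y * x * y⁻¹) y⁻¹ ⟨_, h8, rfl⟩
    have e : y⁻¹ * (y * x * y⁻¹) * y⁻¹⁻¹ = x := by group
    rw [e] at h9
    have e2 : (MulAut.conj y⁻¹).toMonoidHom (y * w * y⁻¹) = w := by
      show y⁻¹ * (y * w * y⁻¹) * y⁻¹⁻¹ = w
      group
    rwa [e2] at h9

/-- **(A)**: `C_G(x) ≤ N_G(Q)` for `1 ≠ x ∈ X`. -/
theorem cen_le (hc : IsCharacteristicTwoType G) {x : G} (hx : x ∈ X) (h1 : x ≠ 1) :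
    centralizer ({x} : Set G) ≤ normalizer (Q : Set G) := by
  rw [← N.o2_eq D hCQ hc hx h1]
  exact le_normalizer_o2 _

/-- **(A)**: `C_G(x) ≤ N_G(X)` for `1 ≠ x ∈ X`. -/
theorem cen_le_X (hc : IsCharacteristicTwoType G) {x : G} (hx : x ∈ X) (h1 : x ≠ 1) :
    centralizer ({x} : Set G) ≤ normalizer (X : Set G) := (N.cen_le D hCQ hc hx h1).trans D.norm_Q_le

end side

section swap

variable [Finite G] {T Y Ca Xa Qa Ua : Subgroup G} (N : SylM T Xa)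
  (D : Side T Y Ca Xa Qa Ua) (hCQ : Ca ≤ normalizer (Qa : Set G)) (hG : IsCharacteristicTwoType G)
  {s r : G} (hs : s ∈ normalizer (T : Set G)) (hr : r ∈ Xa) (hr1 : r ≠ 1) {Cb Xb Qb : Subgroup G}
  (hrb : s * r * s⁻¹ ∈ Xb) (hCX : Cb ≤ centralizer (Xb : Set G))

include N D hCQ hG hr hr1 hrb hCX in
/-- `C_b` normalises `Q_a^s` -/
theorem swap_norm : Cb ≤ normalizer ((cj s Qa : Subgroup G) : Set G) := by
  refine le_normalizer_of fun c hc x hx => ?_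
  rw [mem_cj] at hx ⊢
  have h1 := N.cen_le D hCQ hG hr hr1 (conj_mem_cen hrb hCX hc)
  have h2 := conj_mem_of_normalizer h1 hx
  have e : s⁻¹ * c * s * (s⁻¹ * x * s) * (s⁻¹ * c * s)⁻¹ = s⁻¹ * (c * x * c⁻¹) * s := by group
  rwa [e] at h2

include N D hCQ hG hs hr hr1 hrb hCX in
/-- **(2)** `Q_a^s ≤ Q_b` -/
theorem swap_le (hTC : T ≤ normalizer (Cb : Set G))
    (hmax : ∀ K : Subgroup G, IsPGroup 2 K → K ≤ Cb → Cb ≤ normalizer (K : Set G) → K ≤ Qb)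
    (hfld : ∀ t ∈ T, (∀ c ∈ Cb, t * c * t⁻¹ * c⁻¹ ∈ Qb) → t ∈ Qb) : cj s Qa ≤ Qb := by
  refine le_of_fld N.two hTC hmax hfld ?_ (swap_norm N D hCQ hG hr hr1 hrb hCX)
  have h1 := cj_mono s D.Q_S
  rwa [cj_eq_of_mem_normalizer hs] at h1

include N D hCQ hG hs hr hr1 hrb hCX in
/-- `Q_b` is not abelian: the end for `Sp_{2n}(q)`. -/
theorem swap_false (hTC : T ≤ normalizer (Cb : Set G))
    (hmax : ∀ K : Subgroup G, IsPGroup 2 K → K ≤ Cb → Cb ≤ normalizer (K : Set G) → K ≤ Qb)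
    (hfld : ∀ t ∈ T, (∀ c ∈ Cb, t * c * t⁻¹ * c⁻¹ ∈ Qb) → t ∈ Qb)
    (hab : Qb ≤ centralizer (Qb : Set G)) : False := by
  have h1 := swap_le N D hCQ hG hs hr hr1 hrb hCX hTC hmax hfld
  have h2 : cj s Xa = ⊥ := by
    rw [cj_X D s, commutator_eq_bot_iff_le_centralizer]
    exact h1.trans (hab.trans (centralizer_le h1))
  apply D.X_ne
  rw [← cj_inv_cj s Xa, h2]
  exact Subgroup.map_bot _

variable {Ub : Subgroup G} (Db : Side T Y Cb Xb Qb Ub)

include N D hCQ hG hs hr hr1 hrb Db in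
/-- **(3)** `Q_a^s = Q_b` -/
theorem swap_eq : cj s Qa = Qb := by
  have h1 := swap_le N D hCQ hG hs hr hr1 hrb Db.C_X Db.S_C Db.Q_max Db.fld
  refine Db.irr _ h1 (swap_norm N D hCQ hG hr hr1 hrb Db.C_X) ?_
  rintro x ⟨hx, hx1⟩
  rw [mem_cj]
  have h2 := conj_mem_cen hrb Db.C_X (Db.Q_C hx)
  have h3 := char2_centralizer hG (by
    have := D.X_el.2 r hr
    rwa [pow_two] at this ⊢) hr1
  rw [N.o2_eq D hCQ hG hr hr1] at h3
  refine h3 ⟨h2, mem_centralizer_iff.2 fun y hy => ?_⟩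
  have h4 := mem_centralizer_iff.1 hx1 (s * y * s⁻¹) (by
    rw [SetLike.mem_coe, mem_cj]
    have e : s⁻¹ * (s * y * s⁻¹) * s = y := by group
    rw [e]; exact hy)
  calc y * (s⁻¹ * x * s) = s⁻¹ * (s * y * s⁻¹ * x) * s := by group
    _ = s⁻¹ * x * s * y := by rw [h4]; group

include N D hCQ hG hs hr hr1 hrb Db in
/-- **(3)** `X_a^s = X_b` -/
theorem swap_X : cj s Xa = Xb := by
  rw [cj_X D s, swap_eq N D hCQ hG hs hr hr1 hrb Db, Db.comm]

include N D hCQ hG hs hr hr1 hrb Db in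
/-- **(4)** `s ∈ N_G(G₀)` -/
theorem swap_mem {G₀ W X₁ L₁ : Subgroup G} (hsimple : IsSimpleGroup ↥G₀)
    (hN : normalizer (Xa : Set G) ≤ normalizer (G₀ : Set G))
    (hmax : ∀ M ≤ G₀, G₀ ⊓ normalizer (Xb : Set G) < M → M = G₀) (hCa : Ca ≤ G₀) (hCb : Cb ≤ G₀)
    (hX₁ : X₁ ≤ G₀) (hX₁n : ¬ X₁ ≤ normalizer (Xa : Set G))
    (hgen : ∀ K : Subgroup G, W ≤ K → L₁ ≤ normalizer (K : Set G) → X₁ ≤ K) (hW : W ≤ Qa)
    (hL : cj s L₁ ≤ normalizer (G₀ : Set G)) : s ∈ normalizer (G₀ : Set G) := by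
  have hQ := swap_eq N D hCQ hG hs hr hr1 hrb Db
  have hX := swap_X N D hCQ hG hs hr hr1 hrb Db
  -- `X₁^s ≤ G₀`
  have h1 : cj s X₁ ≤ G₀ := by
    rw [cj_le_iff]
    refine hgen _ ?_ ?_
    · rw [← cj_le_iff]
      refine (cj_mono s hW).trans ?_
      rw [hQ]
      exact Db.Q_C.trans hCb
    · rw [← cj_normalizer, ← cj_le_iff]
      exact hL
  -- `G₀ ≤ N_G(G₀^s)`
  have h2 : G₀ ⊓ normalizer ((cj s G₀ : Subgroup G) : Set G) = G₀ := by
    refine hmax _ inf_le_left (lt_of_le_of_ne ?_ ?_)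
    · refine le_inf inf_le_left (inf_le_right.trans ?_)
      rw [← hX, ← cj_normalizer, ← cj_normalizer]
      exact cj_mono s hN
    · intro h3
      apply hX₁n
      have h4 : cj s X₁ ≤ normalizer (Xb : Set G) := by
        have h5 : cj s X₁ ≤ G₀ ⊓ normalizer ((cj s G₀ : Subgroup G) : Set G) :=
          le_inf h1 ((cj_mono s hX₁).trans le_normalizer)
        rw [← h3] at h5
        exact h5.trans inf_le_right
      rw [← hX, ← cj_normalizer] at h4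
      have h5 := cj_mono s⁻¹ h4
      rwa [cj_inv_cj, cj_inv_cj] at h5
  have h3 : G₀ ≤ normalizer ((cj s G₀ : Subgroup G) : Set G) := by
    conv_lhs => rw [← h2]
    exact inf_le_right
  -- `G₀ ∩ G₀^s` is normal in `G₀`
  have h4 : ((cj s G₀).subgroupOf G₀).Normal := by
    constructor
    intro x hx g
    rw [mem_subgroupOf] at hx ⊢
    exact conj_mem_of_normalizer (h3 g.2) hx
  have h5 : G₀ ≤ cj s G₀ := by
    rcases hsimple.eq_bot_or_eq_top_of_normal _ h4 with h6 | h6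
    · exfalso
      obtain ⟨z, -, hzX, hz1⟩ := N.exists_z D
      apply hz1
      have hzQ : s * z * s⁻¹ ∈ cj s Qa := by
        rw [mem_cj]
        have e : s⁻¹ * (s * z * s⁻¹) * s = z := by group
        rw [e]
        exact D.X_Q hzX
      have hz2 : s * z * s⁻¹ ∈ G₀ := by
        rw [hQ] at hzQ
        exact hCb (Db.Q_C hzQ)
      have hz3 : s * z * s⁻¹ ∈ cj s G₀ := cj_mono s (D.Q_C.trans hCa) hzQ
      have h7 : (⟨s * z * s⁻¹, hz2⟩ : G₀) ∈ (cj s G₀).subgroupOf G₀ := mem_subgroupOf.2 hz3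
      rw [h6, mem_bot] at h7
      have h8 : s * z * s⁻¹ = 1 := congrArg Subtype.val h7
      have h9 : z = s⁻¹ * (s * z * s⁻¹) * s := by group
      rw [h9, h8]; group
    · exact subgroupOf_eq_top.1 h6
  rw [mem_normalizer_iff_cj]
  exact (eq_of_le_of_card_ge h5 (card_cj s G₀).le).symm

include N D hCQ hG hs hr hr1 hrb Db in
theorem swap_U : cj s Ua = Ub := by
  rw [D.U_eq, Db.U_eq, ZN.ChoiceBase.cj_inf, ZN.ChoiceBase.cj_centralizer, swap_eq N D hCQ hG hs hr hr1 hrb Db]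

include N D hCQ hG hs hr hr1 hrb Db in
/-- `X_b^s = X_a` -/
theorem swap_X' (hs2 : s * s ∈ T) : cj s Xb = Xa := by
  rw [← swap_X N D hCQ hG hs hr hr1 hrb Db, ZN.ChoiceBase.cj_cj]
  exact cj_eq_of_mem_normalizer (D.S_X hs2)

include N D hCQ hG in
/-- `T ≤ N_G(Q_a)` -/
theorem T_Q : T ≤ normalizer (Qa : Set G) := by
  obtain ⟨z, hz, hX, h1⟩ := N.exists_z D
  refine le_trans (fun t ht => ?_) (N.cen_le D hCQ hG hX h1)
  exact mem_centralizer_singleton_iff.2 ((mem_zc.1 hz).2.1 t ht)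

include N D hCQ hG hs hr hr1 hrb Db in
/-- `Q_b^s = Q_a` -/
theorem swap_Q' (hs2 : s * s ∈ T) : cj s Qb = Qa := by
  rw [← swap_eq N D hCQ hG hs hr hr1 hrb Db, ZN.ChoiceBase.cj_cj]
  exact cj_eq_of_mem_normalizer (T_Q N D hCQ hG hs2)

include N D hCQ hG hs hr hr1 hrb Db in
theorem swap_U' (hs2 : s * s ∈ T) : cj s Ub = Ua := by
  rw [D.U_eq, Db.U_eq, ZN.ChoiceBase.cj_inf, ZN.ChoiceBase.cj_centralizer, swap_Q' N D hCQ hG hs hr hr1 hrb Db hs2]

include N D hCQ hG hs hr hr1 hrb Db in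
/-- `C_a^s = C_b` -/
theorem swap_C {G₀ : Subgroup G} (hCa : Ca = G₀ ⊓ centralizer (Xa : Set G))
    (hCb : Cb = G₀ ⊓ centralizer (Xb : Set G)) (hsG : s ∈ normalizer (G₀ : Set G)) : cj s Ca = Cb := by
  rw [hCa, hCb, ZN.ChoiceBase.cj_inf, ZN.ChoiceBase.cj_centralizer, swap_X N D hCQ hG hs hr hr1 hrb Db,
    cj_eq_of_mem_normalizer hsG]

include N D hCQ hG hs hr hr1 hrb Db in
/-- `C_b^s = C_a` -/
theorem swap_C' (hs2 : s * s ∈ T) {G₀ : Subgroup G} (hCa : Ca = G₀ ⊓ centralizer (Xa : Set G))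
    (hCb : Cb = G₀ ⊓ centralizer (Xb : Set G)) (hsG : s ∈ normalizer (G₀ : Set G)) : cj s Cb = Ca := by
  rw [hCa, hCb, ZN.ChoiceBase.cj_inf, ZN.ChoiceBase.cj_centralizer, swap_X' N D hCQ hG hs hr hr1 hrb Db hs2,
    cj_eq_of_mem_normalizer hsG]

end swap

end SylM

end Cfsg.Agent.Omega.IId.Cv

end
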