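import Cfsg.Agent.Mrg.Omega.HOneEnd.SpIota
import Cfsg.Agent.Omega.HOneEnd.EndIn
import Cfsg.Agent.Mrg.Omega.HOneEnd.TTwoE
import Cfsg.Agent.Mrg.Omega.All.SpN.Long
import Cfsg.Agent.Mrg.Omega.IId.M4.Graph
import Cfsg.Agent.Mrg.Omega.All.HOneNat
import Cfsg.Agent.Mrg.Omega.HOneEnd.ThmId
import Cfsg.Agent.Mrg.Omega.HOneEnd.FFourFK
import Cfsg.Agent.Mrg.Omega.HOneEnd.FFourGEmb

section


/-!
# WrMain4: the K-facts `SpK` for `G₀ ≅ Sp_2n(q)`, `q` even, `n ≥ 3`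

* `spK` : `SpK` over `Hyp0 ι T`;
* `exists_hyp0` : the standard position of `T`, `T ∩ G₀` Sylow in `G₀`;
* `exists_spK` : `SpK` for `φ : G₀ ≃* PSp n F`, `R` a short root group;
* `spK_of_endIn` : the same over the interface `EndIn`.
-/

set_option autoImplicit false
set_option linter.unusedSectionVars false

namespace Cfsg.Agent.Omega.IId.M4

open Cfsg Cfsg.Agent.ClassicalGeometry.SympBasic Cfsg.Agent.ClassicalGeometry.SympAutSemi
open Cfsg.Agent.OddHalf.SpN Cfsg.Agent.OddHalf.SpN.Out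
open Subgroup Cfsg.Agent.ZN
open Cfsg.Agent.Nodes.TypeC Cfsg.Agent.TitsThree Cfsg.Agent.TitsThree.Siegel
open Cfsg.Agent.KFacts.SysSp (eSp)
open Cfsg.Agent.Omega.All.SpN (Hyp0 C0 D0 QS US UL i0 i1)
open Cfsg.Agent.Omega.HOneEnd.SpIota (iota iota_inj iota_range mem_X12_of_alt alt_sx eSp_eq cv dj_cv)
open Cfsg.Agent.Omega.HOneEnd (EndIn)

variable {n : ℕ} {F : Type*} [Field F] [Finite F] [CharP F 2]

theorem spK {G : Type*} [Group G] [Finite G] {ι : Sy n F →* G} {T : Subgroup G} (H : Hyp0 ι T) (hn : 3 ≤ n) :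
    SpK T ι.range ((X12 hn).map ι) ((Y1 hn).map ι) ((C0 hn).map ι) ((D0 hn).map ι) ((QS (i0 hn) (i1 hn)).map ι)
      ((UL (i0 hn)).map ι) ((US (i0 hn) (i1 hn)).map ι) where
  side_a := H.side hn
  C_Qa := H.C_Q hn
  zU _ hz hc := H.zU hn hz hc
  mix _ hx _ hy hx1 _ := H.mix hn hx hy hx1
  T_C := H.S_D hn
  C_X := by rw [H.D_eq hn]; exact inf_le_right
  Q_max := H.L_max hn
  fld _ ht hc := H.L_fld hn ht hc
  abel := Hyp0.L_abel hn

theorem card_X12 {G : Type*} [Group G] [Finite G] {ι : Sy n F →* G} (hι : Function.Injective ι) (hn : 3 ≤ n) :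
    Nat.card F ≤ Nat.card ↥((X12 hn).map ι) := by
  apply Nat.card_le_card_of_injective (fun t : F => (⟨ι (zz hn t 0), ⟨_, ⟨t, rfl⟩, rfl⟩⟩ : ↥((X12 hn).map ι)))
  intro t t' h
  exact (zz_inj hn (hι (congrArg Subtype.val h))).1

/-- `|U_a| ≤ q³` -/
theorem card_US {G : Type*} [Group G] (ι : Sy n F →* G) (hn : 3 ≤ n) :
    Nat.card ↥((US (i0 hn) (i1 hn)).map ι) ≤ Nat.card F ^ 3 := by
  have h1 : Nat.card (F × F × F) = Nat.card F ^ 3 := by
    rw [Nat.card_prod, Nat.card_prod]; ring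
  have h2 : ∀ a b c : F, sx (i0 hn) (i1 hn) c * Cfsg.Agent.OddHalf.SpN.sy (i0 hn) a *
      Cfsg.Agent.OddHalf.SpN.sy (i1 hn) b ∈ US (i0 hn) (i1 hn) := by
    intro a b c
    refine mul_mem (mul_mem ?_ ?_) ?_
    · exact Cfsg.Agent.Omega.All.SpN.sx_mem_US (Cfsg.Agent.Omega.All.SpN.d01 hn) _
    · exact Cfsg.Agent.Omega.All.SpN.sy_mem_US _
    · exact Cfsg.Agent.Omega.All.SpN.sy_mem_US' _
  rw [← h1]
  apply Nat.card_le_card_of_surjective (fun x : F × F × F =>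
    (⟨ι (sx (i0 hn) (i1 hn) x.2.2 * Cfsg.Agent.OddHalf.SpN.sy (i0 hn) x.1 *
      Cfsg.Agent.OddHalf.SpN.sy (i1 hn) x.2.1), ⟨_, h2 x.1 x.2.1 x.2.2, rfl⟩⟩ : ↥((US (i0 hn) (i1 hn)).map ι)))
  rintro ⟨_, A, hA, rfl⟩
  obtain ⟨a, b, c, rfl⟩ := Cfsg.Agent.Omega.All.SpN.exists_US (Cfsg.Agent.Omega.All.SpN.d01 hn) hA
  exact ⟨(a, b, c), rfl⟩

/-- the standard position of `T` -/
theorem exists_hyp0 {G : Type*} [Group G] [Finite G] {ι₀ : Sy n F →* G} (hι : Function.Injective ι₀)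
    (hcen : ∀ c : G, (∀ A, ι₀ A * c = c * ι₀ A) → c = 1) {T : Subgroup G} (hT : IsPGroup 2 T)
    (hTY : T ≤ normalizer (ι₀.range : Set G))
    (hmax : ∀ P : Subgroup G, P ≤ ι₀.range → IsPGroup 2 P → T ⊓ ι₀.range ≤ P → P ≤ T) :
    ∃ (ι : Sy n F →* G) (y : G), y ∈ normalizer (ι₀.range : Set G) ∧ (∀ A, ι A = y * ι₀ A * y⁻¹) ∧
      ι.range = ι₀.range ∧ Hyp0 ι T := by
  have : Fact (Nat.Prime 2) := ⟨Nat.prime_two⟩
  have h1 : IsPGroup 2 (((Up n F).map ι₀).subgroupOf ι₀.range) :=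
    (isPGroup_Up.map ι₀).comap_of_injective ι₀.range.subtype ι₀.range.subtype_injective
  obtain ⟨P, hP⟩ := h1.exists_le_sylow
  have h2 : IsPGroup 2 (T.subgroupOf ι₀.range) := hT.comap_of_injective _ ι₀.range.subtype_injective
  let Q : Sylow 2 ↥ι₀.range := ⟨T.subgroupOf ι₀.range, h2, fun {K} hK hle => by
    apply le_antisymm
    · intro k hk
      have h3 := hmax (K.map ι₀.range.subtype) (by rintro _ ⟨x, -, rfl⟩; exact x.2) (hK.map _) (by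
        rintro x ⟨hx, hx'⟩
        exact ⟨⟨x, hx'⟩, hle (mem_subgroupOf.2 hx), rfl⟩)
      exact mem_subgroupOf.2 (h3 ⟨k, hk, rfl⟩)
    · exact hle⟩
  obtain ⟨y, hy⟩ := MulAction.exists_smul_eq ↥ι₀.range P Q
  have key : ∀ A ∈ Up n F, (y : G) * ι₀ A * (y : G)⁻¹ ∈ T := by
    intro A hA
    have h2 : (⟨ι₀ A, ⟨A, rfl⟩⟩ : ↥ι₀.range) ∈ (P : Subgroup ↥ι₀.range) := hP ⟨A, hA, rfl⟩
    have h3 : y * ⟨ι₀ A, ⟨A, rfl⟩⟩ * y⁻¹ ∈ ((y • P : Sylow 2 ↥ι₀.range) : Subgroup ↥ι₀.range) := by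
      rw [Sylow.coe_subgroup_smul]
      exact ⟨_, h2, rfl⟩
    rw [hy] at h3
    exact mem_subgroupOf.1 h3
  have hyN : (y : G) ∈ normalizer (ι₀.range : Set G) := le_normalizer y.2
  let ι : Sy n F →* G := (MulAut.conj (y : G)).toMonoidHom.comp ι₀
  have hιe : ∀ A, ι A = (y : G) * ι₀ A * (y : G)⁻¹ := fun A => rfl
  have hr : ι.range = ι₀.range := by
    ext x
    constructor
    · rintro ⟨A, rfl⟩
      exact (mem_normalizer_iff.1 hyN _).1 ⟨A, rfl⟩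
    · intro hx
      obtain ⟨A, hA⟩ := (mem_normalizer_iff''.1 hyN x).1 hx
      exact ⟨A, by rw [hιe, hA]; group⟩
  have hιi : Function.Injective ι := fun A B h => hι (by
    rw [hιe, hιe] at h
    exact mul_left_cancel (mul_right_cancel h))
  refine ⟨ι, y, hyN, hιe, hr, hιi, fun c hc => ?_, hT, by rw [hr]; exact hTY, ?_⟩
  · have h2 : (y : G)⁻¹ * c * y = 1 := by
      apply hcen
      intro A
      have h3 := hc A
      rw [hιe] at h3
      calc ι₀ A * ((y : G)⁻¹ * c * y) = (y : G)⁻¹ * ((y : G) * ι₀ A * (y : G)⁻¹ * c) * y := by group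
        _ = (y : G)⁻¹ * (c * ((y : G) * ι₀ A * (y : G)⁻¹)) * y := by rw [h3]
        _ = _ := by group
    calc c = (y : G) * ((y : G)⁻¹ * c * y) * (y : G)⁻¹ := by group
      _ = 1 := by rw [h2]; group
  · apply le_antisymm
    · rintro _ ⟨hx, ⟨A, rfl⟩⟩
      have h1 : IsPGroup 2 ((T.comap ι : Subgroup (Sy n F))) := hT.comap_of_injective ι hιi
      exact ⟨A, Up_max h1 (fun B hB => key B hB) hx, rfl⟩
    · rintro _ ⟨A, hA, rfl⟩
      exact ⟨key A hA, ⟨A, rfl⟩⟩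

theorem R_eq0 {G : Type*} [Group G] [Finite G] {ι₀ ι : Sy n F →* G} (hι₀ : Function.Injective ι₀) {y : G}
    (hy : y ∈ normalizer (ι₀.range : Set G)) (hιe : ∀ A, ι A = y * ι₀ A * y⁻¹) (hr : ι.range = ι₀.range)
    {S : Subgroup G} (H : Hyp0 ι S) (hn : 3 ≤ n) {R : Subgroup G} {i j : Ix n} (hd : Dj i j)
    (hR : ∀ x, x ∈ R ↔ ∃ t : F, x = ι₀ (sx i j t)) (hSR : S ⊓ ι.range ≤ centralizer (R : Set G)) :
    R = (X12 hn).map ι := by
  apply Subgroup.eq_of_le_of_card_ge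
  · intro x hx
    obtain ⟨t, ht⟩ := (hR x).1 hx
    have hy' : y⁻¹ ∈ normalizer (ι.range : Set G) := by rw [hr]; exact inv_mem hy
    obtain ⟨s, φ, hs, ha⟩ := exists_acts hn H.inj hy'
    obtain ⟨C, hC, hC'⟩ := ha (sx i j t)
    have hx' : x = ι C := by
      rw [← hC, hιe, ht]; group
    have hU : ∀ A, A ∈ Up n F ↔ ι A ∈ S ⊓ ι.range := by
      intro A
      rw [H.U_eq]
      exact ⟨fun h => ⟨A, h, rfl⟩, fun ⟨A', h, e⟩ => H.inj e ▸ h⟩
    have hCz : C ∈ Zz hn := by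
      rw [mem_Zz_iff]
      intro D hD
      apply H.inj
      rw [map_mul, map_mul]
      have h1 := Subgroup.mem_centralizer_iff.1 (hSR ((hU D).1 hD)) x hx
      rw [hx'] at h1
      exact h1.symm
    refine ⟨C, mem_X12_of_alt hn hCz fun v => ?_, hx'.symm⟩
    have h2 : rho n F C v = s (rho n F (sx i j t) (s⁻¹ v)) := by rw [hC']; rfl
    have h3 : v = s (s⁻¹ v) := (perm_apply_inv_self s v).symm
    rw [h2]
    conv_lhs => rw [h3]
    rw [perm_inv_apply_self, hs.form, alt_sx hd, map_zero]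
  · have h1 : Nat.card ↥((X12 hn).map ι) ≤ Nat.card F := by
      apply Nat.card_le_card_of_surjective (fun t : F => (⟨ι (zz hn t 0), ⟨_, ⟨t, rfl⟩, rfl⟩⟩ : ↥((X12 hn).map ι)))
      rintro ⟨_, ⟨_, ⟨t, rfl⟩, rfl⟩⟩
      exact ⟨t, rfl⟩
    refine h1.trans ?_
    apply Nat.card_le_card_of_injective (fun t : F => (⟨ι₀ (sx i j t), (hR _).2 ⟨t, rfl⟩⟩ : R))
    intro t t' htt
    exact sx_inj hd (hι₀ (congrArg Subtype.val htt))

/-- **From `φ : G₀ ≃* PSp n F` to `SpK`**: `R` a short root group with `R ≤ T ⊓ G₀ ≤ C(R)`, `T ⊓ G₀` a maximal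
2-subgroup of `G₀`; `|U_a| ≤ |R|³`. -/
theorem exists_spK' {G : Type*} [Group G] [Finite G] {T G₀ R : Subgroup G} (hT : IsPGroup 2 T) (hn : 3 ≤ n)
    (φ : ↥G₀ ≃* PSp n F) (hTG : T ≤ normalizer (G₀ : Set G)) (hcen : centralizer (G₀ : Set G) = ⊥)
    (hmax : ∀ P : Subgroup G, P ≤ G₀ → IsPGroup 2 P → T ⊓ G₀ ≤ P → P ≤ T) (hRT : R ≤ T ⊓ G₀)
    (hTR : T ⊓ G₀ ≤ centralizer (R : Set G)) {ρ : Fin n → ℤ} {a b : Fin n × Bool} (hab : a.1 ≠ b.1)
    (e : ee ρ = wt a + wt b) (hR : ∀ x : ↥G₀, (x : G) ∈ R ↔ ∃ t : F, φ x = eSp n F ρ t) :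
    ∃ Xb Ca Cb Qa Qb Ua : Subgroup G, SpK T G₀ R Xb Ca Cb Qa Qb Ua ∧ Nat.card Ua ≤ Nat.card R ^ 3 := by
  have hr₀ := iota_range φ
  have hcen' : ∀ c : G, (∀ A, iota φ A * c = c * iota φ A) → c = 1 := by
    intro c hc
    have h1 : c ∈ centralizer (G₀ : Set G) := by
      rw [Subgroup.mem_centralizer_iff]
      intro g hg
      rw [SetLike.mem_coe, ← hr₀] at hg
      obtain ⟨A, rfl⟩ := hg
      exact hc A
    rwa [hcen, Subgroup.mem_bot] at h1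
  obtain ⟨ι, y, hy, hιe, hr, H⟩ := exists_hyp0 (iota_inj φ) hcen' hT (by rw [hr₀]; exact hTG)
    (by rw [hr₀]; exact hmax)
  have hRι : ∀ x, x ∈ R ↔ ∃ t : F, x = iota φ (sx (cv a) (cv b) t) := by
    intro x
    constructor
    · intro hx
      obtain ⟨t, ht⟩ := (hR ⟨x, (hRT hx).2⟩).1 hx
      refine ⟨t, ?_⟩
      rw [eSp_eq hab e] at ht
      show x = ((φ.symm (Cfsg.Agent.Omega.HOneEnd.SpIota.toP n F _) : ↥G₀) : G)
      rw [← ht, MulEquiv.symm_apply_apply]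
    · rintro ⟨t, rfl⟩
      exact (hR (φ.symm (Cfsg.Agent.Omega.HOneEnd.SpIota.toP n F _))).2
        ⟨t, by rw [MulEquiv.apply_symm_apply, eSp_eq hab e]⟩
  have hrG : ι.range = G₀ := hr.trans hr₀
  have hReq : R = (X12 hn).map ι := R_eq0 (iota_inj φ) hy hιe hr H hn (dj_cv hab) hRι
    (by rw [hrG]; exact hTR)
  have hD := spK H hn
  rw [hrG, ← hReq] at hD
  refine ⟨_, _, _, _, _, _, hD, (card_US ι hn).trans (Nat.pow_le_pow_left ?_ 3)⟩
  rw [hReq]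
  exact card_X12 H.inj hn

theorem exists_spK {G : Type*} [Group G] [Finite G] {T G₀ R : Subgroup G} (hT : IsPGroup 2 T) (hn : 3 ≤ n)
    (φ : ↥G₀ ≃* PSp n F) (hTG : T ≤ normalizer (G₀ : Set G)) (hcen : centralizer (G₀ : Set G) = ⊥)
    (hmax : ∀ P : Subgroup G, P ≤ G₀ → IsPGroup 2 P → T ⊓ G₀ ≤ P → P ≤ T) (hRT : R ≤ T ⊓ G₀)
    (hTR : T ⊓ G₀ ≤ centralizer (R : Set G)) {ρ : Fin n → ℤ} {a b : Fin n × Bool} (hab : a.1 ≠ b.1)
    (e : ee ρ = wt a + wt b) (hR : ∀ x : ↥G₀, (x : G) ∈ R ↔ ∃ t : F, φ x = eSp n F ρ t) :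
    ∃ Xb Ca Cb Qa Qb Ua : Subgroup G, SpK T G₀ R Xb Ca Cb Qa Qb Ua := by
  obtain ⟨Xb, Ca, Cb, Qa, Qb, Ua, h, -⟩ := exists_spK' hT hn φ hTG hcen hmax hRT hTR hab e hR
  exact ⟨Xb, Ca, Cb, Qa, Qb, Ua, h⟩

/-- the same over `EndIn` -/
theorem spK_of_endIn' {G : Type*} [Group G] [Finite G] {T G₀ U R : Subgroup G} {v : G} (h : EndIn T G₀ U R v)
    (hn : 3 ≤ n) (φ : ↥G₀ ≃* PSp n F) {ρ : Fin n → ℤ} {a b : Fin n × Bool} (hab : a.1 ≠ b.1)
    (e : ee ρ = wt a + wt b) (hR : ∀ x : ↥G₀, (x : G) ∈ R ↔ ∃ t : F, φ x = eSp n F ρ t) :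
    ∃ Xb Ca Cb Qa Qb Ua : Subgroup G, SpK T G₀ R Xb Ca Cb Qa Qb Ua ∧ Nat.card Ua ≤ Nat.card R ^ 3 := by
  have hUT : U ≤ T := by rw [← h.S_inf]; exact inf_le_left
  refine exists_spK' h.S_two hn φ h.S_G₀ h.cent (fun P hP hP2 hle => ?_) (by rw [h.S_inf]; exact h.R_U)
    (by rw [h.S_inf]; exact h.U_R) hab e hR
  rw [h.S_inf] at hle
  have h1 : U.relIndex P ∣ U.relIndex G₀ := by
    have := Subgroup.relIndex_mul_relIndex U P G₀ hle hP
    exact ⟨_, this.symm⟩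
  have h2 : Odd (U.relIndex P) := Odd.of_dvd_nat h.odd h1
  have : Fact (Nat.Prime 2) := ⟨Nat.prime_two⟩
  have h3 : U.relIndex P = 1 := by
    obtain ⟨k, hk⟩ := hP2.index (U.subgroupOf P)
    have h4 : U.relIndex P = 2 ^ k := hk
    rw [h4] at h2 ⊢
    rcases k with _ | k
    · rfl
    · exfalso
      rw [pow_succ] at h2
      exact (Nat.not_even_iff_odd.2 h2) (even_iff_two_dvd.2 ⟨2 ^ k, by ring⟩)
  exact (Subgroup.relIndex_eq_one.1 h3).trans hUT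

theorem spK_of_endIn {G : Type*} [Group G] [Finite G] {T G₀ U R : Subgroup G} {v : G} (h : EndIn T G₀ U R v)
    (hn : 3 ≤ n) (φ : ↥G₀ ≃* PSp n F) {ρ : Fin n → ℤ} {a b : Fin n × Bool} (hab : a.1 ≠ b.1)
    (e : ee ρ = wt a + wt b) (hR : ∀ x : ↥G₀, (x : G) ∈ R ↔ ∃ t : F, φ x = eSp n F ρ t) :
    ∃ Xb Ca Cb Qa Qb Ua : Subgroup G, SpK T G₀ R Xb Ca Cb Qa Qb Ua := by
  obtain ⟨Xb, Ca, Cb, Qa, Qb, Ua, h1, -⟩ := spK_of_endIn' h hn φ hab e hR
  exact ⟨Xb, Ca, Cb, Qa, Qb, Ua, h1⟩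

/-- the same with the literal output of THEOREM ID -/
theorem spK_of_id' {W : Type*} [Group W] [Finite W] (cs : CoxeterSystem (CoxeterMatrix.B n) W) {G : Type*} [Group G]
    [Finite G] {T G₀ U R : Subgroup G} {v : G} (h : EndIn T G₀ U R v) (hn : 3 ≤ n) (φ : ↥G₀ ≃* PSp n F)
    (hR : (R.subgroupOf G₀).map φ.toMonoidHom =
      Cfsg.Agent.Nodes.WittModel.X (KInstSp.model n F) (Cfsg.Agent.Omega.HOneEnd.TwoInst.rhoC hn)) :
    ∃ Xb Ca Cb Qa Qb Ua : Subgroup G, SpK T G₀ R Xb Ca Cb Qa Qb Ua ∧ Nat.card Ua ≤ Nat.card R ^ 3 := by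
  have : Fact (Nat.Prime 2) := ⟨Nat.prime_two⟩
  have hr := (Cfsg.Agent.Omega.HOneEnd.TwoInst.two_C (cs := cs) hn).rρ.1
  refine spK_of_endIn' h hn φ (ρ := Cfsg.Agent.Omega.HOneEnd.TwoInst.rhoC hn) (a := (⟨0, by omega⟩, true))
    (b := (⟨1, by omega⟩, true)) (by simp) ?_ fun x => ?_
  · unfold Cfsg.Agent.Omega.HOneEnd.TwoInst.rhoC
    rw [Cfsg.Agent.Nodes.KindBC.ee_rt]
  · have h1 : (x : G) ∈ R ↔ φ x ∈ (R.subgroupOf G₀).map φ.toMonoidHom := by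
      constructor
      · exact fun hx => ⟨x, mem_subgroupOf.2 hx, rfl⟩
      · rintro ⟨y, hy, e⟩
        have : y = x := φ.injective e
        rw [← this]
        exact mem_subgroupOf.1 hy
    rw [h1, hR, (Cfsg.Agent.KFacts.SysSp.sys_PSp n F cs).mem_X _ hr]
    exact ⟨fun ⟨t, e⟩ => ⟨t, e.symm⟩, fun ⟨t, e⟩ => ⟨t, e.symm⟩⟩

theorem spK_of_id {W : Type*} [Group W] [Finite W] (cs : CoxeterSystem (CoxeterMatrix.B n) W) {G : Type*} [Group G]
    [Finite G] {T G₀ U R : Subgroup G} {v : G} (h : EndIn T G₀ U R v) (hn : 3 ≤ n) (φ : ↥G₀ ≃* PSp n F)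
    (hR : (R.subgroupOf G₀).map φ.toMonoidHom =
      Cfsg.Agent.Nodes.WittModel.X (KInstSp.model n F) (Cfsg.Agent.Omega.HOneEnd.TwoInst.rhoC hn)) :
    ∃ Xb Ca Cb Qa Qb Ua : Subgroup G, SpK T G₀ R Xb Ca Cb Qa Qb Ua := by
  obtain ⟨Xb, Ca, Cb, Qa, Qb, Ua, h1, -⟩ := spK_of_id' cs h hn φ hR
  exact ⟨Xb, Ca, Cb, Qa, Qb, Ua, h1⟩

end Cfsg.Agent.Omega.IId.M4

end

section


/-!
# The unmixed case of `WrMain4` (assembly)

Sockets:
* `ChainM4 K` : the chain of `Same4` over `T = stab M i`, `R = line M i`: `EndIn T G₀ U R v` and `Chain`;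
* `IdM4` : THEOREM ID: `EndIn T G₀ U R v` implies `SpK` (`Sp_{2n}(q)`, `n ≥ 3`) or `IsFFour` (`F₄(q)`).

`noEnt` : `FFThm.Stmt`, `ChainM4 K`, `IdM4` imply that `Ent K S P M i j N` is impossible (`IId.NoEnt K`).
-/

set_option autoImplicit false
set_option linter.unusedSectionVars false

namespace Cfsg.Agent.Omega.IId.M4

open Subgroup Cfsg Cfsg.Agent.ZN.ChoiceBase
open Cfsg.Agent.ZN (o2 zc zl)
open Cfsg.Agent.Omega.MinPar Cfsg.Agent.Omega.FFThm Cfsg.Agent.Omega.Frame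
open Cfsg.Agent.Omega.All.HOne (Side FFourG)
open Cfsg.Agent.Omega.NatPair (ap NatMod)
open Cfsg.Agent.Omega.IId.FourSide
open Cfsg.Agent.Omega.HOneEnd (EndIn)

universe u

/-- The chain for `Ent`. -/
def ChainM4 (K : Cls.{u}) : Prop :=
  ∀ (G : Type u) [Group G] [Finite G] (S : Sylow 2 G) (P : Subgroup G) (F : Type) [Field F] [Finite F]
    [CharP F 2] (M : NatK F (S : Subgroup G) P (zl (S : Subgroup G) P) ⊥ 2) (i j : Fin 2)
    (N : NatMod F (fac M i)), Ent K S P M i j N →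
      ∃ (G₀ U : Subgroup G) (v : G), EndIn (stab M i) G₀ U (line M i) v ∧ Chain M i N G₀

/-- What is used of `G₀ = F₄(q)` and the root group `R`: the facts `FK` for the 2-group `T`, and `FFourG` for every
2-group `S ≥ T` normalising `G₀` but not `R`, with `S ∩ N_G(R)` Sylow in `N_G(R)`. -/
structure IsFFour {G : Type u} [Group G] (T G₀ R : Subgroup G) : Prop where
  fk : ∃ Xb Ca Cb Qa Qb Ua Ub : Subgroup G, FK T G₀ R Xb Ca Cb Qa Qb Ua Ub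
  ffg : ∀ S : Subgroup G, IsPGroup 2 S → T ≤ S → S ≤ normalizer (G₀ : Set G) →
    (∀ T' : Subgroup G, IsPGroup 2 T' → T' ≤ normalizer (R : Set G) →
      Nat.card T' ≤ Nat.card ↥(S ⊓ normalizer (R : Set G))) →
    (∃ t ∈ S, t ∉ normalizer (R : Set G)) →
    ∃ Cs Cl Xl Qs Ql Us Ul : Subgroup G, FFourG S (S ⊓ normalizer (R : Set G)) (S ⊓ G₀)
      (normalizer (G₀ : Set G)) Cs Cl R Xl Qs Ql Us Ul

/-- THEOREM ID in the form of `WrMain4`. -/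
def IdM4 : Prop :=
  ∀ (G : Type u) [Group G] [Finite G] (T G₀ U R : Subgroup G) (v : G), EndIn T G₀ U R v →
    (∃ Xb Ca Cb Qa Qb Ua : Subgroup G, SpK T G₀ R Xb Ca Cb Qa Qb Ua) ∨ IsFFour T G₀ R

section main

variable {G : Type u} [Group G] [Finite G] {F : Type} [Field F] [Finite F] [CharP F 2] {S : Sylow 2 G}
  {P : Subgroup G} {K : Cls.{u}} {M : NatK F (S : Subgroup G) P (zl (S : Subgroup G) P) ⊥ 2} {i j : Fin 2}
  {N : NatMod F (fac M i)}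

/-- `F₄(q)` is impossible. -/
theorem not_ffour (hFF : FFThm.Stmt.{u}) (h : Ent K S P M i j N) {G₀ U : Subgroup G} {v : G}
    (e : EndIn (stab M i) G₀ U (line M i) v) (c : Chain M i N G₀) (f : IsFFour (stab M i) G₀ (line M i)) : False := by
  have hfact : Fact (Nat.Prime 2) := ⟨Nat.prime_two⟩
  obtain ⟨Xb, Ca, Cb, Qa, Qb, Ua, Ub, k⟩ := f.fk
  have hcard := (h.four.two h.ne).card
  have hTS : stab M i ≤ (S : Subgroup G) := stab_le M i
  have h2 := Two.two_cosets hTS hcard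
  obtain ⟨s, hs, hn⟩ := Two.exists_not_mem hTS hcard
  obtain ⟨hsG, -⟩ := h.graph c k hs hn
  obtain ⟨r, hrz, hr, hr1⟩ := h.sylN.exists_z k.side_a
  have hsr : s * r * s⁻¹ ∉ line M i := (h.vec c hs hn hr hrz hr1).2.2.1
  have hTR : stab M i ≤ normalizer (line M i : Set G) := stab_normalizes_line M h.four.le i
  have hsR : s ∉ normalizer (line M i : Set G) := fun h0 => hsr ((mem_normalizer_iff.1 h0 r).1 hr)
  -- every element of `S` lies in `T` or in `sT`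
  have hcos : ∀ t ∈ (S : Subgroup G), t ∉ stab M i → s⁻¹ * t ∈ stab M i := fun t ht ht1 => h2 s hs t ht hn ht1
  have hSG : (S : Subgroup G) ≤ normalizer (G₀ : Set G) := by
    intro t ht
    by_cases ht1 : t ∈ stab M i
    · exact e.S_G₀ ht1
    · have e1 : t = s * (s⁻¹ * t) := by group
      rw [e1]
      exact mul_mem hsG (e.S_G₀ (hcos t ht ht1))
  have hST : (S : Subgroup G) ⊓ normalizer (line M i : Set G) = stab M i := by
    refine le_antisymm ?_ (le_inf hTS hTR)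
    rintro t ⟨ht, htR⟩
    by_contra ht1
    apply hsR
    have e1 : s = t * (s⁻¹ * t)⁻¹ := by group
    rw [e1]
    exact mul_mem htR (inv_mem (hTR (hcos t ht ht1)))
  have hsyl : ∀ T' : Subgroup G, IsPGroup 2 T' → T' ≤ normalizer (line M i : Set G) →
      Nat.card T' ≤ Nat.card ↥((S : Subgroup G) ⊓ normalizer (line M i : Set G)) := by
    intro T' hT' hle
    rw [hST]
    exact Nat.le_of_dvd Nat.card_pos (SideOf.card_dvd_of hTR h.four.syl hT' hle)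
  obtain ⟨Cs, Cl, Xl, Qs, Ql, Us, Ul, D⟩ := f.ffg S S.isPGroup' hTS hSG hsyl ⟨s, hs, hsR⟩
  have htop := D.top hFF h.four.c2T h.hyp.allIn h.hyp.full
  -- `G₀ = G`
  have hsim := h.hyp.ctx.simple
  have hnorm : G₀.Normal := normalizer_eq_top_iff.mp htop
  have hG₀ : G₀ = ⊤ := hnorm.eq_bot_or_eq_top.resolve_left fun h0 => by
    have h1 := c.simple
    rw [h0] at h1
    obtain ⟨⟨x, y, hxy⟩⟩ := h1.toNontrivial
    exact hxy (Subsingleton.elim x y)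
  -- `T = U` is a Sylow 2-subgroup of `G`
  have hU : stab M i = U := by
    have h1 := e.S_inf
    rwa [hG₀, inf_top_eq] at h1
  have hodd := e.odd
  rw [← hU, hG₀, relIndex_top_right, ← Nat.not_even_iff_odd, even_iff_two_dvd] at hodd
  apply hodd
  have h3 : (stab M i).relIndex (S : Subgroup G) = 2 := by
    have h4 := Half.card_mul_relIndex hTS
    rw [hcard] at h4
    have h5 : 0 < Nat.card (stab M i) := Nat.card_pos
    rw [mul_comm 2] at h4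
    exact Nat.eq_of_mul_eq_mul_left h5 h4
  exact (dvd_of_eq h3.symm).trans (relIndex_dvd_index_of_le hTS)

end main

/-- **The unmixed case of `WrMain4`** (literally `IId.NoEnt K`). -/
theorem noEnt {K : Cls.{u}} (hFF : FFThm.Stmt.{u}) (hch : ChainM4 K) (hid : IdM4.{u}) :
    ∀ (G : Type u) [Group G] [Finite G] (S : Sylow 2 G) (P : Subgroup G) (F : Type) [Field F] [Finite F]
      [CharP F 2] (M : NatK F (S : Subgroup G) P (zl (S : Subgroup G) P) ⊥ 2) (i j : Fin 2)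
      (N : NatMod F (fac M i)), ¬ Ent K S P M i j N := by
  intro G _ _ S P F _ _ _ M i j N h
  obtain ⟨G₀, U, v, e, c⟩ := hch G S P F M i j N h
  rcases hid G _ _ _ _ _ e with ⟨_, _, _, _, _, _, k⟩ | f
  · exact h.not_sp c k
  · exact not_ffour hFF h e c f

end Cfsg.Agent.Omega.IId.M4

end

section


/-!
# WrMain4: THEOREM ID in the form of `Main.lean`

`idM4 : IdM4`.
-/

set_option autoImplicit false

namespace Cfsg.Agent.Omega.IId.M4

open Subgroup Cfsg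
open Cfsg.Agent.Omega.HOneEnd (EndIn)
open Cfsg.Agent.Omega.HOneEnd.ThmId (thm_id)

universe u

/-- a 2-group containing `T` meets `G₀` in `U` -/
theorem inf_eq_of_endIn {G : Type*} [Group G] {T G₀ U R : Subgroup G} {v : G} (h : EndIn T G₀ U R v)
    {S : Subgroup G} (hS : IsPGroup 2 S) (hTS : T ≤ S) : S ⊓ G₀ = U := by
  have : Fact (Nat.Prime 2) := ⟨Nat.prime_two⟩
  have hUT : U ≤ T := by rw [← h.S_inf]; exact inf_le_left
  have hUG : U ≤ G₀ := by rw [← h.S_inf]; exact inf_le_right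
  have hle : U ≤ S ⊓ G₀ := le_inf (hUT.trans hTS) hUG
  refine le_antisymm ?_ hle
  have h1 : U.relIndex (S ⊓ G₀) ∣ U.relIndex G₀ :=
    ⟨_, (Subgroup.relIndex_mul_relIndex U (S ⊓ G₀) G₀ hle inf_le_right).symm⟩
  have h2 : Odd (U.relIndex (S ⊓ G₀)) := Odd.of_dvd_nat h.odd h1
  have h5 : IsPGroup 2 ↥(S ⊓ G₀) := hS.to_le inf_le_left
  by_cases hi : U.relIndex (S ⊓ G₀) = 0
  · rw [hi] at h2
    exact absurd h2 (by decide)
  have h3 : U.relIndex (S ⊓ G₀) = 1 := by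
    have : (U.subgroupOf (S ⊓ G₀)).FiniteIndex := ⟨hi⟩
    obtain ⟨k, hk⟩ := h5.index (U.subgroupOf (S ⊓ G₀))
    have h4 : U.relIndex (S ⊓ G₀) = 2 ^ k := hk
    rw [h4] at h2 ⊢
    rcases k with _ | k
    · rfl
    · exfalso
      rw [pow_succ] at h2
      exact (Nat.not_even_iff_odd.2 h2) (even_iff_two_dvd.2 ⟨2 ^ k, by ring⟩)
  exact Subgroup.relIndex_eq_one.1 h3

/-- **THEOREM ID in the form of `WrMain4`.** -/
theorem idM4 : IdM4.{u} := by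
  intro G _ _ T G₀ U R v h
  have hR : R ≤ G₀ := h.R_U.trans (by rw [← h.S_inf]; exact inf_le_right)
  rcases thm_id h with ⟨F, i1, i2, i3, n, hn, φ, -, e2⟩ | ⟨K, i1, i2, i3, φ, e1, s, hs, e2⟩
  · left
    have hW : Finite (CoxeterMatrix.B n).Group := Cfsg.Agent.Nodes.TypeC.finite_W (CoxeterMatrix.B n).toCoxeterSystem
    exact spK_of_id (CoxeterMatrix.B n).toCoxeterSystem h hn φ e2
  · right
    refine ⟨?_, fun S hS hTS hSG hsyl hsw => ?_⟩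
    · exact Cfsg.Agent.Omega.HOneEnd.FFour.fk_of φ h.S_two h.S_G₀ h.S_R hR h.cent (by rw [h.S_inf]; exact e1) hs e2
    · refine Cfsg.Agent.Omega.HOneEnd.FFour.ffourG_of φ hS hSG hR h.cent ?_ hs e2 h.N_R hsyl hsw
      rw [inf_eq_of_endIn h hS hTS]
      exact e1

end Cfsg.Agent.Omega.IId.M4

end

section


/-!
# `BigU4`: `TypU` for `G₀ ≅ Sp_2n(q)`, `q` even, `n ≥ 3` (helper38)

* `typ_US_N` : every element of `U_s` is conjugate into `Z` by an element normalising `X_12`;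
* `typU` : `TypU T ι.range X_12 U_s` over `Hyp0 ι T`;
* `exists_spKU`, `spKU_of_endIn`, `spKU_of_id` : `SpK` together with `TypU`.
-/

set_option autoImplicit false
set_option linter.unusedSectionVars false

namespace Cfsg.Agent.Omega.IId.TypUSp

open Cfsg Cfsg.Agent.ClassicalGeometry.SympBasic Cfsg.Agent.ClassicalGeometry.SympAutSemi
open Cfsg.Agent.OddHalf.SpN Cfsg.Agent.OddHalf.SpN.Out
open Subgroup
open Cfsg.Agent.Nodes.TypeC Cfsg.Agent.TitsThree Cfsg.Agent.TitsThree.Siegel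
open Cfsg.Agent.KFacts.SysSp (eSp)
open Cfsg.Agent.Omega.All.SpN (Hyp0 C0 D0 QS US UL i0 i1 d01 exists_US w01 w01_0 w01_1 tor conj_zz_tor)
open Cfsg.Agent.Omega.HOneEnd.SpIota (iota iota_inj iota_range mem_X12_of_alt alt_sx eSp_eq cv dj_cv)
open Cfsg.Agent.Omega.HOneEnd (EndIn)
open Cfsg.Agent.Omega.IId.Cv (TypU)
open Cfsg.Agent.Omega.IId.M4 (SpK spK card_X12 card_US exists_hyp0 R_eq0)

variable {n : ℕ} {F : Type*} [Field F] [Finite F] [CharP F 2] {hn : 3 ≤ n}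

local notation "sY" => Cfsg.Agent.OddHalf.SpN.sy

/-- `g` normalises `X_12` -/
def Nx (hn : 3 ≤ n) (g : Sy n F) : Prop := ∀ a : F, ∃ a' : F, g * zz hn a 0 * g⁻¹ = zz hn a' 0

theorem Nx.one : Nx hn (1 : Sy n F) := fun a => ⟨a, by group⟩

theorem Nx.mul {g g' : Sy n F} (h : Nx hn g) (h' : Nx hn g') : Nx hn (g * g') := by
  intro a
  obtain ⟨a', ha'⟩ := h' a
  obtain ⟨a'', ha''⟩ := h a'
  refine ⟨a'', ?_⟩
  rw [← ha'', ← ha']
  group

theorem Nx.tor (l0 l1 : Fˣ) : Nx hn (tor hn l0 l1) := fun a => ⟨l0 * l1 * a, by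
  rw [conj_zz_tor, mul_zero]⟩

theorem zz_eq0' (a : F) : zz hn a 0 = sx (i0 hn) (i1 hn) a := Cfsg.Agent.Omega.All.SpN.zz_eq0 a

theorem Nx.x (s : F) : Nx hn (sx (neg (i0 hn)) (i1 hn) s)⁻¹ := fun a => ⟨a, by
  have c1 : Commute (sx (i0 hn) (i1 hn) a) (sx (neg (i0 hn)) (i1 hn) s) := sx_comm' _ _
  rw [zz_eq0', inv_inv, mul_assoc, c1.eq]
  group⟩

theorem Nx.w : Nx hn (sw (w01 hn) : Sy n F) := fun a => ⟨a, by
  rw [zz_eq0', sw_sx, w01_0, w01_1, sx_symm]⟩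

theorem Nx.norm {G : Type*} [Group G] [Finite G] {ι : Sy n F →* G} {g : Sy n F} (h : Nx hn g) :
    ι g ∈ normalizer (((X12 hn).map ι : Subgroup G) : Set G) := by
  have h1 : ∀ x ∈ (X12 hn).map ι, ι g * x * (ι g)⁻¹ ∈ (X12 hn).map ι := by
    rintro _ ⟨_, ⟨a, rfl⟩, rfl⟩
    obtain ⟨a', ha'⟩ := h a
    exact ⟨_, ⟨a', rfl⟩, by rw [← ha', map_mul, map_mul, map_inv]⟩
  have h2 : ((X12 hn).map ι).map (MulAut.conj (ι g)).toMonoidHom = (X12 hn).map ι := by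
    apply Subgroup.eq_of_le_of_card_ge
    · rintro _ ⟨x, hx, rfl⟩
      exact h1 x hx
    · exact le_of_eq (Nat.card_congr
        (((X12 hn).map ι).equivMapOfInjective _ (MulAut.conj (ι g)).injective).toEquiv)
  rw [mem_normalizer_iff]
  intro x
  refine ⟨h1 x, fun hx => ?_⟩
  rw [← h2] at hx
  obtain ⟨y, hy, e⟩ := hx
  have : y = x := (MulAut.conj (ι g)).injective e
  rwa [← this]

variable {A : Sy n F}

theorem typ_zz_N {Z : Subgroup (Sy n F)} {a0 b0 : F} (ha0 : a0 ≠ 0) (hb0 : b0 ≠ 0) (h1 : zz hn a0 0 ∈ Z)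
    (h2 : zz hn 0 b0 ∈ Z) (a b : F) : ∃ g : Sy n F, Nx hn g ∧ g * zz hn a b * g⁻¹ ∈ Z := by
  have h3 : zz hn a0 b0 ∈ Z := by
    have := mul_mem h1 h2
    rwa [zz_mul, add_zero, zero_add] at this
  by_cases hb : b = 0
  · subst hb
    by_cases ha : a = 0
    · subst ha
      exact ⟨1, Nx.one, by rw [zz_zero]; simp [one_mem]⟩
    · refine ⟨tor hn (Units.mk0 (a0 / a) (div_ne_zero ha0 ha)) 1, Nx.tor _ _, ?_⟩
      rw [conj_zz_tor, Units.val_mk0, Units.val_one, mul_one, mul_zero, div_mul_cancel₀ _ ha]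
      exact h1
  · obtain ⟨l, hl⟩ := exists_sqrt (F := F) (b0 / b)
    have hl0 : l ≠ 0 := by
      rintro rfl
      rw [mul_zero] at hl
      exact div_ne_zero hb0 hb hl.symm
    have e : l ^ 2 * b = b0 := by rw [pow_two, hl, div_mul_cancel₀ _ hb]
    by_cases ha : a = 0
    · subst ha
      refine ⟨tor hn (Units.mk0 l hl0) 1, Nx.tor _ _, ?_⟩
      rw [conj_zz_tor, Units.val_mk0, mul_zero, e]
      exact h2
    · refine ⟨tor hn (Units.mk0 l hl0) (Units.mk0 (a0 / (l * a)) (div_ne_zero ha0 (mul_ne_zero hl0 ha))),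
        Nx.tor _ _, ?_⟩
      rw [conj_zz_tor, Units.val_mk0, Units.val_mk0, e]
      have e' : l * (a0 / (l * a)) * a = a0 := by field_simp
      rw [e']
      exact h3

theorem typ_US_N {Z : Subgroup (Sy n F)} {a0 b0 : F} (ha0 : a0 ≠ 0) (hb0 : b0 ≠ 0) (h1 : zz hn a0 0 ∈ Z)
    (h2 : zz hn 0 b0 ∈ Z) (hA : A ∈ US (i0 hn) (i1 hn)) : ∃ g : Sy n F, Nx hn g ∧ g * A * g⁻¹ ∈ Z := by
  obtain ⟨a, b, c, rfl⟩ := exists_US (d01 hn) hA
  have key : ∀ a b c : F, a ≠ 0 → ∃ g : Sy n F, Nx hn g ∧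
      g * (sx (i0 hn) (i1 hn) c * sY (i0 hn) a * sY (i1 hn) b) * g⁻¹ ∈ Z := by
    intro a b c ha
    obtain ⟨s, hs⟩ := exists_sqrt (F := F) (b / a)
    have hs' : a * s ^ 2 = b := by rw [pow_two, hs, mul_div_cancel₀ _ ha]
    obtain ⟨g, hgN, hg⟩ := typ_zz_N ha0 hb0 h1 h2 (c + a * s) a
    have hd := d01 hn
    have hd' : Dj (neg (i0 hn)) (i1 hn) := dj_neg_left.2 hd
    set x := sx (neg (i0 hn)) (i1 hn) s with hx
    have r1 : x⁻¹ * sY (i0 hn) a * x = sx (i0 hn) (i1 hn) (a * s) * sY (i1 hn) b * sY (i0 hn) a := by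
      have h := sy_rel hd a s
      rw [hs', ← hx] at h
      have c1 : Commute (sx (i0 hn) (i1 hn) (a * s)) x := sx_comm' _ _
      have c2 : Commute (sY (i1 hn) b) x := sy_sx_comm
        (fun e => hd.1 (OddHalf.SpN.neg_inj.1 e)) (fun e => (ne_neg (i1 hn)) e) _ _
      have c3 : Commute (sx (i0 hn) (i1 hn) (a * s) * sY (i1 hn) b) x := c1.mul_left c2
      calc x⁻¹ * sY (i0 hn) a * x = x⁻¹ * (sY (i0 hn) a * x) := by group
        _ = x⁻¹ * ((sx (i0 hn) (i1 hn) (a * s) * sY (i1 hn) b) * x * sY (i0 hn) a) := by rw [h]; group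
        _ = x⁻¹ * (x * (sx (i0 hn) (i1 hn) (a * s) * sY (i1 hn) b) * sY (i0 hn) a) := by rw [c3.eq]
        _ = _ := by group
    have r2 : x⁻¹ * sx (i0 hn) (i1 hn) c * x = sx (i0 hn) (i1 hn) c := by
      have c1 : Commute (sx (i0 hn) (i1 hn) c) x := sx_comm' _ _
      rw [mul_assoc, c1.eq]; group
    have r3 : x⁻¹ * sY (i1 hn) b * x = sY (i1 hn) b := by
      have c2 : Commute (sY (i1 hn) b) x := sy_sx_comm
        (fun e => hd.1 (OddHalf.SpN.neg_inj.1 e)) (fun e => (ne_neg (i1 hn)) e) _ _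
      rw [mul_assoc, c2.eq]; group
    refine ⟨g * x⁻¹, hgN.mul (Nx.x s), ?_⟩
    have e : g * x⁻¹ * (sx (i0 hn) (i1 hn) c * sY (i0 hn) a * sY (i1 hn) b) * (g * x⁻¹)⁻¹ =
        g * ((x⁻¹ * sx (i0 hn) (i1 hn) c * x) * (x⁻¹ * sY (i0 hn) a * x) * (x⁻¹ * sY (i1 hn) b * x)) * g⁻¹ := by
      group
    have c4 : Commute (sY (i1 hn) b) (sY (i0 hn) a) := sy_comm (fun e => hd.2 e) _ _
    have e2 : sx (i0 hn) (i1 hn) c * (sx (i0 hn) (i1 hn) (a * s) * sY (i1 hn) b * sY (i0 hn) a) * sY (i1 hn) b =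
        zz hn (c + a * s) a := by
      rw [Cfsg.Agent.Omega.All.SpN.zz_eq, sx_add]
      calc sx (i0 hn) (i1 hn) c * (sx (i0 hn) (i1 hn) (a * s) * sY (i1 hn) b * sY (i0 hn) a) * sY (i1 hn) b
          = sx (i0 hn) (i1 hn) c * sx (i0 hn) (i1 hn) (a * s) * (sY (i1 hn) b * sY (i0 hn) a) * sY (i1 hn) b := by
            group
        _ = sx (i0 hn) (i1 hn) c * sx (i0 hn) (i1 hn) (a * s) * (sY (i0 hn) a * sY (i1 hn) b) * sY (i1 hn) b := by
            rw [c4.eq]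
        _ = sx (i0 hn) (i1 hn) c * sx (i0 hn) (i1 hn) (a * s) * sY (i0 hn) a * (sY (i1 hn) b * sY (i1 hn) b) := by
            group
        _ = _ := by rw [sy_sq, mul_one]
    rw [e, r1, r2, r3, e2]
    exact hg
  by_cases ha : a = 0
  · by_cases hb : b = 0
    · rw [ha, hb, sy_zero, sy_zero, mul_one, mul_one, ← Cfsg.Agent.Omega.All.SpN.zz_eq0]
      exact typ_zz_N ha0 hb0 h1 h2 c 0
    · obtain ⟨g, hgN, hg⟩ := key b a c hb
      refine ⟨g * sw (w01 hn), hgN.mul Nx.w, ?_⟩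
      have e : g * sw (w01 hn) * (sx (i0 hn) (i1 hn) c * sY (i0 hn) a * sY (i1 hn) b) * (g * sw (w01 hn))⁻¹ =
          g * ((sw (w01 hn) * sx (i0 hn) (i1 hn) c * (sw (w01 hn))⁻¹) *
            ((sw (w01 hn) * sY (i0 hn) a * (sw (w01 hn))⁻¹) * (sw (w01 hn) * sY (i1 hn) b * (sw (w01 hn))⁻¹))) *
            g⁻¹ := by group
      have c4 : Commute (sY (i1 hn) a) (sY (i0 hn) b) := sy_comm (fun e => (d01 hn).2 e) _ _
      rw [e, sw_sx, sw_sy, sw_sy, w01_0, w01_1, sx_symm, c4.eq, ← mul_assoc (sx (i0 hn) (i1 hn) c)]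
      exact hg
  · exact key a b c ha

open Cfsg.Agent.ZN

/-- **`TypU` over `Hyp0 ι T`.** -/
theorem typU {G : Type*} [Group G] [Finite G] {ι : Sy n F →* G} {T : Subgroup G} (H : Hyp0 ι T) (hn : 3 ≤ n) :
    TypU T ι.range ((X12 hn).map ι) ((US (i0 hn) (i1 hn)).map ι) := by
  intro u hu _
  obtain ⟨a, b, ha, hb, hza, hzb⟩ := H.exists_ab hn
  obtain ⟨A, hA, rfl⟩ := hu
  obtain ⟨g, hgN, hg⟩ := typ_US_N (Z := (zc T).comap ι) ha hb hza hzb hA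
  exact ⟨ι g, H.range_le ⟨g, rfl⟩, hgN.norm, by rw [← map_inv, ← map_mul, ← map_mul]; exact hg⟩

/-- **From `φ : G₀ ≃* PSp n F` to `SpK` and `TypU`** -/
theorem exists_spKU {G : Type*} [Group G] [Finite G] {T G₀ R : Subgroup G} (hT : IsPGroup 2 T) (hn : 3 ≤ n)
    (φ : ↥G₀ ≃* PSp n F) (hTG : T ≤ normalizer (G₀ : Set G)) (hcen : centralizer (G₀ : Set G) = ⊥)
    (hmax : ∀ P : Subgroup G, P ≤ G₀ → IsPGroup 2 P → T ⊓ G₀ ≤ P → P ≤ T) (hRT : R ≤ T ⊓ G₀)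
    (hTR : T ⊓ G₀ ≤ centralizer (R : Set G)) {ρ : Fin n → ℤ} {a b : Fin n × Bool} (hab : a.1 ≠ b.1)
    (e : ee ρ = wt a + wt b) (hR : ∀ x : ↥G₀, (x : G) ∈ R ↔ ∃ t : F, φ x = eSp n F ρ t) :
    ∃ Xb Ca Cb Qa Qb Ua : Subgroup G, SpK T G₀ R Xb Ca Cb Qa Qb Ua ∧ Nat.card Ua ≤ Nat.card R ^ 3 ∧
      TypU T G₀ R Ua := by
  have hr₀ := iota_range φ
  have hcen' : ∀ c : G, (∀ A, iota φ A * c = c * iota φ A) → c = 1 := by
    intro c hc
    have h1 : c ∈ centralizer (G₀ : Set G) := by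
      rw [Subgroup.mem_centralizer_iff]
      intro g hg
      rw [SetLike.mem_coe, ← hr₀] at hg
      obtain ⟨A, rfl⟩ := hg
      exact hc A
    rwa [hcen, Subgroup.mem_bot] at h1
  obtain ⟨ι, y, hy, hιe, hr, H⟩ := exists_hyp0 (iota_inj φ) hcen' hT (by rw [hr₀]; exact hTG)
    (by rw [hr₀]; exact hmax)
  have hRι : ∀ x, x ∈ R ↔ ∃ t : F, x = iota φ (sx (cv a) (cv b) t) := by
    intro x
    constructor
    · intro hx
      obtain ⟨t, ht⟩ := (hR ⟨x, (hRT hx).2⟩).1 hx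
      refine ⟨t, ?_⟩
      rw [eSp_eq hab e] at ht
      show x = ((φ.symm (Cfsg.Agent.Omega.HOneEnd.SpIota.toP n F _) : ↥G₀) : G)
      rw [← ht, MulEquiv.symm_apply_apply]
    · rintro ⟨t, rfl⟩
      exact (hR (φ.symm (Cfsg.Agent.Omega.HOneEnd.SpIota.toP n F _))).2
        ⟨t, by rw [MulEquiv.apply_symm_apply, eSp_eq hab e]⟩
  have hrG : ι.range = G₀ := hr.trans hr₀
  have hReq : R = (X12 hn).map ι := R_eq0 (iota_inj φ) hy hιe hr H hn (dj_cv hab) hRι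
    (by rw [hrG]; exact hTR)
  have hD := spK H hn
  have hU := typU H hn
  rw [hrG, ← hReq] at hD
  rw [hrG, ← hReq] at hU
  refine ⟨_, _, _, _, _, _, hD, (card_US ι hn).trans (Nat.pow_le_pow_left ?_ 3), hU⟩
  rw [hReq]
  exact card_X12 H.inj hn

/-- the same over `EndIn` -/
theorem spKU_of_endIn {G : Type*} [Group G] [Finite G] {T G₀ U R : Subgroup G} {v : G} (h : EndIn T G₀ U R v)
    (hn : 3 ≤ n) (φ : ↥G₀ ≃* PSp n F) {ρ : Fin n → ℤ} {a b : Fin n × Bool} (hab : a.1 ≠ b.1)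
    (e : ee ρ = wt a + wt b) (hR : ∀ x : ↥G₀, (x : G) ∈ R ↔ ∃ t : F, φ x = eSp n F ρ t) :
    ∃ Xb Ca Cb Qa Qb Ua : Subgroup G, SpK T G₀ R Xb Ca Cb Qa Qb Ua ∧ Nat.card Ua ≤ Nat.card R ^ 3 ∧
      TypU T G₀ R Ua := by
  have hUT : U ≤ T := by rw [← h.S_inf]; exact inf_le_left
  refine exists_spKU h.S_two hn φ h.S_G₀ h.cent (fun P hP hP2 hle => ?_) (by rw [h.S_inf]; exact h.R_U)
    (by rw [h.S_inf]; exact h.U_R) hab e hR
  rw [h.S_inf] at hle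
  have h1 : U.relIndex P ∣ U.relIndex G₀ := by
    have := Subgroup.relIndex_mul_relIndex U P G₀ hle hP
    exact ⟨_, this.symm⟩
  have h2 : Odd (U.relIndex P) := Odd.of_dvd_nat h.odd h1
  have : Fact (Nat.Prime 2) := ⟨Nat.prime_two⟩
  have h3 : U.relIndex P = 1 := by
    obtain ⟨k, hk⟩ := hP2.index (U.subgroupOf P)
    have h4 : U.relIndex P = 2 ^ k := hk
    rw [h4] at h2 ⊢
    rcases k with _ | k
    · rfl
    · exfalso
      rw [pow_succ] at h2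
      exact (Nat.not_even_iff_odd.2 h2) (even_iff_two_dvd.2 ⟨2 ^ k, by ring⟩)
  exact (Subgroup.relIndex_eq_one.1 h3).trans hUT

/-- the same with the literal output of THEOREM ID -/
theorem spKU_of_id {W : Type*} [Group W] [Finite W] (cs : CoxeterSystem (CoxeterMatrix.B n) W) {G : Type*} [Group G]
    [Finite G] {T G₀ U R : Subgroup G} {v : G} (h : EndIn T G₀ U R v) (hn : 3 ≤ n) (φ : ↥G₀ ≃* PSp n F)
    (hR : (R.subgroupOf G₀).map φ.toMonoidHom =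
      Cfsg.Agent.Nodes.WittModel.X (KInstSp.model n F) (Cfsg.Agent.Omega.HOneEnd.TwoInst.rhoC hn)) :
    ∃ Xb Ca Cb Qa Qb Ua : Subgroup G, SpK T G₀ R Xb Ca Cb Qa Qb Ua ∧ Nat.card Ua ≤ Nat.card R ^ 3 ∧
      TypU T G₀ R Ua := by
  have : Fact (Nat.Prime 2) := ⟨Nat.prime_two⟩
  have hr := (Cfsg.Agent.Omega.HOneEnd.TwoInst.two_C (cs := cs) hn).rρ.1
  refine spKU_of_endIn h hn φ (ρ := Cfsg.Agent.Omega.HOneEnd.TwoInst.rhoC hn) (a := (⟨0, by omega⟩, true))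
    (b := (⟨1, by omega⟩, true)) (by simp) ?_ fun x => ?_
  · unfold Cfsg.Agent.Omega.HOneEnd.TwoInst.rhoC
    rw [Cfsg.Agent.Nodes.KindBC.ee_rt]
  · have h1 : (x : G) ∈ R ↔ φ x ∈ (R.subgroupOf G₀).map φ.toMonoidHom := by
      constructor
      · exact fun hx => ⟨x, mem_subgroupOf.2 hx, rfl⟩
      · rintro ⟨y, hy, e⟩
        have : y = x := φ.injective e
        rw [← this]
        exact mem_subgroupOf.1 hy
    rw [h1, hR, (Cfsg.Agent.KFacts.SysSp.sys_PSp n F cs).mem_X _ hr]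
    exact ⟨fun ⟨t, e⟩ => ⟨t, e.symm⟩, fun ⟨t, e⟩ => ⟨t, e.symm⟩⟩

end Cfsg.Agent.Omega.IId.TypUSp

end
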