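import Cfsg.Agent.Mrg.Omega.All.Basic
import Cfsg.Agent.Mrg.Omega.FFMutual

section


/-!
# WrMain4, section 7 (A), over `HOneDat.Side` for a 2-group `T` (`= S₁`) of index at most two in a Sylow group

`D : Side T Y C X Q U`, `C ≤ N_G(Q)`, `SylN S T X` : `T ≤ S`, `|S : T| ≤ 2`, `T` is a Sylow 2-subgroup of `N_G(X)`.

* `le_of_fld` : a `B`-invariant subgroup of `T ≤ N_G(B)` lies in `O₂(B)`;
* `SylN.o2_eq` : `O₂(C_G(x)) = Q` for `1 ≠ x ∈ X`; `SylN.cen_le`, `SylN.cen_le_X` : `C_G(x) ≤ N_G(Q) ≤ N_G(X)`.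
-/

set_option autoImplicit false

namespace Cfsg.Agent.Omega.IId.M4

open Subgroup Cfsg Cfsg.Agent.ZN Cfsg.Agent.Omega.MinPar Cfsg.Agent.Omega.Frame
open Cfsg.Agent.ZN.ChoiceBase (cj card_cj)
open Cfsg.Agent.Omega.All Cfsg.Agent.Omega.All.HOne
open Cfsg.Agent.MinSimple.VModule (le_o2 mem_zc zc_le zc_comm o2_le o2_isPGroup le_normalizer_o2)
open Cfsg.Agent.MinSimple.Basic (char2_centralizer)

universe u

variable {G : Type u} [Group G]

/-- A `B`-invariant subgroup of `T ≤ N_G(B)` lies in `O₂(B)`. -/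
theorem le_of_fld {T B Q O : Subgroup G} (hT : IsPGroup 2 T) (hTB : T ≤ normalizer (B : Set G))
    (hQ : ∀ K : Subgroup G, IsPGroup 2 K → K ≤ B → B ≤ normalizer (K : Set G) → K ≤ Q)
    (hfld : ∀ t ∈ T, (∀ c ∈ B, t * c * t⁻¹ * c⁻¹ ∈ Q) → t ∈ Q) (hO : O ≤ T)
    (hBO : B ≤ normalizer (O : Set G)) : O ≤ Q := by
  intro t ht
  refine hfld t (hO ht) fun c hc => ?_
  have h2 : t * c * t⁻¹ * c⁻¹ ∈ B := mul_mem (conj_mem_of_normalizer (hTB (hO ht)) hc) (inv_mem hc)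
  have h3 : t * c * t⁻¹ * c⁻¹ ∈ O := by
    have e : t * c * t⁻¹ * c⁻¹ = t * (c * t⁻¹ * c⁻¹) := by group
    rw [e]
    exact mul_mem ht (conj_mem_of_normalizer (hBO hc) (inv_mem ht))
  refine hQ (O ⊓ B) ?_ inf_le_right ?_ ⟨h3, h2⟩
  · exact (hT.to_le hO).to_le inf_le_left
  · exact normalizer_inf_le hBO le_normalizer

/-- elements which normalise `B` from both sides -/
theorem mem_normalizer_of_inv {B : Subgroup G} {w : G} (h1 : ∀ b ∈ B, w * b * w⁻¹ ∈ B)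
    (h2 : ∀ b ∈ B, w⁻¹ * b * w ∈ B) : w ∈ normalizer (B : Set G) := by
  rw [mem_normalizer_iff]
  intro b
  refine ⟨h1 b, fun hb => ?_⟩
  have h3 := h2 _ hb
  have e : w⁻¹ * (w * b * w⁻¹) * w = b := by group
  rwa [e] at h3

/-- `N_G(B)` normalises the largest normal 2-subgroup `Q` of `B`. -/
theorem normalizer_le_of_max {B Q : Subgroup G} (hQ : IsPGroup 2 Q) (hQB : Q ≤ B)
    (hBQ : B ≤ normalizer (Q : Set G))
    (hmax : ∀ K : Subgroup G, IsPGroup 2 K → K ≤ B → B ≤ normalizer (K : Set G) → K ≤ Q) :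
    normalizer (B : Set G) ≤ normalizer (Q : Set G) := by
  refine le_normalizer_of fun g hg x hx => ?_
  have h1 : cj g Q ≤ Q := by
    refine hmax _ (hQ.map _) ?_ ?_
    · rintro _ ⟨y, hy, rfl⟩
      exact conj_mem_of_normalizer hg (hQB hy)
    · refine le_normalizer_of fun b hb y hy => ?_
      obtain ⟨w, hw, rfl⟩ := hy
      refine ⟨_, conj_mem_of_normalizer (hBQ (conj_mem_of_normalizer' hg hb)) hw, ?_⟩
      show g * ((g⁻¹ * b * g) * w * (g⁻¹ * b * g)⁻¹) * g⁻¹ = b * (g * w * g⁻¹) * b⁻¹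
      group
  exact h1 ⟨x, hx, rfl⟩

/-- `T` is a Sylow 2-subgroup of `N_G(X)`, of index at most two in the Sylow 2-subgroup `S` of `G`. -/
structure SylN (S T X : Subgroup G) : Prop where
  le : T ≤ S
  card : Nat.card S ≤ 2 * Nat.card T
  max : ∀ K : Subgroup G, IsPGroup 2 K → T ≤ K → K ≤ normalizer (X : Set G) → K ≤ T

namespace SylN

variable [Finite G] {S : Sylow 2 G} {T Y C X Q U : Subgroup G} (N : SylN (S : Subgroup G) T X)

include N

omit [Finite G] in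
theorem isPGroup : IsPGroup 2 T := S.isPGroup'.to_le N.le

/-- a 2-group over `T` -/
theorem relIndex_le {K : Subgroup G} (hK : IsPGroup 2 K) (hTK : T ≤ K) : T.relIndex K ≤ 2 := by
  obtain ⟨S', hS'⟩ := hK.exists_le_sylow
  have h1 : Nat.card K ≤ Nat.card S := by
    have h2 : Nat.card S' = Nat.card S := by rw [S'.card_eq_multiplicity, S.card_eq_multiplicity]
    rw [← h2]
    exact card_le_of_le hS'
  have h2 := relIndex_mul_relIndex ⊥ T K bot_le hTK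
  rw [relIndex_bot_left, relIndex_bot_left, mul_comm] at h2
  have h3 : 0 < Nat.card T := Nat.card_pos
  have h4 : T.relIndex K * Nat.card T ≤ 2 * Nat.card T := by
    rw [h2]
    exact h1.trans N.card
  exact Nat.le_of_mul_le_mul_right h4 h3

/-- A 2-group `O` normalised by `T`: an element which normalises `O` and `O ∩ T` centralises `O / (O ∩ T)`. -/
theorem comm_mem {O : Subgroup G} (hO : IsPGroup 2 O) (hTO : T ≤ normalizer (O : Set G)) {c w : G}
    (hc : c ∈ normalizer (O : Set G)) (hcT : c ∈ normalizer ((O ⊓ T : Subgroup G) : Set G)) (hw : w ∈ O) :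
    c * w * c⁻¹ * w⁻¹ ∈ O ⊓ T := by
  have hK : IsPGroup 2 ↥(O ⊔ T) := hO.to_sup_of_normal_left' N.isPGroup hTO
  have h1 : T.relIndex O ≤ 2 := by
    refine (relIndex_le_of_le_right le_sup_left ?_).trans (N.relIndex_le hK le_sup_right)
    exact (T.subgroupOf (O ⊔ T)).index_ne_zero_of_finite
  have h2 : T.relIndex O ∣ 2 := by
    have h3 : T.relIndex O ≠ 0 := (T.subgroupOf O).index_ne_zero_of_finite
    have h4 : T.relIndex O = 1 ∨ T.relIndex O = 2 := by omega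
    rcases h4 with h4 | h4 <;> rw [h4]
    exact one_dvd 2
  obtain ⟨a, ha, hab⟩ := relIndex_dvd_two_iff.1 h2
  have hwO := inv_mem hw
  have hcw : c * w⁻¹⁻¹ * c⁻¹ ∈ O := conj_mem_of_normalizer hc (inv_mem hwO)
  rw [inv_inv] at hcw
  refine mem_inf.2 ⟨mul_mem hcw hwO, ?_⟩
  by_cases hwT : w ∈ T
  · have h3 := conj_mem_of_normalizer hcT (x := w) ⟨hw, hwT⟩
    exact mul_mem h3.2 (inv_mem hwT)
  · have h3 : w * a ∈ T := (hab w hw).resolve_right hwT
    have h4 : c * w * c⁻¹ * a ∈ T := by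
      refine (hab _ hcw).resolve_right fun h5 => hwT ?_
      have h6 := conj_mem_of_normalizer' hcT (x := c * w * c⁻¹) ⟨hcw, h5⟩
      have e : c⁻¹ * (c * w * c⁻¹) * c = w := by group
      rw [e] at h6
      exact h6.2
    have e : c * w * c⁻¹ * w⁻¹ = (c * w * c⁻¹ * a) * (w * a)⁻¹ := by group
    rw [e]
    exact mul_mem h4 (inv_mem h3)

variable (D : Side T Y C X Q U) (hCQ : C ≤ normalizer (Q : Set G))
include D

omit [Finite G] N in
theorem Q_isPGroup (hT : IsPGroup 2 T) : IsPGroup 2 Q := hT.to_le D.Q_S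

/-- an element `≠ 1` of `X` centralised by `T` -/
theorem exists_z : ∃ z ∈ zc T, z ∈ X ∧ z ≠ 1 := by
  have hf : Fact (Nat.Prime 2) := ⟨Nat.prime_two⟩
  refine exists_zc_mem N.isPGroup D.X_S D.S_X (fun x hx => ?_) D.X_ne
  have h1 := D.X_el.2 x hx
  rwa [pow_two] at h1

include hCQ

/-- **(A)** for an element centralised by `T`. -/
theorem o2_eq_zc (hc : IsCharacteristicTwoType G) {z : G} (hz : ∀ t ∈ T, t * z = z * t) (hX : z ∈ X)
    (h1 : z ≠ 1) : o2 (centralizer ({z} : Set G)) = Q := by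
  set H := centralizer ({z} : Set G) with hH
  set O := o2 H with hO
  have hTH : T ≤ H := fun t ht => mem_centralizer_singleton_iff.2 (hz t ht)
  have hHO : H ≤ normalizer (O : Set G) := le_normalizer_o2 _
  have hOp : IsPGroup 2 O := o2_isPGroup _
  have hTO := hTH.trans hHO
  have hC : C ≤ H := D.C_X.trans (centralizer_le (by
    intro w hw
    rw [Set.mem_singleton_iff] at hw
    rw [hw]; exact hX))
  have hCO := hC.trans hHO
  have hCX : C ≤ normalizer (X : Set G) := D.C_X.trans (centralizer_le_normalizer _)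
  -- `O ∩ N(X) = O ∩ T`
  have h2 : O ⊓ normalizer (X : Set G) = O ⊓ T := by
    apply le_antisymm
    · have h3 : IsPGroup 2 ↥(O ⊓ normalizer (X : Set G) ⊔ T) :=
        (hOp.to_le inf_le_left).to_sup_of_normal_left' N.isPGroup
          (normalizer_inf_le hTO (D.S_X.trans le_normalizer))
      exact le_inf inf_le_left (le_sup_left.trans (N.max _ h3 le_sup_right (sup_le inf_le_right D.S_X)))
    · exact inf_le_inf le_rfl D.S_X
  have h3 : C ≤ normalizer ((O ⊓ T : Subgroup G) : Set G) := by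
    rw [← h2]
    exact normalizer_inf_le hCO (hCX.trans le_normalizer)
  have h4 : O ⊓ T ≤ Q := le_of_fld N.isPGroup D.S_C D.Q_max D.fld inf_le_right h3
  -- `O` normalises `C`
  have h5 : O ≤ normalizer (C : Set G) := by
    have key : ∀ w ∈ O, ∀ c ∈ C, w * c * w⁻¹ ∈ C := by
      intro w hw c hcC
      have h6 := D.Q_C (h4 (N.comm_mem hOp hTO (hCO (inv_mem hcC)) (h3 (inv_mem hcC)) hw))
      have e : w * c * w⁻¹ = c * (c⁻¹ * w * c⁻¹⁻¹ * w⁻¹) := by group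
      rw [e]
      exact mul_mem hcC h6
    exact le_normalizer_of key
  have h6 : O ≤ normalizer (X : Set G) :=
    (h5.trans (normalizer_le_of_max (N.isPGroup.to_le D.Q_S) D.Q_C hCQ D.Q_max)).trans D.norm_Q_le
  have h7 : O ≤ Q := by
    have h8 : O = O ⊓ T := by rw [← h2, inf_of_le_left h6]
    rw [h8]; exact h4
  refine D.irr _ h7 hCO ?_
  exact le_trans (inf_le_inf (D.Q_C.trans hC) le_rfl) (char2_centralizer hc (by
    have := D.X_el.2 z hX
    rwa [pow_two] at this ⊢) h1)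

/-- **(A)**: `O₂(C_G(x)) = Q` for `1 ≠ x ∈ X`. -/
theorem o2_eq (hc : IsCharacteristicTwoType G) {x : G} (hx : x ∈ X) (h1 : x ≠ 1) :
    o2 (centralizer ({x} : Set G)) = Q := by
  obtain ⟨z, hz, hX, hz1⟩ := N.exists_z D
  obtain ⟨y, hy, h2, h3, h4⟩ := D.trans x hx z hX h1 hz1
  have h7 := N.o2_eq_zc D hCQ hc (fun t ht => (mem_zc.1 hz).2.1 t ht) hX hz1
  rw [← h4] at h7
  have key : ∀ (a g : G), (o2 (centralizer ({a} : Set G))).map (MulAut.conj g).toMonoidHom ≤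
      o2 (centralizer ({g * a * g⁻¹} : Set G)) := by
    intro a g
    refine le_o2 ?_ ((o2_isPGroup _).map _) ?_
    · rintro _ ⟨w, hw, rfl⟩
      exact normalizer_centralizer_singleton w (o2_le _ hw)
    · refine le_normalizer_of fun l hl w hw => ?_
      obtain ⟨v, hv, rfl⟩ := hw
      have h8 : g⁻¹ * l * g ∈ centralizer ({a} : Set G) := by
        have := normalizer_centralizer_singleton (g := g⁻¹) l hl
        have e : g⁻¹ * (g * a * g⁻¹) * g⁻¹⁻¹ = a := by group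
        rwa [e, inv_inv] at this
      refine ⟨_, conj_mem_of_normalizer (le_normalizer_o2 _ h8) hv, ?_⟩
      show g * ((g⁻¹ * l * g) * v * (g⁻¹ * l * g)⁻¹) * g⁻¹ = l * (g * v * g⁻¹) * l⁻¹
      group
  apply le_antisymm
  · intro w hw
    have h8 := key x y ⟨w, hw, rfl⟩
    rw [h7] at h8
    have h9 := conj_mem_of_normalizer' h3 h8
    have e : y⁻¹ * ((MulAut.conj y).toMonoidHom w) * y = w := by
      show y⁻¹ * (y * w * y⁻¹) * y = w
      group
    rwa [e] at h9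
  · intro w hw
    have h8 := conj_mem_of_normalizer h3 hw
    rw [← h7] at h8
    have h9 := key (y * x * y⁻¹) y⁻¹ ⟨_, h8, rfl⟩
    have e : y⁻¹ * (y * x * y⁻¹) * y⁻¹⁻¹ = x := by group
    rw [e] at h9
    have e2 : (MulAut.conj y⁻¹).toMonoidHom (y * w * y⁻¹) = w := by
      show y⁻¹ * (y * w * y⁻¹) * y⁻¹⁻¹ = w
      group
    rwa [e2] at h9

/-- **(A)**: `C_G(x) ≤ N_G(Q)` for `1 ≠ x ∈ X`. -/
theorem cen_le (hc : IsCharacteristicTwoType G) {x : G} (hx : x ∈ X) (h1 : x ≠ 1) :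
    centralizer ({x} : Set G) ≤ normalizer (Q : Set G) := by
  rw [← N.o2_eq D hCQ hc hx h1]
  exact le_normalizer_o2 _

/-- **(A)**: `C_G(x) ≤ N_G(X)` for `1 ≠ x ∈ X`. -/
theorem cen_le_X (hc : IsCharacteristicTwoType G) {x : G} (hx : x ∈ X) (h1 : x ≠ 1) :
    centralizer ({x} : Set G) ≤ normalizer (X : Set G) := (N.cen_le D hCQ hc hx h1).trans D.norm_Q_le

end SylN

end Cfsg.Agent.Omega.IId.M4

end

section


/-!
# WrMain4, section 6: `s` normalises `G₀`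

`D : Side T Y C_a X_a Q_a U_a`, `C_a ≤ N_G(Q_a)`, `N : SylN S T X_a`, `s ∈ N_G(T)`, `1 ≠ r ∈ X_a`.  The other root group
`X_b` with `C_b ≤ C_G(X_b)`, `Q_b = O₂(C_b)`.

* `mem_other` : `r₂ ∈ X_b` for `r₂ ∈ Z(T ∩ G₀)` outside `X_a` with `C_{G₀}(r₂) ≰ N_G(X_a)`;
* `swap_le` : `r^s ∈ X_b` implies `Q_a^s ≤ Q_b`; `swap_false` : `Q_b` is not abelian (`Sp_{2n}(q)` dies);
* `swap_eq`, `swap_X` : if the `b`-side is a `Side` too: `Q_a^s = Q_b`, `X_a^s = X_b`;
* `swap_mem` : `s ∈ N_G(G₀)`.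

* `swap_X'`, `swap_Q'`, `swap_U`, `swap_U'`, `swap_C`, `swap_C'` : `s` swaps `X_a`, `X_b`; `Q_a`, `Q_b`; `U_a`, `U_b`; `C_a`, `C_b`.
-/

set_option autoImplicit false

namespace Cfsg.Agent.Omega.IId.M4

open Subgroup Cfsg Cfsg.Agent.ZN Cfsg.Agent.Omega.MinPar Cfsg.Agent.Omega.Frame
open Cfsg.Agent.ZN.ChoiceBase (cj mem_cj card_cj cj_mono cj_le_iff cj_normalizer cj_cj_inv cj_inv_cj
  cj_eq_of_mem_normalizer mem_normalizer_iff_cj)
open Cfsg.Agent.Omega.All Cfsg.Agent.Omega.All.HOne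
open Cfsg.Agent.MinSimple.VModule (le_o2 mem_zc zc_le zc_comm o2_le o2_isPGroup le_normalizer_o2)
open Cfsg.Agent.MinSimple.Basic (char2_centralizer)

universe u

variable {G : Type u} [Group G]

/-- **(1)** `r₂ ∈ X_b`. -/
theorem mem_other {G₀ U Xa Xb : Subgroup G}
    (hz : ∀ z ∈ U, U ≤ centralizer ({z} : Set G) → ∃ x ∈ Xa, ∃ y ∈ Xb, z = x * y)
    (hmix : ∀ x ∈ Xa, ∀ y ∈ Xb, x ≠ 1 → y ≠ 1 → G₀ ⊓ centralizer ({x * y} : Set G) ≤ normalizer (Xa : Set G))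
    {r₂ : G} (hU : r₂ ∈ U) (hcU : U ≤ centralizer ({r₂} : Set G)) (hn : r₂ ∉ Xa)
    (hc : ¬ G₀ ⊓ centralizer ({r₂} : Set G) ≤ normalizer (Xa : Set G)) : r₂ ∈ Xb := by
  obtain ⟨x, hx, y, hy, rfl⟩ := hz r₂ hU hcU
  by_cases hy1 : y = 1
  · exact absurd (by rw [hy1, mul_one]; exact hx) hn
  by_cases hx1 : x = 1
  · rw [hx1, one_mul]; exact hy
  exact absurd (hmix x hx y hy hx1 hy1) hc

section swap

variable [Finite G] {S : Sylow 2 G} {T Y Ca Xa Qa Ua : Subgroup G} (N : SylN (S : Subgroup G) T Xa)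
  (D : Side T Y Ca Xa Qa Ua) (hCQ : Ca ≤ normalizer (Qa : Set G)) (hG : IsCharacteristicTwoType G)
  {s r : G} (hs : s ∈ normalizer (T : Set G)) (hr : r ∈ Xa) (hr1 : r ≠ 1) {Cb Xb Qb : Subgroup G}
  (hrb : s * r * s⁻¹ ∈ Xb) (hCX : Cb ≤ centralizer (Xb : Set G))

omit [Finite G] in
include hrb hCX in
theorem conj_mem_cen {c : G} (hc : c ∈ Cb) : s⁻¹ * c * s ∈ centralizer ({r} : Set G) := by
  have h1 := mem_centralizer_iff.1 (hCX hc) _ hrb
  rw [mem_centralizer_singleton_iff]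
  calc s⁻¹ * c * s * r = s⁻¹ * (c * (s * r * s⁻¹)) * s := by group
    _ = r * (s⁻¹ * c * s) := by rw [← h1]; group

include N D hCQ hG hr hr1 hrb hCX in
/-- `C_b` normalises `Q_a^s` -/
theorem swap_norm : Cb ≤ normalizer ((cj s Qa : Subgroup G) : Set G) := by
  refine le_normalizer_of fun c hc x hx => ?_
  rw [mem_cj] at hx ⊢
  have h1 := N.cen_le D hCQ hG hr hr1 (conj_mem_cen hrb hCX hc)
  have h2 := conj_mem_of_normalizer h1 hx
  have e : s⁻¹ * c * s * (s⁻¹ * x * s) * (s⁻¹ * c * s)⁻¹ = s⁻¹ * (c * x * c⁻¹) * s := by group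
  rwa [e] at h2

include N D hCQ hG hs hr hr1 hrb hCX in
/-- **(2)** `Q_a^s ≤ Q_b` -/
theorem swap_le (hTC : T ≤ normalizer (Cb : Set G))
    (hmax : ∀ K : Subgroup G, IsPGroup 2 K → K ≤ Cb → Cb ≤ normalizer (K : Set G) → K ≤ Qb)
    (hfld : ∀ t ∈ T, (∀ c ∈ Cb, t * c * t⁻¹ * c⁻¹ ∈ Qb) → t ∈ Qb) : cj s Qa ≤ Qb := by
  refine le_of_fld N.isPGroup hTC hmax hfld ?_ (swap_norm N D hCQ hG hr hr1 hrb hCX)
  have h1 := cj_mono s D.Q_S
  rwa [cj_eq_of_mem_normalizer hs] at h1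

omit [Finite G] in
include D in
theorem cj_X (s : G) : cj s Xa = ⁅cj s Qa, cj s Qa⁆ := by
  show Subgroup.map _ Xa = ⁅Subgroup.map _ Qa, Subgroup.map _ Qa⁆
  rw [← D.comm, map_commutator]

include N D hCQ hG hs hr hr1 hrb hCX in
/-- `Q_b` is not abelian: the end for `Sp_{2n}(q)`. -/
theorem swap_false (hTC : T ≤ normalizer (Cb : Set G))
    (hmax : ∀ K : Subgroup G, IsPGroup 2 K → K ≤ Cb → Cb ≤ normalizer (K : Set G) → K ≤ Qb)
    (hfld : ∀ t ∈ T, (∀ c ∈ Cb, t * c * t⁻¹ * c⁻¹ ∈ Qb) → t ∈ Qb)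
    (hab : Qb ≤ centralizer (Qb : Set G)) : False := by
  have h1 := swap_le N D hCQ hG hs hr hr1 hrb hCX hTC hmax hfld
  have h2 : cj s Xa = ⊥ := by
    rw [cj_X D s, commutator_eq_bot_iff_le_centralizer]
    exact h1.trans (hab.trans (centralizer_le h1))
  apply D.X_ne
  rw [← cj_inv_cj s Xa, h2]
  exact Subgroup.map_bot _

variable {Ub : Subgroup G} (Db : Side T Y Cb Xb Qb Ub)

include N D hCQ hG hs hr hr1 hrb Db in
/-- **(3)** `Q_a^s = Q_b` -/
theorem swap_eq : cj s Qa = Qb := by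
  have h1 := swap_le N D hCQ hG hs hr hr1 hrb Db.C_X Db.S_C Db.Q_max Db.fld
  refine Db.irr _ h1 (swap_norm N D hCQ hG hr hr1 hrb Db.C_X) ?_
  rintro x ⟨hx, hx1⟩
  rw [mem_cj]
  have h2 := conj_mem_cen hrb Db.C_X (Db.Q_C hx)
  have h3 := char2_centralizer hG (by
    have := D.X_el.2 r hr
    rwa [pow_two] at this ⊢) hr1
  rw [N.o2_eq D hCQ hG hr hr1] at h3
  refine h3 ⟨h2, mem_centralizer_iff.2 fun y hy => ?_⟩
  have h4 := mem_centralizer_iff.1 hx1 (s * y * s⁻¹) (by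
    rw [SetLike.mem_coe, mem_cj]
    have e : s⁻¹ * (s * y * s⁻¹) * s = y := by group
    rw [e]; exact hy)
  calc y * (s⁻¹ * x * s) = s⁻¹ * (s * y * s⁻¹ * x) * s := by group
    _ = s⁻¹ * x * s * y := by rw [h4]; group

include N D hCQ hG hs hr hr1 hrb Db in
/-- **(3)** `X_a^s = X_b` -/
theorem swap_X : cj s Xa = Xb := by
  rw [cj_X D s, swap_eq N D hCQ hG hs hr hr1 hrb Db, Db.comm]

include N D hCQ hG hs hr hr1 hrb Db in
/-- **(4)** `s ∈ N_G(G₀)` -/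
theorem swap_mem {G₀ W X₁ L₁ : Subgroup G} (hsimple : IsSimpleGroup ↥G₀)
    (hN : normalizer (Xa : Set G) ≤ normalizer (G₀ : Set G))
    (hmax : ∀ M ≤ G₀, G₀ ⊓ normalizer (Xb : Set G) < M → M = G₀) (hCa : Ca ≤ G₀) (hCb : Cb ≤ G₀)
    (hX₁ : X₁ ≤ G₀) (hX₁n : ¬ X₁ ≤ normalizer (Xa : Set G))
    (hgen : ∀ K : Subgroup G, W ≤ K → L₁ ≤ normalizer (K : Set G) → X₁ ≤ K) (hW : W ≤ Qa)
    (hL : cj s L₁ ≤ normalizer (G₀ : Set G)) : s ∈ normalizer (G₀ : Set G) := by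
  have hQ := swap_eq N D hCQ hG hs hr hr1 hrb Db
  have hX := swap_X N D hCQ hG hs hr hr1 hrb Db
  -- `X₁^s ≤ G₀`
  have h1 : cj s X₁ ≤ G₀ := by
    rw [cj_le_iff]
    refine hgen _ ?_ ?_
    · rw [← cj_le_iff]
      refine (cj_mono s hW).trans ?_
      rw [hQ]
      exact Db.Q_C.trans hCb
    · rw [← cj_normalizer, ← cj_le_iff]
      exact hL
  -- `G₀ ≤ N_G(G₀^s)`
  have h2 : G₀ ⊓ normalizer ((cj s G₀ : Subgroup G) : Set G) = G₀ := by
    refine hmax _ inf_le_left (lt_of_le_of_ne ?_ ?_)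
    · refine le_inf inf_le_left (inf_le_right.trans ?_)
      rw [← hX, ← cj_normalizer, ← cj_normalizer]
      exact cj_mono s hN
    · intro h3
      apply hX₁n
      have h4 : cj s X₁ ≤ normalizer (Xb : Set G) := by
        have h5 : cj s X₁ ≤ G₀ ⊓ normalizer ((cj s G₀ : Subgroup G) : Set G) :=
          le_inf h1 ((cj_mono s hX₁).trans le_normalizer)
        rw [← h3] at h5
        exact h5.trans inf_le_right
      rw [← hX, ← cj_normalizer] at h4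
      have h5 := cj_mono s⁻¹ h4
      rwa [cj_inv_cj, cj_inv_cj] at h5
  have h3 : G₀ ≤ normalizer ((cj s G₀ : Subgroup G) : Set G) := by
    conv_lhs => rw [← h2]
    exact inf_le_right
  -- `G₀ ∩ G₀^s` is normal in `G₀`
  have h4 : ((cj s G₀).subgroupOf G₀).Normal := by
    constructor
    intro x hx g
    rw [mem_subgroupOf] at hx ⊢
    exact conj_mem_of_normalizer (h3 g.2) hx
  have h5 : G₀ ≤ cj s G₀ := by
    rcases hsimple.eq_bot_or_eq_top_of_normal _ h4 with h6 | h6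
    · exfalso
      obtain ⟨z, -, hzX, hz1⟩ := N.exists_z D
      apply hz1
      have hzQ : s * z * s⁻¹ ∈ cj s Qa := by
        rw [mem_cj]
        have e : s⁻¹ * (s * z * s⁻¹) * s = z := by group
        rw [e]
        exact D.X_Q hzX
      have hz2 : s * z * s⁻¹ ∈ G₀ := by
        rw [hQ] at hzQ
        exact hCb (Db.Q_C hzQ)
      have hz3 : s * z * s⁻¹ ∈ cj s G₀ := cj_mono s (D.Q_C.trans hCa) hzQ
      have h7 : (⟨s * z * s⁻¹, hz2⟩ : G₀) ∈ (cj s G₀).subgroupOf G₀ := mem_subgroupOf.2 hz3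
      rw [h6, mem_bot] at h7
      have h8 : s * z * s⁻¹ = 1 := congrArg Subtype.val h7
      have h9 : z = s⁻¹ * (s * z * s⁻¹) * s := by group
      rw [h9, h8]; group
    · exact subgroupOf_eq_top.1 h6
  rw [mem_normalizer_iff_cj]
  exact (eq_of_le_of_card_ge h5 (card_cj s G₀).le).symm

include N D hCQ hG hs hr hr1 hrb Db in
theorem swap_U : cj s Ua = Ub := by
  rw [D.U_eq, Db.U_eq, ChoiceBase.cj_inf, ChoiceBase.cj_centralizer, swap_eq N D hCQ hG hs hr hr1 hrb Db]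

include N D hCQ hG hs hr hr1 hrb Db in
/-- `X_b^s = X_a` -/
theorem swap_X' (hs2 : s * s ∈ T) : cj s Xb = Xa := by
  rw [← swap_X N D hCQ hG hs hr hr1 hrb Db, ChoiceBase.cj_cj]
  exact cj_eq_of_mem_normalizer (D.S_X hs2)

include N D hCQ hG in
/-- `T ≤ N_G(Q_a)` -/
theorem T_Q : T ≤ normalizer (Qa : Set G) := by
  obtain ⟨z, hz, hX, h1⟩ := N.exists_z D
  refine le_trans (fun t ht => ?_) (N.cen_le D hCQ hG hX h1)
  exact mem_centralizer_singleton_iff.2 ((mem_zc.1 hz).2.1 t ht)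

include N D hCQ hG hs hr hr1 hrb Db in
/-- `Q_b^s = Q_a` -/
theorem swap_Q' (hs2 : s * s ∈ T) : cj s Qb = Qa := by
  rw [← swap_eq N D hCQ hG hs hr hr1 hrb Db, ChoiceBase.cj_cj]
  exact cj_eq_of_mem_normalizer (T_Q N D hCQ hG hs2)

include N D hCQ hG hs hr hr1 hrb Db in
theorem swap_U' (hs2 : s * s ∈ T) : cj s Ub = Ua := by
  rw [D.U_eq, Db.U_eq, ChoiceBase.cj_inf, ChoiceBase.cj_centralizer, swap_Q' N D hCQ hG hs hr hr1 hrb Db hs2]

include N D hCQ hG hs hr hr1 hrb Db in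
/-- `C_a^s = C_b` -/
theorem swap_C {G₀ : Subgroup G} (hCa : Ca = G₀ ⊓ centralizer (Xa : Set G))
    (hCb : Cb = G₀ ⊓ centralizer (Xb : Set G)) (hsG : s ∈ normalizer (G₀ : Set G)) : cj s Ca = Cb := by
  rw [hCa, hCb, ChoiceBase.cj_inf, ChoiceBase.cj_centralizer, swap_X N D hCQ hG hs hr hr1 hrb Db,
    cj_eq_of_mem_normalizer hsG]

include N D hCQ hG hs hr hr1 hrb Db in
/-- `C_b^s = C_a` -/
theorem swap_C' (hs2 : s * s ∈ T) {G₀ : Subgroup G} (hCa : Ca = G₀ ⊓ centralizer (Xa : Set G))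
    (hCb : Cb = G₀ ⊓ centralizer (Xb : Set G)) (hsG : s ∈ normalizer (G₀ : Set G)) : cj s Cb = Ca := by
  rw [hCa, hCb, ChoiceBase.cj_inf, ChoiceBase.cj_centralizer, swap_X' N D hCQ hG hs hr hr1 hrb Db hs2,
    cj_eq_of_mem_normalizer hsG]

end swap

end Cfsg.Agent.Omega.IId.M4

end
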